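import Cfsg.Agent.Fgs1.Ko12
import Cfsg.Agent.Perm.Semiaffine
import Cfsg.Agent.S0228

/-! A unique element of the two-point stabiliser fixing a third point: the groups of Ree type. -/

set_option autoImplicit false
set_option linter.unusedSectionVars false

namespace CF.Ko
open MulAction Subgroup Cfsg CF.BG CF.Bender CF.ZD CF.Tw
open scoped commutatorElement MatrixGroups

universe u v
variable {G : Type u} {Ω : Type v} [Group G] [Finite G] [MulAction G Ω] [Finite Ω]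
variable {A B C E H I K L M N O P Q R S T W X Y Z : Subgroup G} {Δ : Set Ω} {a b c d o : Ω}
  {g i m n p s t u v w x y z : G}

local notation "𝐒" => MulAction.stabilizer G
local notation "𝐅" u:max => Fx Ω (zpowers u)

theorem T2.zodd (h : T2 G Ω) (h3 : Perm.Three G Ω) (big : 2 < Nat.card Ω) (ev : Nat.card Ω % 2 = 0) (n : a ≠ b)
    (o : Odd (♯(D2 G a b))) : Abel (D2 G a b) := by
  by_cases ne : D2 G a b = ⊥
  · exact ne ▸ abel_bot
  by_cases r : EqF.Reg G Ω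
  · obtain ⟨P, Z⟩ := Perm.exists_zsetup h.two h3 n.symm
    obtain ⟨N, nm, tr, fix⟩ := r
    have := Z.card_eq n.symm
    have : IsPretransitive N Ω := ⟨fun x y => let ⟨g, hg, e⟩ := tr x y; ⟨⟨g, hg⟩, e⟩⟩
    have c : Cyc P := Perm.ZS.comm_of_odd_regular Z n.symm ne (Nat.odd_iff.2 (by omega)) N
      ((Perm.stabilizer_subgroup_eq_bot_iff N a).2 (fix a))
    obtain ⟨u, hu, u1⟩ := exists_mem_ne_one (one_lt_card.1 (show 1 < ♯P by omega))
    exact der_eq_bot.1 (eq_bot_iff.2 fun x hx => Z.semireg n.symm (der_le _ hx) hu u1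
      (mul_inv_eq_iff_eq_mul.2 (mem_cent.1 (c.der_le_cent (Z.stab2_le_normalizer b) hx) u hu).symm))
  have hZ : IsZassenhausGroup G Ω := ⟨h.faith, h.two, fun g a b c n1 n2 n3 => h3 g a b c n1 n3 n2,
    let ⟨x, hx, x1⟩ := exists_mem_ne_one ne; ⟨x, x1, a, b, n, hx⟩,
    fun N hN t => by_contra fun k => r (.of hN t fun a => by_contra fun e => k ⟨a, e⟩)⟩
  rcases EqF.zass_cases hZ n with ⟨F, _, _, c, ⟨φ⟩⟩ | ⟨F, _, _, m, -, c, c', -⟩ | ⟨k, -⟩
  · have l : 4 ≤ Nat.card F := by_contra fun l => by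
      have k := Classical.card_PSL2_of_card (F := F) (q := 3) (n := 12) (by rw [← Nat.card_eq_fintype_card] at c; omega) rfl
      rw [← Nat.card_congr φ.toEquiv, h.card n, show Nat.card Ω = 4 by rw [← Nat.card_eq_fintype_card] at c; omega] at k
      exact ne (card_eq_one'.1 (by omega))
    haveI := Classical.isSimpleGroup_PSL2 l
    haveI := φ.isSimpleGroup
    exact Cyc.abel (Agent.S0345.result hZ n).1
  · rw [c', c, ← pow_mul, Nat.add_mod, Nat.even_iff.1 (Nat.even_pow.2 ⟨even_two, by omega⟩)] at ev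
    omega
  · exact absurd k (Nat.not_even_iff_odd.2 o)

theorem T2.sub (h : T2 G Ω) (big : 2 < Nat.card Ω) (ev : Nat.card Ω % 2 = 0) : T2 (R2 (⊤ : Subgroup G)) Ω :=
  ⟨fun a b c d n m =>
    let ⟨g, hg, e⟩ := (h.top.r2 (Set.ncard_univ Ω ▸ big) (Set.ncard_univ Ω ▸ ev)).tt a trivial b trivial c trivial d trivial n m
    ⟨⟨g, hg⟩, e⟩, fun g e => Subtype.ext (h.ff g e)⟩

theorem T2.zcyc (h : T2 G Ω) (h3 : Perm.Three G Ω) (n4 : Nat.card Ω % 4 = 0) (n : a ≠ b) : Cyc (D2 G a b) := by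
  have big : 2 < Nat.card Ω := by have := Finite.one_lt_card_iff_nontrivial.2 ⟨a, b, n⟩; omega
  have fx : ∀ x ∈ D2 G a b, x ≠ 1 → 𝐅 x = {a, b} := fun x hx x1 =>
    (Set.pair_subset (fx_zp.2 hx.1) (fx_zp.2 hx.2)).antisymm' fun c hc => h3.eq_or_eq x1 n hx.1 hx.2 (fx_zp.1 hc)
  have ab := (h.sub big (by omega)).zodd (h3.subgroup _) big (by omega) n (odd_of_no_iv fun x hx i => by
    obtain ⟨N, k, e⟩ := exists_sgn' (G := G) (Ω := Ω)
    have i := iv_coe.2 i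
    rw [← relIndex_top_right] at k
    have := (e x (by rw [show 4 = 2 * 2 from rfl, pow_mul, pow_two (x : G), i.sq, one_pow])).1
      (R2_le_of (normalIn_of_two le_top k).norm ((piNat_self p2).dvd k) x.2)
    rw [i.sq, fx x hx i.ne, Set.ncard_pair n, Set.eq_univ_of_forall fun c => fx_zp.2 (one_smul G c), Set.ncard_univ] at this
    omega)
  obtain ⟨c, -, n1, n2⟩ := exists_third (Set.ncard_univ Ω ▸ big) a b
  have two : ∀ x ∈ D2 G a b, PiElt {2} x → ∀ y ∈ D2 G a b, y * x = x * y := fun x hx k y hy => by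
    by_cases x1 : x = 1
    · simp [x1]
    have d := card_dvd_ncard (P := zpowers x) (S := {a, b}ᶜ) (Set.toFinite _) (fun g hg c hc e => hc (e.imp
      (fun e => smul_left_cancel g (e.trans (zpowers_le.2 hx hg).1.symm))
      fun e => smul_left_cancel g (e.trans (zpowers_le.2 hx hg).2.symm)))
      fun c hc g hg e => by_contra fun g1 => hc ((fx g (zpowers_le.2 hx hg) g1).le (fx_zp.2 e))
    have := Set.ncard_add_ncard_compl ({a, b} : Set Ω)
    rw [Set.ncard_pair n] at this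
    have sq : x * x = 1 := by
      rw [← pow_two, ← orderOf_dvd_iff_pow_eq_one, ← Nat.card_zpowers]
      exact dvd_two_of k.zpowers (card_pos' _).ne' fun e => by have := e.trans d; omega
    exact mul_inv_eq_iff_eq_mul.1 (h3.invol_unique h.two n n1 n2 (conj_mem_of_norm (le_norm_self _ hy) hx) hx
      (by simpa using x1) x1 (KI.conj_sq sq y) sq)
  have : IsMulCommutative (D2 G a b) := Abel.comm (abel_of_forall fun g hg k hk => by
    obtain ⟨x, y, hx, hy, k1, k2, rfl⟩ := exists_piPart {2} g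
    obtain ⟨z, w, hz, hw, k3, k4, rfl⟩ := exists_piPart {2} k
    have e := congrArg Subtype.val (ab.mul_comm (x := ⟨y, mem_R2 trivial k2⟩) (y := ⟨w, mem_R2 trivial k4⟩)
      (zpowers_le.2 hg hy :) (zpowers_le.2 hk hw :))
    rw [mul_assoc, ← two x (zpowers_le.2 hg hx) k1 _ (mul_mem (zpowers_le.2 hg hy) hk), ← mul_assoc,
      two z (zpowers_le.2 hk hz) k3 y (zpowers_le.2 hg hy), mul_assoc z, show y * w = w * y from e,
      ← two x (zpowers_le.2 hg hx) k1 y (zpowers_le.2 hg hy)]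
    simp only [mul_assoc])
  obtain ⟨P, Z⟩ := Perm.exists_zsetup h.two h3 n.symm
  exact (Perm.ZS.semiReg Z n.symm).isCyclic_of_isMulCommutative (Z.stab2_le_normalizer b) (Perm.ZS.ne_bot Z n.symm n1 n2.symm)

theorem mem_R2_cj (h : x ∈ R2 (𝐂₁ t)) (g : G) : g * x * g⁻¹ ∈ R2 (𝐂₁ (g * t * g⁻¹)) :=
  cj_cent1 g t ▸ map_R2_le _ _ (conj_mem_cj.2 h)

theorem mem_R2_cj' : g * x * g⁻¹ ∈ R2 (𝐂₁ (g * t * g⁻¹)) ↔ x ∈ R2 (𝐂₁ t) :=
  ⟨fun h => by simpa [mul_assoc] using mem_R2_cj h g⁻¹, fun h => mem_R2_cj h g⟩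

theorem mul_mem_two (sq : ∀ x ∈ E, x * x = 1) (hu : u ∈ E) (h2 : ∀ x ∈ E, x ∈ Q ∨ u * x ∈ Q) (hx : x ∈ E) (hy : y ∈ E) :
    x * y ∈ Q ↔ (x ∈ Q ↔ y ∈ Q) := by
  by_cases m : x ∈ Q
  · simp [m, mul_mem_cancel_left m]
  by_cases m' : y ∈ Q
  · simp [m, m', mul_mem_cancel_right m']
  have := mul_mem ((h2 x hx).resolve_left m) ((h2 y hy).resolve_left m')
  rw [Commute.mul_mul_mul_comm ((abel_of_sq sq).mul_comm hx hu), sq u hu, one_mul] at this
  simp [m, m', this]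

theorem tour (sq : ∀ x ∈ E, x * x = 1) (Q : G → Subgroup G) (h2 : ∀ u ∈ E, u ≠ 1 → ∀ x ∈ E, x ∈ Q u ∨ u * x ∈ Q u)
    (h3 : ∀ u ∈ E, ∀ v ∈ E, u ≠ 1 → v ≠ 1 → u ≠ v → (v ∈ Q u ↔ u ∉ Q v)) : ♯E ≤ 8 := by
  by_contra! l
  have step : ∀ V ≤ E, ♯V ≤ 8 → ∃ x ∈ E, x ∉ V ∧ V ⊔ zpowers x ≤ E ∧ ♯(V ⊔ zpowers x : Subgroup G) = 2 * ♯V :=
    fun V k c => by
      obtain ⟨x, hx, n⟩ := SetLike.not_le_iff_exists.1 fun e : E ≤ V => (card_le e).not_gt (c.trans_lt l)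
      exact ⟨x, hx, n, sup_le k (zpowers_le.2 hx), KI.card_sup_iv (Iv.orderOf ⟨fun e => n (e ▸ one_mem V), sq x hx⟩)
        ((abel_of_sq sq).le_norm k hx) n⟩
  obtain ⟨v, hv, v1, l1, c1⟩ := step ⊥ bot_le (by simp)
  rw [card_bot] at c1
  obtain ⟨w, hw, w1, l2, c2⟩ := step _ l1 (by omega)
  obtain ⟨x, hx, x1, l3, c3⟩ := step _ l2 (by omega)
  obtain ⟨y, hy, y1, -⟩ := step _ l3 (by omega)
  have mv : v ∈ ⊥ ⊔ zpowers v := mem_sup_right (mem_zpowers v)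
  set V := ⊥ ⊔ zpowers v ⊔ zpowers w
  have mw : w ∈ V := mem_sup_right (mem_zpowers w)
  have n1 : v ≠ 1 := v1
  have n2 : w ≠ 1 := fun e => w1 (e ▸ one_mem _)
  have n3 : v * w ≠ 1 := fun e => w1 (eq_inv_of_mul_eq_one_right e ▸ inv_mem mv)
  have key : ∀ u ∈ E, u ∉ V → (u ∉ Q (v * w) ↔ (u ∉ Q v ↔ u ∉ Q w)) := fun u hu n => by
    have u1 : u ≠ 1 := fun e => n (e ▸ one_mem V)
    rw [← h3 u hu _ (mul_mem hv hw) u1 n3 fun e => n (e ▸ mul_mem (mem_sup_left mv) mw),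
      ← h3 u hu v hv u1 n1 fun e => n (e ▸ mem_sup_left mv), ← h3 u hu w hw u1 n2 fun e => n (e ▸ mw)]
    exact mul_mem_two sq hu (h2 u hu u1) hv hw
  have k1 := key x hx x1
  have k2 := key y hy fun m => y1 (mem_sup_left m)
  have k3 := key _ (mul_mem hx hy) fun m => y1 ((mul_mem_cancel_left (mem_sup_right (mem_zpowers x))).1 (mem_sup_left m))
  rw [mul_mem_two sq hv (h2 v hv n1) hx hy, mul_mem_two sq hw (h2 w hw n2) hx hy,
    mul_mem_two sq (mul_mem hv hw) (h2 _ (mul_mem hv hw) n3) hx hy] at k3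
  grind

namespace R0
variable (h : R0 t a b)
include h

theorem kt (f4 : (𝐅 t).ncard % 4 = 0) : KT G Ω := by
  refine ⟨h.toT2, fun c d n => ?_⟩
  obtain ⟨g, rfl, rfl⟩ := h.tt a b c d h.ne n
  rw [← cj_D2, cyc_cj]
  obtain ⟨X, _, _, _, π, q⟩ := exists_quot h.ci.ctt.inv
  have c := (q.t2 h.ci.ctt).zcyc (fun y c d e n1 n2 n3 e1 e2 e3 => by
    obtain ⟨y, rfl⟩ := q.sur y
    refine q.eq_one.2 (fx_anti (zpowers_le.2 ((PG.mem_zp h.iv).2 ((h.move (Subtype.val_injective.ne n1)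
      ⟨fx_zp.1 c.2, fx_zp.1 d.2⟩ h.t1 h.big).or ⟨q.iff.1 e1, q.iff.1 e2⟩ (q.iff.1 e3) (Subtype.val_injective.ne n2.symm)
        (Subtype.val_injective.ne n3.symm))))) ) f4 (a := ⟨a, h.ci.ha⟩) (b := ⟨b, h.ci.hb⟩)
    fun e => h.ne (congrArg Subtype.val e)
  obtain ⟨y, e⟩ := c.exists_gen
  obtain ⟨x, rfl⟩ := q.sur y
  have hx : (x : G) ∈ D2 G a b := q.d2.1 (e.le (mem_zpowers _))
  have l : D2 G a b ≤ zpowers (x : G) ⊔ zpowers t := fun g hg => by
    obtain ⟨j, k⟩ := e.ge ((q.d2 (g := ⟨g, h.le hg⟩)).2 hg)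
    refine (mul_mem_cancel_left (inv_mem (mem_sup_left (zpow_mem_zpowers _ j)))).1 (mem_sup_right (h.W_le
      (fix_iff.2 ((q.eq_one (g := (x ^ j)⁻¹ * ⟨g, h.le hg⟩)).1 ?_))))
    rw [map_mul, map_inv, map_zpow, ← k, inv_mul_cancel]
  by_cases m : t ∈ zpowers (x : G)
  · exact (cyc_zpowers _).mono (l.trans (sup_le le_rfl (zpowers_le.2 m)))
  · exact ((cyc_zpowers _).sup (cyc_zpowers t) (zpowers_le.2 ((cent_zpowers t).ge x.2)) (h.iv.card ▸ (odd_of_no_iv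
      fun y hy i => m (h.eq_iv (zpowers_le.2 hx hy) i ▸ hy)).coprime_two_right)).mono l

theorem oc (x : CX t a b) (r : ¬ EqF.Reg G Ω) : OC G Ω := by
  rcases x.cases with k | k
  · exact fun u i => by_contra fun f => r (x.ca_reg k i (not_exists.1 f))
  have big := h.big.trans x.lt
  have h' := h.sub big x.ev
  rcases KT.main ⟨h', fun c d n => (x.kt.cyc c d n).subgroupOf _⟩ big x.ev (index_R2 ⊤) with ⟨N, r1, r2, r3⟩ | j | j
  · obtain ⟨m, hm, e⟩ := r2 a b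
    have nA : N.map (Subgroup.subtype _) ⊴ R2 ⊤ := by
      simpa only [map_top_subtype] using (normalIn_top.2 r1).map (Subgroup.subtype _)
    have := O_le_O_of_normal (R2_normal ⊤) _ (le_O nA ((abelem_of_sq fun n => RG.sq ⟨r1, r2, r3⟩ h' x.ev a).pi.map _)
      (mem_map_of_mem _ hm))
    rw [h.O_bot r (O_normal _ _) (O_pi _ _).sol] at this
    exact (h.ne (by rw [← e, Subgroup.smul_def, show (m : G) = 1 from this, one_smul])).elim
  · have d := card_dvd_ncard (P := D2 (R2 (⊤ : Subgroup G)) a b) (S := 𝐅 t \ {a, b}) (Set.toFinite _)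
      (fun g hg c hc => ⟨cent_fx (g := (g : G)) (h.le hg) hc.1, fun e => hc.2 (e.imp
        (fun e => smul_left_cancel g (e.trans hg.1.symm)) fun e => smul_left_cancel g (e.trans hg.2.symm))⟩)
      fun c hc g hg e => by_contra fun n => hc.2 (fx_two h.ne hg.1 hg.2 (j.zas g n) e)
    rw [Set.ncard_diff (Set.pair_subset x.ha x.hb), Set.ncard_pair h.ne] at d
    have := Nat.le_of_dvd (by have := h.big; omega) d
    have := j.card a b h.ne
    have := x.lt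
    obtain ⟨_ | _ | y, e⟩ := x.f_dvd
    · omega
    · omega
    · nlinarith [Nat.sub_add_cancel x.two_le]
  have nm := normalIn_top.1 (R2_normal (⊤ : Subgroup G))
  have cj : ∀ x y : G, IsConj x y → x ∈ R2 ⊤ → y ∈ R2 ⊤ := fun x y c hx => let ⟨g, e⟩ := isConj_iff.1 c; e ▸ nm.1 x hx g
  obtain ⟨s, e⟩ := h'.exists_sw h.ne
  have e' : Sw a b (s : G) := ⟨congrArg Subtype.val e.sq, e.ab, e.ne⟩
  obtain ⟨c, hc⟩ := j s e.iv
  have ht := cj _ _ (x.conj' x.ev e'.iv hc).symm s.2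
  intro u i
  obtain ⟨g, l⟩ := h.to_sw h.ne i
  have m := (x.cb_trp k e' l).elim (fun c => cj _ _ c s.2) fun c => (mul_mem_cancel_right ht).1 (cj _ _ c s.2)
  exact let ⟨_, e⟩ := j ⟨_, m⟩ (iv_coe.1 l.iv); fx_of_conj e

variable (cx : CX t a b) (one : ∀ u, Iv u → IsConj t u)
include cx one

omit one in
theorem not_mem : t ∉ R2 (𝐂₁ t) := cx.dich.resolve_right fun k =>
  let ⟨w, hw, e⟩ := k.io
  h.t1 (e ▸ ((PG.mem_zp h.iv).1 (h.W_le hw)).elim (fun e => by rw [e, one_mul]) fun e => e ▸ h.iv.sq)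

theorem two_K (hy : y ∈ D2 G a b) (k : PiElt {2} y) : y ∈ zpowers t := by
  by_contra n
  obtain ⟨R, r, l⟩ := exists_syl_le (zpowers_le.2 (h.le hy)) k.zpowers
  have ab := cx.abel one (h.not_mem cx) r
  have ps : ∀ g ∈ R, g ∉ 𝐒 a → g • a = b ∧ g • b = a := fun g hg m => (mem_PS.1 (cx.sw_of (r.le hg)
    (mem_cent1.2 (ab.mul_comm hg (l (mem_zpowers y)))) hy fun c _ => h.two' hy n)).resolve_left fun e => m e.1
  have d := rel_dvd_two (A := R) (K := 𝐒 a) fun g hg k hk m m' => by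
    rw [mem_stabilizer_iff, mul_smul, (ps k hk m').1, (ps g hg m).2]
  have h1 := relIndex_mul_relIndex (𝐒 a ⊓ R) R _ inf_le_right r.le
  have h2 := relIndex_mul_relIndex (𝐒 a ⊓ R) (𝐒 a ⊓ 𝐂₁ t) _ (inf_le_inf_left _ r.le) inf_le_right
  rw [inf_relIndex_right, cx.ctt.rel1 cx.ha cx.hb cx.ne, ← h1, inf_relIndex_right] at h2
  have := (((piNat_pow_self p2 2).coprime r.idx).dvd_of_dvd_mul_right
    (h2 ▸ (Nat.dvd_of_mod_eq_zero cx.f4).mul_left _)).trans d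
  omega

theorem dec (hg : g ∈ 𝐂₁ t) : g ∈ R2 (𝐂₁ t) ∨ t * g ∈ R2 (𝐂₁ t) := by
  obtain ⟨y, hy, z, hz, k, rfl⟩ := cx.dec hg
  rcases (PG.mem_zp h.iv).1 (h.two_K cx one hz k) with rfl | e
  · exact .inl (by rwa [mul_one])
  · exact .inr (by rwa [e, mem_cent1.1 (R2_le _ hy), ← mul_assoc, h.iv.sq, one_mul])

theorem dprod : DProd (zpowers t) (R2 (𝐂₁ t)) (𝐂₁ t) :=
  ⟨(R2_le _).trans (cent_zpowers t).ge, le_antisymm (sup_le (zpowers_le.2 (self_mem_cent1 t)) (R2_le _)) fun g hg =>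
    (h.dec cx one hg).elim mem_sup_right fun m => (mul_mem_cancel_left (mem_sup_left (mem_zpowers t))).1 (mem_sup_right m),
    eq_bot_iff.2 fun _ hy => ((PG.mem_zp h.iv).1 hy.1).resolve_right fun e => h.not_mem cx (e ▸ hy.2)⟩

theorem four (k : CA Ω t) : (𝐅 t).ncard = 4 := by
  have nY := h.not_mem cx
  have tE := cx.W_O mem_W (iv_elt h.iv)
  have fix : ∀ p ∈ 𝐎 {2} (𝐂₁ t), p • a = a → p = 1 ∨ p = t := fun p hp e =>
    (PG.mem_zp h.iv).1 (h.W_le (cx.ca_fix k hp cx.ha e))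
  have sq : ∀ p ∈ 𝐎 {2} (𝐂₁ t), p * p = 1 := fun p hp =>
    ((PG.mem_zp h.iv).1 (h.W_le (cx.ca_sq k hp))).resolve_right fun e => nY ((congrArg (· ∈ R2 (𝐂₁ t)) e).mp
      ((h.dec cx one (O_le _ _ hp)).elim (fun m => mul_mem m m) fun m => by
        simpa [Commute.mul_mul_mul_comm (mem_cent1.1 (O_le _ _ hp)), h.iv.sq] using mul_mem m m))
  have c : ♯(𝐎 {2} (𝐂₁ t)) = 2 * (𝐅 t).ncard := by
    rw [ncard_of_trans (ω := a) (fun g hg => cent_fx (O_le _ _ hg) cx.ha) (k a cx.ha), ← card_inf_mul_relIndex (𝐒 a),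
      le_antisymm (fun p hp => (PG.mem_zp h.iv).2 (fix p hp.2 hp.1)) (le_inf cx.ha (zpowers_le.2 tE)), h.iv.card]
  have s : Syl 2 (𝐎 {2} (𝐂₁ t)) (𝐂₁ t) := syl_of_max (O_le _ _) (O_pi _ _) fun R l r l' => le_antisymm (fun g hg => by
    obtain ⟨p, hp, e⟩ := k a cx.ha _ (cent_fx (l hg) cx.ha)
    have m := mul_mem (inv_mem (l' hp)) hg
    have e : (p⁻¹ * g) • a = a := by rw [mul_smul, ← e, inv_smul_smul]
    obtain ⟨c, hc, n⟩ := exists_second ((ncard_fx (r.elt m).zpowers fun g hg _ =>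
      cent_fx (zpowers_le.2 (l m) hg)).symm.trans cx.fe) ⟨cx.ha, fx_zp.2 e⟩
    exact (mul_mem_cancel_left (inv_mem hp)).1 (zpowers_le.2 tE ((h.move n.symm ⟨cx.mem.1, fx_zp.1 hc.1⟩ h.t1 h.big).two_K
      (cx.move n.symm cx.ha hc.1) one ⟨e, fx_zp.1 hc.2⟩ (r.elt m)))) l'
  have nE := O_normal {2} (𝐂₁ t)
  clear k
  generalize 𝐎 {2} (𝐂₁ t) = E at *
  have fus : ∀ u ∈ E, u ≠ 1 → ∃ g ∈ 𝐍 E, g * t * g⁻¹ = u := fun u hu n =>
    let ⟨g, e⟩ := isConj_iff.1 (one u ⟨n, sq u hu⟩)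
    let ⟨g, _, e⟩ := PG.burnside_fus (cx.syl one s) (abel_of_sq sq tE) (abel_of_sq sq hu) (mem_top g) e
    ⟨g, e⟩
  have key : ∀ v ∈ E, v ≠ 1 → t ≠ v → (v ∈ R2 (𝐂₁ t) ↔ t ∉ R2 (𝐂₁ v)) := fun v hv v1 n => by
    obtain ⟨g, hg, rfl⟩ := fus v hv v1
    have hw := conj_mem_of_norm (inv_mem hg) tE
    rw [show t ∈ R2 (𝐂₁ (g * t * g⁻¹)) ↔ g⁻¹ * t * g⁻¹⁻¹ ∈ R2 (𝐂₁ t) by
      rw [← mem_R2_cj' (g := g) (x := g⁻¹ * t * g⁻¹⁻¹)]; simp [mul_assoc]]
    refine iff_not_comm.1 (not_iff.1 fun e => ?_).symm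
    obtain ⟨c, hc, e1, e2⟩ := cx.ctt.tt a cx.ha _ (cent_fx (nE.le hv) cx.ha) a cx.ha _ (cent_fx (nE.le hw) cx.ha)
      (fun e => (fix _ hv e.symm).elim v1 n.symm) fun e => (fix _ hw e.symm).elim (h.iv.conj _).ne
        fun e => n (by conv_rhs => rw [← e]; simp [mul_assoc])
    have hu := nE.conj_mem hc hv
    rcases fix _ (mul_mem (inv_mem hw) hu) (by rw [mul_smul, inv_smul_eq_iff, ← e2, ← conj_smul rfl c, e1]) with j | j <;>
      rw [inv_mul_eq_iff_eq_mul] at j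
    · have e3 : g * c * (g * t * g⁻¹) * (g * c)⁻¹ = t := by rw [← cmc, j]; group
      have e4 : g * c * t * (g * c)⁻¹ = g * t * g⁻¹ := by rw [← cmc, conj_of_cent hc]
      exact n ((conj_of_cent (PG.no_swap (cx.syl one s) (abel_of_sq sq tE) (mem_top _) (mul_mem hg (nE.norm hc))
        (mem_cent1.2 (mul_inv_eq_iff_eq_mul.1 (by rw [← cmc, e4, e3]))))).symm.trans e4)
    · have := (mem_norm.1 ((R2_normal _).norm hc) _).symm.trans e
      rw [j, mul_mem_two sq tE (fun y hy => h.dec cx one (nE.le hy)) hw tE] at this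
      tauto
  have := tour sq (fun u => R2 (𝐂₁ u)) (fun u hu n y hy => by
    obtain ⟨g, hg, rfl⟩ := fus u hu n
    simpa [mul_assoc] using (h.dec cx one (nE.le (conj_mem_of_norm (inv_mem hg) hy))).imp (mem_R2_cj · g) (mem_R2_cj · g))
    fun u hu v hv u1 v1 n => by
      obtain ⟨g, hg, rfl⟩ := fus u hu u1
      have := key _ (conj_mem_of_norm (inv_mem hg) hv) (mt conj_eq_one_iff.1 v1) fun e => n (by rw [e]; simp [mul_assoc])
      rw [← mem_R2_cj' (g := g), ← mem_R2_cj' (g := g) (x := t)] at this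
      simpa [mul_assoc] using this
  have := cx.f4
  have := cx.big
  omega

theorem ree : ∃ (K : Type) (_ : Field K) (_ : Fintype K), Odd (Fintype.card K) ∧
    Nonempty (R2 (𝐂₁ t) ≃* PSL(2, K)) := by
  have f4 := cx.f4
  rcases cx.cases with k | k
  · have f := h.four cx one k
    have d := h.dvd_K
    have c := cx.card_C
    rw [f] at d c
    rw [← (h.dprod cx one).card, le_antisymm (fun y hy => h.two_K cx one hy (PiGrp.elt ((piNat_pow_self p2 2).dvd d) hy)) (zpowers_le.2 h.mem), h.iv.card] at c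
    obtain ⟨e⟩ := Agent.S0228.result (G := R2 (𝐂₁ t)) (by omega) fun z o hz => by
      have i := iv_coe.2 (iv_iff.2 o)
      have hc := cent_fx (R2_le _ z.2) cx.ha
      have n := cx.fpf cx.ev i (R2_le _ z.2) (fun e => h.not_mem cx ((congrArg (· ∈ R2 (𝐂₁ t)) e).mp z.2)) cx.ha
      obtain ⟨d, hd, n1, n2⟩ := exists_third cx.big a ((z : G) • a)
      obtain ⟨g, hg, e1, e2⟩ := cx.ytt.tt a cx.ha _ hc a cx.ha d hd n.symm n1.symm
      exact n2 (by rw [← e2, smul_smul, show g * z = z * g from congrArg Subtype.val (mem_center_iff.1 hz ⟨g, hg⟩),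
        mul_smul, e1])
    exact ⟨ZMod 3, inferInstance, inferInstance, by decide, (Classical.PSL2_three_equiv (Nat.card_zmod 3)).map fun f => e.trans f.symm⟩
  obtain ⟨F, _, _, -, c, φ, sj, e⟩ := k.psl
  exact ⟨F, _, _, Nat.odd_iff.2 (by rw [← Nat.card_eq_fintype_card]; omega), ⟨.ofBijective φ ⟨(injective_iff_map_eq_one φ).2
    fun y m => Subtype.ext (((PG.mem_zp h.iv).1 (h.W_le ((e y).1 m))).resolve_right fun e => h.not_mem cx ((congrArg (· ∈ R2 (𝐂₁ t)) e).mp y.2)), sj⟩⟩⟩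

omit cx one in
theorem main : ((∀ u v : G, orderOf u = 2 → orderOf v = 2 → IsConj u v) ∧ ∃ (K : Type) (_ : Field K) (_ : Fintype K),
      Odd (Fintype.card K) ∧ Nonempty (𝐂₁ t ≃* PSL(2, K) × Multiplicative (ZMod 2))) ∨
    (∃ (F : Type) (_ : Field F) (_ : Fintype F), Fintype.card F = 25 ∧ Nonempty (G ≃* PSU 3 F 5)) ∨
    (EqF.Reg G Ω ∧ (ConjClasses.mk '' {g : G | orderOf g = 2}).ncard = 2) := by
  by_cases r : EqF.Reg G Ω
  · exact .inr (.inr ⟨r, let ⟨_, r1, r2, r3⟩ := r; RG.two ⟨r1, r2, r3⟩ h⟩)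
  have ev : Nat.card Ω % 2 = 0 := by have := mt h.odd r; omega
  have := par_fx (Ω := Ω) h.iv
  by_cases f4 : (𝐅 t).ncard % 4 = 0
  swap
  · exact .inr (.inl (h.two_mod ev (by omega)))
  have cx : CX t a b := ⟨h.ci, h.kt f4, ev, f4⟩
  have one : ∀ u, Iv u → IsConj t u := fun u i => let ⟨_, e⟩ := h.oc cx r u i; cx.conj' ev i e
  obtain ⟨K, _, _, o, ⟨e⟩⟩ := h.ree cx one
  exact .inl ⟨fun u v i j => (one u (iv_iff.2 i)).symm.trans (one v (iv_iff.2 j)), K, _, _, o,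
    (Ab2.dprod_equiv (h.dprod cx one) h.iv.orderOf e).map fun f => f.trans MulEquiv.prodComm⟩

end R0

end CF.Ko
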