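import Mathlib
import Cfsg.Agent.Fgs1.ClassSize
import Cfsg.Agent.Fgs1.Extra
import Cfsg.Agent.Fgs1.Kazarin
import Cfsg.Agent.Solv.CyclicMax
import Cfsg.Agent.Char.QSetup
import Cfsg.Agent.Hyp.FTProof
import Cfsg.Agent.Fgs2.Basic

/-! Linear groups all of whose orbits on vectors have 2-power length. -/

set_option autoImplicit false

namespace CF.Fgs1.Baer

open Subgroup Module

universe u

theorem dvd_sq_sub_one {q k : ℤ} {n i : ℕ} (hq : Odd q) (hn : 2 ≤ n) (h1 : 2 ^ n ∣ q ^ i - k)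
    (h2 : 4 ∣ k + 1) (h3 : 2 ^ n ∣ k ^ 2 - 1) : 2 ^ n ∣ q ^ 2 - 1 := by
  have h4 : (4 : ℤ) ∣ q ^ 2 - 1 := by obtain ⟨m, rfl⟩ := hq; exact ⟨m ^ 2 + m, by ring⟩
  have hi : Odd i := by
    rcases i.even_or_odd with ⟨j, rfl⟩ | h
    · have h5 : (4 : ℤ) ∣ q ^ (j + j) - k := (pow_dvd_pow 2 hn).trans h1
      have h6 : (4 : ℤ) ∣ (q ^ 2) ^ j - 1 := h4.trans (sub_one_dvd_pow_sub_one _ _)
      rw [← pow_mul, two_mul] at h6
      omega
    · exact h
  have h5 : 2 ^ n ∣ (q ^ 2) ^ i - 1 := by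
    have : (q ^ 2) ^ i - 1 = (q ^ i - k) * (q ^ i + k) + (k ^ 2 - 1) := by ring
    rw [this]; exact (h1.mul_right _).add h3
  rw [← geom_sum_mul] at h5
  refine IsCoprime.dvd_of_dvd_mul_left (IsCoprime.pow_left (Int.isCoprime_two_left.mpr ?_)) h5
  have h6 : ∀ j : ℕ, 2 ∣ ∑ l ∈ Finset.range j, (q ^ 2) ^ l - j := fun j => by
    induction j with
    | zero => simp
    | succ j ih =>
      obtain ⟨t, ht⟩ : Odd ((q ^ 2) ^ j) := hq.pow.pow
      rw [Finset.sum_range_succ, ht]; omega
  obtain ⟨t, rfl⟩ := hi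
  have := h6 (2 * t + 1)
  rw [Int.odd_iff]; omega

section Lin
variable {q : ℕ} [Fact q.Prime] {V : Type*} [AddCommGroup V] [Module (ZMod q) V] [Finite V]
  {H : Type*} [Group H] {ρ : H →* End (ZMod q) V}

theorem card_le_sq [Nontrivial V] (hq : q ≠ 2) (hρ : Function.Injective ρ) {a c : H} {n : ℕ}
    (ha : orderOf a = 2 ^ n) (hn : 2 ≤ n) {k : ℤ} (hc : c * a * c⁻¹ = a ^ k) (h4 : 4 ∣ k + 1)
    (hcc : c ^ 2 ∈ zpowers a)
    (hirr : ∀ W : Submodule (ZMod q) V, (∀ w ∈ W, ρ a w ∈ W) → W = ⊥ ∨ W = ⊤) :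
    Nat.card V ≤ q ^ 2 := by
  let E := Algebra.adjoin (ZMod q) {ρ a}
  let α : E := ⟨ρ a, Algebra.self_mem_adjoin_singleton _ _⟩
  haveI : Finite (End (ZMod q) V) := Finite.of_injective _ DFunLike.coe_injective
  have hE : ∀ e : E, e.1 * ρ a = ρ a * e.1 := fun e => congrArg Subtype.val (mul_comm' e α)
  haveI : NoZeroDivisors E := ⟨fun {x y} h => by
    rcases hirr (LinearMap.ker x.1) (fun w hw => by
      rw [LinearMap.mem_ker, ← End.mul_apply, hE, End.mul_apply, show x.1 w = 0 from hw,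
        map_zero]) with h1 | h1
    · refine Or.inr (Subtype.ext (LinearMap.ext fun v => ?_))
      exact (LinearMap.ker_eq_bot'.mp h1) _ (LinearMap.congr_fun (congrArg Subtype.val h) v)
    · exact Or.inl (Subtype.ext (LinearMap.ker_eq_top.mp h1))⟩
  haveI : IsDomain E := NoZeroDivisors.to_isDomain E
  letI := (Finite.isDomain_to_isField E).toField
  have hfin : IsOfFinOrder a := orderOf_pos_iff.mp (ha ▸ by positivity)
  obtain ⟨m, hm⟩ : a ^ k ∈ Submonoid.powers a := by
    rw [hfin.mem_powers_iff_mem_zpowers]; exact ⟨k, rfl⟩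
  simp only at hm
  let σ0 : End (ZMod q) V →ₐ[ZMod q] End (ZMod q) V :=
    { toFun e := ρ c * e * ρ c⁻¹
      map_one' := by rw [mul_one, ← map_mul, mul_inv_cancel, map_one]
      map_mul' x y := by
        simp only [mul_assoc]
        rw [← mul_assoc (ρ c⁻¹), ← map_mul, inv_mul_cancel, map_one, one_mul]
      map_zero' := by simp
      map_add' x y := by rw [mul_add, add_mul]
      commutes' r := by
        rw [← Algebra.commutes, mul_assoc, ← map_mul, mul_inv_cancel, map_one, mul_one] }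
  have hσ0 : σ0 (ρ a) = ρ a ^ m := by
    change ρ c * ρ a * ρ c⁻¹ = _
    rw [← map_mul, ← map_mul, hc, ← hm, map_pow]
  let σ : E →ₐ[ZMod q] E := (σ0.comp E.val).codRestrict E fun e => by
    have : E.map σ0 ≤ E := by
      rw [AlgHom.map_adjoin_singleton, Algebra.adjoin_le_iff, Set.singleton_subset_iff, hσ0]
      exact pow_mem α.2 m
    exact this ⟨e, e.2, rfl⟩
  obtain ⟨i, hi⟩ := FiniteField.exists_forall_apply_eq_pow (ZMod q) q E
    (AlgEquiv.ofBijective σ σ.bijective)
  have h1 : a ^ ((q : ℤ) ^ i) = a ^ k := by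
    have := congrArg Subtype.val (hi α)
    change σ0 (ρ a) = ρ a ^ _ at this
    rw [hσ0, Nat.card_zmod, ← map_pow, ← map_pow] at this
    rw [← hm, hρ this, ← zpow_natCast, Nat.cast_pow]
  have h2 := dvd_sq_sub_one (q := q) (by exact_mod_cast (Fact.out : q.Prime).odd_of_ne_two hq) hn
    (by exact_mod_cast (CF.Solv.zpow_eq_zpow_iff_dvd ha).mp h1) h4
    (by exact_mod_cast CF.Solv.dvd_pow_sub_one_of_pow_mem ha hc hcc)
  have h3 : α ^ q ^ 2 = α := by
    refine Subtype.ext ?_
    change ρ a ^ q ^ 2 = ρ a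
    rw [← map_pow, ← zpow_natCast, (CF.Solv.zpow_eq_zpow_iff_dvd (t := 1) ha).mpr
      (by exact_mod_cast h2), zpow_one]
  have h5 : ∀ e : E, e ^ q ^ 2 = e := fun e => by
    have := AlgHom.ext_of_eq_adjoin (S := E) rfl
      (φ₁ := FiniteField.frobeniusAlgHom (ZMod q) E ^ 2) (φ₂ := AlgHom.id _ _)
      (by rintro _ rfl; simpa [sq, pow_mul] using congrArg Subtype.val h3)
    simpa [sq, pow_mul] using DFunLike.congr_fun this e
  have h6 : Nat.card E ≤ q ^ 2 := by
    have h7 : Nat.card Eˣ ∣ q ^ 2 - 1 := by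
      rw [← IsCyclic.exponent_eq_card]
      refine Monoid.exponent_dvd_of_forall_pow_eq_one fun u => mul_right_cancel (b := u) ?_
      rw [← pow_succ, Nat.sub_add_cancel (Nat.one_le_pow _ _ (Fact.out : q.Prime).pos), one_mul]
      exact Units.ext (h5 u)
    rw [Nat.card_units] at h7
    have h8 : 1 < q ^ 2 := Nat.one_lt_pow two_ne_zero (Fact.out : q.Prime).one_lt
    have := Nat.le_of_dvd (by omega) h7
    omega
  obtain ⟨v, hv⟩ := exists_ne (0 : V)
  let T : E →ₗ[ZMod q] V := (LinearMap.applyₗ v).comp E.val.toLinearMap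
  refine (Nat.card_le_card_of_surjective T (LinearMap.range_eq_top.mp ?_)).trans h6
  refine (hirr _ ?_).resolve_left fun h => hv ((Submodule.eq_bot_iff _).mp h v ⟨1, rfl⟩)
  rintro _ ⟨e, rfl⟩
  exact ⟨α * e, rfl⟩

omit [Finite V] in
/-- The stabilizer of a vector. -/
def st (ρ : H →* End (ZMod q) V) (v : V) : Subgroup H where
  carrier := {h | ρ h v = v}
  one_mem' := by simp
  mul_mem' {a b} ha hb := by
    change ρ (a * b) v = v
    rw [map_mul, End.mul_apply, show ρ b v = v from hb]; exact ha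
  inv_mem' {a} ha := by
    change ρ a⁻¹ v = v
    rw [← show ρ a v = v from ha, ← End.mul_apply, ← map_mul, inv_mul_cancel, map_one,
      End.one_apply, show ρ a v = v from ha]

theorem comm_st [Finite H] (hρ : Function.Injective ρ) (hH : ¬ q ∣ Nat.card H)
    (hV : Nat.card V ≤ q ^ 2) {v : V} (hv : v ≠ 0) : IsMulCommutative (st ρ v) := by
  have hq : q.Prime := Fact.out
  have h1 : finrank (ZMod q) V ≤ 2 := by
    rw [Module.natCard_eq_pow_finrank (K := ZMod q), Nat.card_zmod] at hV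
    exact (Nat.pow_le_pow_iff_right hq.one_lt).mp hV
  have h2 := Submodule.finrank_quotient_add_finrank (Submodule.span (ZMod q) {v})
  rw [finrank_span_singleton hv] at h2
  obtain ⟨x, hx⟩ := finrank_le_one_iff.mp 
    (show finrank (ZMod q) (V ⧸ Submodule.span (ZMod q) {v}) ≤ 1 by omega)
  obtain ⟨x, rfl⟩ := Submodule.Quotient.mk_surjective _ x
  have h3 : ∀ y : V, ∃ a b : ZMod q, y = a • x + b • v := fun y => by
    obtain ⟨a, ha⟩ := hx (Submodule.Quotient.mk y)
    rw [← Submodule.Quotient.mk_smul, eq_comm, Submodule.Quotient.eq,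
      Submodule.mem_span_singleton] at ha
    obtain ⟨b, hb⟩ := ha
    exact ⟨a, b, by rw [hb]; abel⟩
  refine ⟨⟨fun m m' => Subtype.ext ?_⟩⟩
  obtain ⟨a, b, hab⟩ := h3 (ρ m x)
  obtain ⟨a', b', hab'⟩ := h3 (ρ m' x)
  have hm : ρ m v = v := m.2
  have hm' : ρ m' v = v := m'.2
  let c := (m' * m)⁻¹ * (m * m')
  have hc : ρ c v = v := c.2
  obtain ⟨e, he⟩ : ∃ e : ZMod q, ρ c x = x + e • v := by
    refine ⟨a' * b + b' - a * b' - b, ?_⟩
    have h4 : ρ (m * m') x = ρ (m' * m) x + (a' * b + b' - a * b' - b) • v := by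
      simp only [map_mul, End.mul_apply, hab, hab', map_add, map_smul, hm, hm']
      module
    have h5 : ρ (m' * m : H)⁻¹ v = v := (m' * m)⁻¹.2
    change ρ ((m' * m : H)⁻¹ * (m * m')) x = _
    rw [map_mul, End.mul_apply, h4, map_add, map_smul, ← End.mul_apply, ← map_mul,
      inv_mul_cancel, map_one, End.one_apply]
    exact congrArg (fun t => x + _ • t) h5
  have h4 : ∀ j : ℕ, ρ (c ^ j) x = x + (j * e) • v := fun j => by
    induction j with
    | zero => simp
    | succ j ih => rw [pow_succ', map_mul, End.mul_apply, ih, map_add, map_smul, he, hc]; module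
  have h5 : (c : H) ^ q = 1 := hρ (LinearMap.ext fun y => by
    obtain ⟨s, t, rfl⟩ := h3 y
    rw [map_add, map_smul, map_smul, h4, show ρ (c ^ q) v = v from (c ^ q).2]
    simp)
  have h6 : (c : H) = 1 := orderOf_eq_one_iff.mp (Nat.eq_one_of_dvd_coprimes
    ((Nat.Prime.coprime_iff_not_dvd hq).mpr hH) (orderOf_dvd_of_pow_eq_one h5)
    (_root_.orderOf_dvd_natCard _))
  exact (inv_mul_eq_one.mp h6).symm

theorem subsingleton_of_orbits [Finite H] [Nontrivial V] (hq : q ≠ 2) (hρ : Function.Injective ρ)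
    (hH : ¬ q ∣ Nat.card H) (hp : commutator H = ⊤) (ho : ∀ v, ∃ k, (st ρ v).index = 2 ^ k)
    (hirr : ∀ W : Submodule (ZMod q) V, (∀ h, ∀ w ∈ W, ρ h w ∈ W) → W = ⊥ ∨ W = ⊤) :
    Subsingleton H := by
  haveI : Fact (Nat.Prime 2) := ⟨Nat.prime_two⟩
  suffices Group.IsSolvable H by
    by_contra h
    haveI := not_subsingleton_iff_nontrivial.mp h
    exact (Group.IsSolvable.commutator_lt_top_of_nontrivial H).ne hp
  obtain ⟨P⟩ : Nonempty (Sylow 2 H) := inferInstance
  have hinv : ∀ h y, ρ h⁻¹ (ρ h y) = y := fun h y => by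
    rw [← End.mul_apply, ← map_mul, inv_mul_cancel, map_one, End.one_apply]
  have hP : ∀ h v, ∃ u : P, ρ h v = ρ u v := fun h v => by
    obtain ⟨k, hk⟩ := ho v
    obtain ⟨u, hu, c, hc, rfl⟩ := CF.Fgs2.exists_mul_of_coprime_index (A := st ρ v) (K := P)
      (hk ▸ Nat.Coprime.pow_left _ ((Nat.Prime.coprime_iff_not_dvd Nat.prime_two).mpr
        P.not_dvd_index)) h
    exact ⟨⟨u, hu⟩, by rw [map_mul, End.mul_apply, show ρ c v = v from hc]⟩
  have key : ∀ T : Subgroup P, T.index ∣ 2 → ∀ W : Submodule (ZMod q) V,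
      (∀ s ∈ T, ∀ w ∈ W, ρ s w ∈ W) → W = ⊥ ∨ W = ⊤ := fun T hT W hW => by
    obtain ⟨a, ha⟩ := index_dvd_two_iff'.mp hT
    let N : Subgroup H :=
      { carrier := {h | ∀ w ∈ W, ρ h w ∈ W}
        one_mem' := by simp
        mul_mem' := fun {a b} ha hb w hw => by rw [map_mul]; exact ha _ (hb w hw)
        inv_mem' := fun {a} ha w hw => by
          rw [← mul_one a⁻¹, ← pow_orderOf_eq_one a, ← Nat.sub_add_cancel (orderOf_pos a), pow_succ',
            inv_mul_cancel_left, map_pow]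
          exact Module.End.pow_apply_mem_of_forall_mem _ ha w hw }
    have h1 : N.index ∣ 2 := index_dvd_two_iff'.mpr ⟨a, fun h => by
      have := (AddSubgroupClass.subset_union (H := W) (K := W.comap (ρ (a * h)))
        (L := W.comap (ρ h))).mp fun w hw => by
          obtain ⟨u, hu⟩ := hP h w
          rcases ha u with h2 | h2
          · refine Or.inl (show ρ (a * h) w ∈ W from ?_)
            rw [map_mul, End.mul_apply, hu, ← End.mul_apply, ← map_mul]; exact hW _ h2 w hw
          · exact Or.inr (show ρ h w ∈ W from hu ▸ hW _ h2 w hw)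
      exact this⟩
    rcases (Nat.dvd_prime Nat.prime_two).mp h1 with h2 | h2
    · exact hirr W fun h => (index_eq_one.mp h2).ge (mem_top h)
    · haveI := normal_of_index_eq_two h2
      haveI : IsCyclic (H ⧸ N) := isCyclic_of_prime_card h2
      exact hirr W fun h => (Normal.quotient_commutative_iff_commutator_le (N := N)).mp inferInstance
        (hp ▸ mem_top h)
  have hz : ∀ t : P, t ≠ 1 → t ^ 2 = 1 → (centralizer {t}).index ∣ 2 → ρ t = -1 := by
    intro t ht1 ht2 ht
    rcases key _ ht (LinearMap.ker (ρ t - 1)) (fun s hs w hw => by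
      rw [LinearMap.mem_ker, LinearMap.sub_apply, End.one_apply, sub_eq_zero] at hw ⊢
      rw [← End.mul_apply, ← map_mul, ← coe_mul, ← mem_centralizer_singleton_iff.mp hs, coe_mul,
        map_mul, End.mul_apply, hw]) with h | h
    · ext w
      refine eq_neg_of_add_eq_zero_left (LinearMap.ker_eq_bot'.mp h _ ?_)
      rw [LinearMap.sub_apply, map_add, ← End.mul_apply, ← map_mul, ← coe_mul, ← sq, ht2]
      simp [add_comm]
    · exact absurd (Subtype.ext (hρ (by rw [sub_eq_zero.mp (LinearMap.ker_eq_top.mp h)]; simp))) ht1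
  have hn : ∀ A : Subgroup P, A.Normal → IsMulCommutative A → IsCyclic A := fun A hA _ => by
    let M : Subgroup P :=
      { carrier := {x | x ∈ A ∧ x ^ 2 = 1}
        one_mem' := ⟨one_mem _, one_pow _⟩
        mul_mem' := fun {a b} ha hb => ⟨mul_mem ha.1 hb.1, by
          rw [Commute.mul_pow (comm_of_mem inferInstance ha.1 hb.1), ha.2, hb.2, one_mul]⟩
        inv_mem' := fun {a} ha => ⟨inv_mem ha.1, by rw [inv_pow, ha.2, inv_one]⟩ }
    haveI : M.Normal := ⟨fun a ha g => ⟨hA.conj_mem _ ha.1 g, by rw [conj_pow, ha.2]; group⟩⟩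
    refine CF.Solv.isCyclic_of_abelian_of_omega (P.isPGroup'.to_subgroup A) fun x hx y hy hx2 hy2 hx1 => ?_
    obtain ⟨z, hzM, hz1, -, hz2, hz3, hz4⟩ := exists_normal_card_mul P.isPGroup' (N := ⊥) (M := M)
      (bot_lt_iff_ne_bot.mpr fun h => hx1 (mem_bot.mp (h ▸ (⟨hx, hx2⟩ : x ∈ M))))
    rw [bot_sup_eq] at hz3 hz4
    rw [card_bot, one_mul] at hz4
    have hz5 : ∀ g, z * g = g * z := fun g => commutatorElement_eq_one_iff_mul_comm.mp (hz2 g)
    have hz6 := hz z hz1 hzM.2 (by
      rw [(eq_top_iff' _).mpr fun g => mem_centralizer_singleton_iff.mpr (hz5 g).symm]; simp)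
    have hzz : ∀ w ∈ zpowers z, w = 1 ∨ w = z := fun w hw => by
      by_contra! h
      have : ({1, w, z} : Set P) ⊆ zpowers z := by
        rintro _ (rfl | rfl | rfl)
        exacts [one_mem _, hw, mem_zpowers _]
      have h3 := Set.ncard_le_ncard this
      rw [Set.ncard_eq_three.mpr ⟨_, _, _, h.1.symm, fun e => hz1 (mem_bot.mpr e.symm), h.2, rfl⟩,
        ← Nat.card_coe_set_eq, SetLike.coe_sort_coe, hz4] at h3
      omega
    rcases (zpowers_le.mpr hzM : zpowers z ≤ M).lt_or_eq with h | h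
    · obtain ⟨t, htM, ht1, -, ht2, -⟩ := exists_normal_card_mul P.isPGroup' h
      refine absurd (Subtype.ext (hρ ((hz t (fun e => ht1 (e ▸ one_mem _)) htM.2 ?_).trans
        hz6.symm)) ▸ mem_zpowers z : t ∈ zpowers z) ht1
      have h3 : ∀ g, g ∉ centralizer {t} → t * g = z * g * t := fun g hg => by
        rcases hzz _ (ht2 g) with e | e
        · exact absurd (mem_centralizer_singleton_iff.mpr
            (commutatorElement_eq_one_iff_mul_comm.mp e).symm) hg
        · rw [← e, commutatorElement_def]; group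
      by_cases h4 : ∀ g, g ∈ centralizer {t}
      · exact index_dvd_two_iff.mpr ⟨1, fun b => Or.inr (h4 b)⟩
      obtain ⟨a, ha⟩ := not_forall.mp h4
      refine index_dvd_two_iff.mpr ⟨a, fun b => or_iff_not_imp_right.mpr fun hb => ?_⟩
      rw [mem_centralizer_singleton_iff, ← mul_assoc, h3 b hb, mul_assoc (z * b), h3 a ha, hz5 b,
        ← mul_assoc, ← mul_assoc, mul_assoc b z, ← sq, hzM.2, mul_one]
    · rcases hzz x (h ▸ ⟨hx, hx2⟩) with e | e
      · exact absurd e hx1
      · rw [e, h]; exact ⟨hy, hy2⟩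
  rcases CF.Solv.normalRankOne_cases P.isPGroup' hn with h | ⟨-, n, a, c, h1, h2, h3, h4, h5, -⟩
  · obtain ⟨N, _, h1, k, h2⟩ := CF.Transfer.hasNPC_iff_exists_normal.mp
      (CF.Transfer.hasNPC_top_iff.mp (CF.Char.hasNPC_of_isCyclic (CF.Transfer.isSylowIn_top P)))
    haveI := CF.Hyp.isSolvable_of_odd (Nat.coprime_two_right.mp h1)
    haveI := (IsPGroup.of_card (G := H ⧸ N) h2).isNilpotent
    exact CF.Solv.isSolvable_of_normal_of_quotient N
  · obtain ⟨k, hk, -, hk4⟩ := h5.exists_conj_eq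
    have h6 := card_le_sq (ρ := ρ.comp (P : Subgroup H).subtype) hq (hρ.comp Subtype.val_injective)
      h2 h1 hk hk4 (sq_mem_of_index_two h3 c) fun W hW => key _ h3.dvd W fun s hs w hw => by
        obtain ⟨j, rfl⟩ := (mem_powers_iff_mem_zpowers.mpr hs)
        simpa using Module.End.pow_apply_mem_of_forall_mem j hW w hw
    obtain ⟨v, hv⟩ := exists_ne (0 : V)
    haveI := comm_st hρ hH h6 hv
    obtain ⟨j, hj⟩ := ho v
    exact isSolvable_of_abelian_index_pow Nat.prime_two _ hj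

end Lin

theorem subsingleton_of_orbits' {q : ℕ} [Fact q.Prime] {A H : Type*} [CommGroup A] [Finite A]
    [Nontrivial A] [Group H] [Finite H] {φ : H →* MulAut A} (hq : q ≠ 2) (hA : ∀ a : A, a ^ q = 1)
    (hφ : Function.Injective φ) (hH : ¬ q ∣ Nat.card H) (hp : commutator H = ⊤)
    (ho : ∀ v, ∃ (k : ℕ) (S : Subgroup H), S.index = 2 ^ k ∧ ∀ h ∈ S, φ h v = v)
    (hirr : ∀ W : Subgroup A, (∀ h, ∀ w ∈ W, φ h w ∈ W) → W = ⊥ ∨ W = ⊤) : Subsingleton H := by
  obtain ⟨_⟩ : Nonempty (Module (ZMod q) (Additive A)) :=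
    ⟨AddCommGroup.zmodModule fun x => hA x.toMul⟩
  let ρ : H →* End (ZMod q) (Additive A) :=
    { toFun g := (MonoidHom.toAdditive (φ g).toMonoidHom).toZModLinearMap q
      map_one' := by ext; simp
      map_mul' g h := by ext; simp }
  refine subsingleton_of_orbits (ρ := ρ) hq (fun g h e => hφ (MulEquiv.ext fun a =>
    LinearMap.congr_fun e (Additive.ofMul a))) hH hp (fun v => ?_) fun W hW => ?_
  · obtain ⟨k, S, h1, h2⟩ := ho v.toMul
    exact exists_pow_of_dvd_pow Nat.prime_two ((index_dvd_of_le (K := st ρ v) h2).trans h1.dvd)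
  · refine (hirr (AddSubgroup.toSubgroup' W.toAddSubgroup) hW).imp (fun h => ?_) fun h => ?_
    · exact (Submodule.eq_bot_iff _).mpr fun w hw => (eq_bot_iff_forall _).mp h w.toMul hw
    · exact eq_top_iff.mpr fun w _ => h.ge (mem_top w.toMul)

open scoped commutatorElement

theorem perf {q : ℕ} [Fact q.Prime] (hq : q ≠ 2) (n : ℕ) : ∀ (G : Type u) [Group G] [Finite G]
    (V : Subgroup G) [V.Normal], Nat.card V = n → IsMulCommutative V → IsPGroup q V →
    ¬ q ∣ (centralizer (V : Set G)).index →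
    (∀ v ∈ V, ∃ k, (centralizer ({v} : Set G)).index = 2 ^ k) →
    commutator G ⊔ centralizer (V : Set G) = ⊤ → centralizer (V : Set G) = ⊤ := by
  induction n using Nat.strong_induction_on with | _ n ih => ?_
  intro G _ _ V _ hn hc hV hi ho hp
  by_cases hW : ∃ W : Subgroup G, W.Normal ∧ W ≠ ⊥ ∧ W < V
  · obtain ⟨W, _, hW1, hW⟩ := hW
    have h1 : centralizer (V : Set G) ≤ centralizer (W : Set G) := centralizer_le hW.le
    have h2 := ih _ (hn ▸ CF.Transfer.card_lt_of_lt hW) G W rfl (isMulCommutative_of_le hc hW.le)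
      (hV.to_le hW.le) (fun h => hi (h.trans (index_dvd_of_le h1))) (fun v hv => ho v (hW.le hv))
      (eq_top_iff.mpr (hp ▸ sup_le_sup_left h1 _))
    let f := QuotientGroup.mk' W
    have hf : Function.Surjective f := QuotientGroup.mk'_surjective W
    haveI := Normal.map ‹V.Normal› f hf
    have h3 : (centralizer (V : Set G)).map f ≤ centralizer (V.map f : Set (G ⧸ W)) := by
      rintro _ ⟨x, hx, rfl⟩ _ ⟨y, hy, rfl⟩
      rw [← map_mul, ← map_mul, hx y hy]
    have h0 : Nat.card (V.map f) < n := by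
      rw [← hn, ← relIndex_ker, QuotientGroup.ker_mk', ← CF.Transfer.card_mul_relIndex hW.le]
      exact lt_mul_of_one_lt_left (Nat.pos_of_ne_zero (CF.Transfer.relIndex_ne_zero' _ _))
        (one_lt_card_iff_ne_bot W |>.mpr hW1)
    have h4 := ih _ h0 (G ⧸ W) (V.map f) rfl inferInstance
      (hV.map f) (fun h => hi ((h.trans (index_dvd_of_le h3)).trans (index_map_dvd _ hf)))
      (by
        rintro _ ⟨v, hv, rfl⟩
        obtain ⟨k, hk⟩ := ho v hv
        exact exists_pow_of_dvd_pow Nat.prime_two (hk ▸ index_centralizer_map_dvd hf v))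
      (by
        rw [eq_top_iff, ← map_top_of_surjective f hf, ← hp, Subgroup.map_sup,
          _root_.commutator_def, map_commutator]
        exact sup_le_sup (commutator_mono le_top le_top) h3)
    have h5 : ⁅(⊤ : Subgroup G), V⁆ ≤ W := by
      rw [← QuotientGroup.ker_mk' W, ← Subgroup.map_eq_bot_iff, map_commutator,
        commutator_eq_bot_iff_le_centralizer, h4]
      exact le_top
    have h6 : ⁅⁅(⊤ : Subgroup G), V⁆, (⊤ : Subgroup G)⁆ = ⊥ := by
      refine eq_bot_iff.mpr ((commutator_mono h5 le_rfl).trans (le_of_eq ?_))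
      rw [commutator_comm, commutator_eq_bot_iff_le_centralizer, h2]
    rw [← hp, _root_.commutator_def, sup_eq_right.mpr (commutator_eq_bot_iff_le_centralizer.mp
      (commutator_commutator_eq_bot_of_rotate h6 (by rwa [commutator_comm V])))]
  by_cases hV1 : V = ⊥
  · subst hV1; simp [centralizer_eq_top_iff_subset]
  haveI := (nontrivial_iff_ne_bot V).mpr hV1
  have hmin : ∀ W : Subgroup G, W.Normal → W ≤ V → W = ⊥ ∨ W = V := fun W h1 h2 => by
    by_contra! h
    exact hW ⟨W, h1, h.1, lt_of_le_of_ne h2 h.2⟩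
  have hexp : ∀ v ∈ V, v ^ q = 1 := by
    let M : Subgroup G :=
      { carrier := {x | x ∈ V ∧ x ^ q = 1}
        one_mem' := ⟨one_mem _, one_pow _⟩
        mul_mem' := fun {a b} ha hb => ⟨mul_mem ha.1 hb.1, by
          rw [Commute.mul_pow (comm_of_mem hc ha.1 hb.1), ha.2, hb.2, one_mul]⟩
        inv_mem' := fun {a} ha => ⟨inv_mem ha.1, by rw [inv_pow, ha.2, inv_one]⟩ }
    rcases hmin M ⟨fun a ha g => ⟨‹V.Normal›.conj_mem _ ha.1 g, by rw [conj_pow, ha.2]; group⟩⟩
      (fun _ h => h.1) with h | h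
    · obtain ⟨x, hx⟩ := exists_prime_orderOf_dvd_card' q ((hV.nontrivial_iff_card.mp ‹_›).elim
        fun k hk => hk.2 ▸ dvd_pow_self q hk.1.ne' : q ∣ Nat.card V)
      have : (x : G) ∈ M := ⟨x.2, by rw [← coe_pow, ← hx, pow_orderOf_eq_one, coe_one]⟩
      rw [h, mem_bot, OneMemClass.coe_eq_one] at this
      simp [this, eq_comm, (Fact.out : q.Prime).ne_one] at hx
    · exact fun v hv => (h.ge hv).2
  letI : CommGroup V := { (inferInstance : Group V) with mul_comm := fun a b => mul_comm' a b }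
  have hk : ∀ g, (MulAut.conjNormal g : MulAut V) = 1 ↔ g ∈ centralizer (V : Set G) := fun g =>
    ⟨fun h v hv => (mul_inv_eq_iff_eq_mul.mp (congrArg Subtype.val
      (DFunLike.congr_fun h (⟨v, hv⟩ : V)))).symm,
    fun h => MulEquiv.ext fun v => Subtype.ext (mul_inv_eq_iff_eq_mul.mpr (h _ v.2).symm)⟩
  let φ := QuotientGroup.lift (centralizer (V : Set G)) MulAut.conjNormal fun g => (hk g).mpr
  have hs := QuotientGroup.mk'_surjective (centralizer (V : Set G))
  haveI := subsingleton_of_orbits' (φ := φ) hq (fun v => Subtype.ext (hexp v v.2))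
    ((injective_iff_map_eq_one _).mpr fun g hg => by
      obtain ⟨g, rfl⟩ := hs g
      exact (QuotientGroup.eq_one_iff g).mpr ((hk g).mp hg)) hi
    (by
      rw [eq_top_iff, ← map_top_of_surjective _ hs, ← hp, Subgroup.map_sup, QuotientGroup.map_mk'_self,
        sup_bot_eq, _root_.commutator_def, map_commutator]
      exact commutator_mono le_top le_top)
    (fun v => by
      obtain ⟨k, hk⟩ := ho _ v.2
      refine ⟨k, (centralizer {(v : G)}).map (QuotientGroup.mk' _), ?_, ?_⟩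
      · rw [index_map_eq _ hs, hk]
        rw [QuotientGroup.ker_mk']; exact centralizer_le (by simp)
      · rintro _ ⟨g, hg, rfl⟩
        exact Subtype.ext (mul_inv_eq_iff_eq_mul.mpr (mem_centralizer_singleton_iff.mp hg)))
    fun W hW => by
      refine (hmin (W.map V.subtype) ⟨?_⟩ (map_subtype_le _)).imp (fun h => ?_) fun h => ?_
      · rintro _ ⟨w, hw, rfl⟩ g
        exact ⟨_, hW g _ hw, rfl⟩
      · exact (map_eq_bot_iff_of_injective _ V.subtype_injective).mp h
      · rwa [← map_subtype_inj, ← MonoidHom.range_eq_map, range_subtype]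
  exact QuotientGroup.subgroup_eq_top_of_subsingleton _ this

theorem isSolvable_of_orbits {G : Type*} [Group G] [Finite G] {p q : ℕ} [Fact q.Prime]
    (hp : p.Prime) (V : Subgroup G) [V.Normal] (hc : IsMulCommutative V) (hV : IsPGroup q V)
    (hi : ¬ q ∣ (centralizer (V : Set G)).index)
    (ho : ∀ v ∈ V, ∃ k, (centralizer ({v} : Set G)).index = p ^ k) :
    Group.IsSolvable (G ⧸ centralizer (V : Set G)) := by
  haveI : Fact (Nat.Prime 2) := ⟨Nat.prime_two⟩
  set C := centralizer (V : Set G) with hC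
  rcases (Nat.card (G ⧸ C)).even_or_odd with he | he
  swap
  · exact CF.Hyp.isSolvable_of_odd he
  have hq : q ≠ 2 := fun h => hi (h ▸ he.two_dvd)
  have hs := QuotientGroup.mk'_surjective C
  obtain rfl : p = 2 := by
    obtain ⟨t, ht⟩ := exists_prime_orderOf_dvd_card' 2 he.two_dvd
    obtain ⟨t, rfl⟩ := hs t
    have h1 : t ∉ C := fun h => by
      rw [QuotientGroup.mk'_apply, (QuotientGroup.eq_one_iff t).mpr h] at ht; simp at ht
    have h2 : t ^ 2 ∈ C := by
      rw [← QuotientGroup.eq_one_iff, QuotientGroup.mk_pow, ← ht]; exact pow_orderOf_eq_one _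
    obtain ⟨v, hv, hvt⟩ : ∃ v ∈ V, v * t ≠ t * v := by
      by_contra! h; exact h1 h
    have h3 := ‹V.Normal›.conj_mem v hv t
    set w := v⁻¹ * (t * v * t⁻¹) with hw
    have hwV : w ∈ V := mul_mem (inv_mem hv) h3
    have h4 : t * w * t⁻¹ = w⁻¹ := by
      calc t * w * t⁻¹ = (t * v * t⁻¹)⁻¹ * (t ^ 2 * v * (t ^ 2)⁻¹) := by rw [hw, sq]; group
        _ = _ := by rw [← h2 v hv, hw]; group
    have h5 : t ∉ centralizer {w} := fun h => by
      rw [mem_centralizer_singleton_iff.mp h, mul_inv_cancel_right, eq_inv_iff_mul_eq_one,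
        ← sq, ← orderOf_dvd_iff_pow_eq_one] at h4
      obtain ⟨k, hk⟩ := CF.Transfer.orderOf_eq_pow_of_mem hV hwV
      have := Nat.eq_one_of_dvd_coprimes (Nat.Coprime.pow_left k
        ((Nat.coprime_primes Fact.out Nat.prime_two).mpr hq)) hk.dvd h4
      rw [orderOf_eq_one_iff, hw, inv_mul_eq_one, eq_mul_inv_iff_mul_eq] at this
      exact hvt this
    have h6 : t ∈ normalizer (centralizer {w} : Set G) := by
      refine CF.Transfer.mem_normalizer_of_cj_le (CF.Transfer.cj_le_iff_forall.mpr fun x hx => ?_)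
      rw [mem_centralizer_singleton_iff] at hx ⊢
      refine (Commute.inv_right_iff.mp ?_).eq
      rw [← h4]
      exact (Commute.conj_iff t).mpr hx
    obtain ⟨k, hk⟩ := ho w hwV
    have h7 : 2 ∣ p ^ k := by
      rw [← hk]
      refine Dvd.dvd.trans ?_ (relIndex_dvd_index_of_le le_normalizer)
      have h8 : orderOf (QuotientGroup.mk (s := (centralizer {w}).subgroupOf (normalizer _))
          ⟨t, h6⟩) = 2 := orderOf_eq_prime (by
        rw [← QuotientGroup.mk_pow, QuotientGroup.eq_one_iff]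
        exact mem_centralizer_singleton_iff.mpr (h2 w hwV).symm)
        fun h => h5 ((QuotientGroup.eq_one_iff (⟨t, h6⟩ : normalizer _)).mp h)
      exact h8 ▸ _root_.orderOf_dvd_natCard _
    exact ((Nat.prime_dvd_prime_iff_eq Nat.prime_two hp).mp (Nat.prime_two.dvd_of_dvd_pow h7)).symm
  by_contra hns
  obtain ⟨n, hn⟩ : ∃ n, ⁅derivedSeries (G ⧸ C) n, derivedSeries (G ⧸ C) n⁆ = derivedSeries (G ⧸ C) n := by
    obtain ⟨_, ⟨n, rfl⟩, hmin⟩ := (wellFounded_lt (α := Subgroup (G ⧸ C))).has_min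
      (Set.range (derivedSeries (G ⧸ C))) ⟨_, 0, rfl⟩
    haveI := derivedSeries_normal (G ⧸ C) n
    exact ⟨n, ((commutator_le_left _ _).lt_or_eq).resolve_left (hmin _ ⟨n + 1, rfl⟩)⟩
  haveI := derivedSeries_normal (G ⧸ C) n
  set L := (derivedSeries (G ⧸ C) n).comap (QuotientGroup.mk' C) with hL
  have hCL : C ≤ L := QuotientGroup.le_comap_mk' _ _
  have hVL : V ≤ L := (le_centralizer V).trans hCL
  have h1 : centralizer (V.subgroupOf L : Set L) = C.subgroupOf L := by
    ext x
    exact ⟨fun h v hv => congrArg Subtype.val (h ⟨v, hVL hv⟩ hv), fun h v hv => Subtype.ext (h v hv)⟩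
  have h2 := perf hq _ L (V.subgroupOf L) rfl inferInstance (hV.comap_subtype) (by
      rw [h1]; exact fun h => hi (h.trans (relIndex_dvd_index_of_normal _ _)))
    (fun v hv => by
      obtain ⟨k, hk⟩ := ho v hv
      exact exists_pow_of_dvd_pow Nat.prime_two (hk ▸ index_centralizer_normal_dvd L v))
    (by
      rw [h1, ← map_subtype_inj, Subgroup.map_sup, map_subgroupOf_eq_of_le hCL,
        map_subtype_commutator, ← MonoidHom.range_eq_map, range_subtype,
        ← QuotientGroup.ker_mk' C, ← comap_map_eq, map_commutator, hL,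
        map_comap_eq_self_of_surjective hs, hn])
  rw [h1, subgroupOf_eq_top] at h2
  refine hns ⟨⟨n, ?_⟩⟩
  rw [← map_comap_eq_self_of_surjective hs (derivedSeries _ n), Subgroup.map_eq_bot_iff,
    QuotientGroup.ker_mk']
  exact h2

end CF.Fgs1.Baer
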