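/-
Groups of odd prime power order and rank two, part one: maximal class.
-/
import Cfsg.Agent.BG2.P4b
import Cfsg.Agent.S4143
set_option autoImplicit false
set_option linter.unusedSectionVars false

namespace CF.Blk
open Subgroup CF.BG CF.BG2
open scoped commutatorElement

universe u
variable {G : Type*} [Group G] [Finite G] {p : ℕ} {P R E N T W Y : Subgroup G}

/-- maximal class -/
def MC (p : ℕ) (P : Subgroup G) : Prop :=
  3 ≤ logn p (♯P) ∧ P.lowerCentralSeries (logn p (♯P) - 2) ≠ ⊥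

theorem lcs_normal (P : Subgroup G) (n : ℕ) : P.lowerCentralSeries n ⊴ P := by
  induction n with
  | zero => exact NormalIn.refl P
  | succ n ih => exact comm_normalIn ih

theorem le_logn_lcs (k : PiGrp {p} P) (r n : ℕ) (h : P.lowerCentralSeries (r + n) ≠ ⊥) :
    n + 1 ≤ logn p (♯(P.lowerCentralSeries r)) := by
  induction n generalizing r with
  | zero => exact (k.le (lcs_normal P r).le).logn_pos.2 h
  | succ n ih =>
    have h1 := ih (r + 1) (by rwa [add_assoc, add_comm 1])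
    have h2 := logn_comm_le k (lcs_normal P r)
    rw [Subgroup.lowerCentralSeries_succ] at h1
    omega

theorem logn_Phi (k : PiGrp {p} P) (h : ¬ Cyc P) : logn p (♯(𝚽 P)) + 2 ≤ logn p (♯P) := by
  have h1 := logn_qt (p := p) (Phi_normal P)
  by_contra e
  exact h (cyc_of_qt_Phi (cyc_of_logn_le_one (k.qt _) (by omega)))

theorem lcs_eq_bot (k : PiGrp {p} P) {r : ℕ} (h : logn p (♯P) ≤ r + 2) :
    P.lowerCentralSeries (r + 1) = ⊥ := by
  by_contra e
  have h1 := le_logn_lcs k 1 r (by rwa [add_comm])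
  have h2 := logn_Phi k fun c => e (le_bot_iff.1 ((P.lowerCentralSeries_antitone
    (Nat.le_add_left 1 r)).trans (der_eq_bot.2 c.abel).le))
  have h3 : logn p (♯(P.lowerCentralSeries 1)) ≤ _ := logn_card_le k.der_le_Phi
  omega

theorem lcs_le (k : PiGrp {p} P) (hN : N ⊴ P) {r : ℕ} (h : logn p (♯P) ≤ logn p (♯N) + r + 2) :
    P.lowerCentralSeries (r + 1) ≤ N := by
  have h1 := logn_qt (p := p) hN
  rw [← qt_eq_bot ((lcs_normal P _).le.trans hN.norm), qt_lcs hN.norm]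
  exact lcs_eq_bot (k.qt N) (by omega)

theorem lcs_eq_bot_of_center (k : PiGrp {p} P) (hW : W ≤ 𝐙 P) (l : 2 ≤ logn p (♯W)) {m : ℕ}
    (h : logn p (♯P) ≤ m + 3) : P.lowerCentralSeries (m + 1) = ⊥ := by
  have n := normalIn_of_le_center hW
  rcases m with _ | m
  · have h1 := logn_qt (p := p) n
    exact der_eq_bot.2 (abel_of_cyc_qt hW (cyc_of_logn_le_one (H := qt W P) (k.qt W) (by omega)))
  · exact comm_eq_bot.2 ((lcs_le k n (by omega)).trans (hW.trans inf_le_right))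

theorem MC.logn_center (h : MC p P) (k : PiGrp {p} P) : logn p (♯(𝐙 P)) ≤ 1 := by
  by_contra e
  have := h.1
  exact h.2 (by
    rw [show logn p (♯P) - 2 = logn p (♯P) - 3 + 1 by omega]
    exact lcs_eq_bot_of_center k le_rfl (by omega) (by omega))

theorem MC.center_eq (h : MC p P) (k : PiGrp {p} P) :
    P.lowerCentralSeries (logn p (♯P) - 2) = 𝐙 P := by
  have := h.1
  have h1 := h.logn_center k
  have h2 := (k.le (lcs_normal P _).le).logn_pos.2 h.2
  exact (k.le inf_le_left).eq_of_logn_le (le_inf (lcs_normal P _).le (comm_eq_bot.1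
    (lcs_eq_bot k (by omega)))) (by omega)

theorem mc_of_cent (hp : p.Prime) (k : PiGrp {p} P) (hE : E ≤ P) (l : logn p (♯E) = 3)
    (na : ¬ Abel E) (c : P ⊓ 𝐂 E ≤ E) : MC p P := by
  haveI := Fact.mk hp
  have h1 := l ▸ logn_card_le (p := p) hE
  obtain ⟨B, rfl⟩ := exists_map_subtype hE
  have h2 := (k.le hE).card_eq
  rw [l, card_map_of_injective P.subtype_injective] at h2
  have h3 := Cfsg.Agent.S4143.result _ k.card_eq B h2 (fun a => na ((Abel.of_comm a).map _))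
    (by
      rw [← map_le_map_iff_of_injective P.subtype_injective, ← top_inf_eq (𝐂 B),
        map_inf_cent P.subtype_injective, map_top_subtype]
      exact c)
  rw [CF.Fgs2.nilpotencyClass_eq_iff k.card_eq (by omega)] at h3
  exact ⟨h1, fun e => h3 (by
    rwa [← top_subtype_lowerCentralSeries, map_eq_bot_iff_of_injective _ P.subtype_injective] at e)⟩

theorem MC.lift (k : PiGrp {p} P) (hT : T ≤ 𝐙 P) (l : logn p (♯T) = 1) (h : MC p (qt T P))
    {y : G} (hy : y ∈ P) (h1 : qe T y ∈ 𝐂 (qt T P)) (h2 : y ∉ 𝐂 P) : MC p P := by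
  have n := normalIn_of_le_center hT
  have e := logn_qt (p := p) n
  have := h.1
  refine ⟨by omega, fun a => h2 ?_⟩
  rw [show logn p (♯P) - 2 = logn p (♯(qt T P)) - 2 + 1 by omega, Subgroup.lowerCentralSeries_succ,
    comm_eq_bot] at a
  have h3 : qe T y ∈ 𝐙 (qt T P) := ⟨qe_mem_qt hy (n.norm hy), h1⟩
  rw [← h.center_eq (k.qt T), ← qt_lcs n.norm, ← qt_sup_left ((lcs_normal P _).le.trans n.norm),
    qe_mem_qt_iff (n.norm hy) le_sup_left] at h3
  exact sup_le (hT.trans inf_le_right) a h3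

theorem comm_pow_of_cent {x y : G} (h : Commute x ⁅x, y⁆) (n : ℕ) : ⁅x ^ n, y⁆ = ⁅x, y⁆ ^ n := by
  rw [← commutatorElement_inv, Transfer.commutatorElement_pow_right'
    (by rw [← commutatorElement_inv]; exact h.inv_right), ← inv_pow, commutatorElement_inv]

theorem mul_pow_of (hp : p.Prime) (h2 : p ≠ 2) (d : ⁅W, W⁆ ≤ 𝐂 W) (e : ∀ x ∈ W, x ^ p ∈ 𝐂 W) :
    ∀ u ∈ W, ∀ v ∈ W, (u * v) ^ p = u ^ p * v ^ p := fun u hu v hv => by
  have m := d (commutator_mem_commutator hv hu)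
  refine mul_pow_prime_class_two hp h2 (comm_of_cent m hu).symm (comm_of_cent m hv).symm ?_
  rw [← comm_pow_of_cent (comm_of_cent m hv).symm, commutatorElement_eq_one_iff_commute]
  exact comm_of_cent (e v hv) hu

theorem logn_le_add (hp : p.Prime) (h2 : p ≠ 2) (d : ⁅W, W⁆ ≤ 𝐂 W) (c : T ≤ 𝐂 W)
    (e : ∀ x ∈ W, x ^ p ∈ T) : logn p (♯W) ≤ logn p (♯(𝛀 p W)) + logn p (♯T) := by
  obtain ⟨I, i1, -, i3⟩ := card_Om_mul_card_range hp (mul_pow_of hp h2 d fun x hx => c (e x hx))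
  have i5 := logn_card_le (p := p) (show I ≤ T from fun x hx => by
    obtain ⟨y, hy, rfl⟩ := (i1 x).1 hx
    exact e y hy)
  have i6 := congrArg (logn p) i3
  rw [logn_mul (card_ne_zero' _) (card_ne_zero' _)] at i6
  omega

theorem pow_mem_of_qp {X : Subgroup (Quo T)} (h : ∀ x ∈ X, x ^ p = 1) :
    ∀ x ∈ qp T X, x ^ p ∈ T := fun x hx => by
  obtain ⟨nx, hx⟩ := mem_qp.1 hx
  rw [← qe_eq_one (Subgroup.pow_mem _ nx p), qe_pow nx]
  exact h _ hx

theorem logn_qp (X : Subgroup (Quo T)) : logn p (♯(qp T X)) = logn p (♯T) + logn p (♯X) := by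
  rw [card_qp, logn_mul (card_ne_zero' _) (card_ne_zero' _)]

theorem der_qp_le {X : Subgroup (Quo T)} (h : Abel X) : ⁅qp T X, qp T X⁆ ≤ T :=
  (abel_qt_iff (qp_le_norm X)).1 (by rwa [qt_qp])

theorem meta_step (hp : p.Prime) (h2 : p ≠ 2) (k : PiGrp {p} R) (h : logn p (♯(𝛀 p R)) ≤ 2)
    (a : ¬ Abel R) : ∃ T, Elem p 1 T (⁅R, R⁆ ⊓ 𝐙 R) ∧ (Meta (qt T R) → Meta R) := by
  set M : Subgroup G := closure {y | ∃ x ∈ ⁅R, R⁆, x ^ p = y} with hM
  have m1 : M ≤ ⁅R, R⁆ := by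
    rw [hM, closure_le]; rintro _ ⟨x, hx, rfl⟩; exact Subgroup.pow_mem _ hx p
  have m2 : M ⊴ R := by
    refine ⟨m1.trans (der_le R), le_norm_of_cj_le fun g hg => ?_⟩
    rw [cj_le_iff, hM, closure_le]
    rintro _ ⟨x, hx, rfl⟩
    exact mem_cj_inv.2 (subset_closure ⟨_, (der_normal R).conj_mem hg hx, conj_pow⟩)
  obtain ⟨T, hT, tM⟩ : ∃ T, Elem p 1 T (⁅R, R⁆ ⊓ 𝐙 R) ∧ (M ≠ ⊥ → T ≤ M) := by
    by_cases e : M = ⊥
    · obtain ⟨T, hT⟩ := k.exists_elem_center (der_normal R) fun e => a (der_eq_bot.1 e)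
      exact ⟨T, hT, fun h => absurd e h⟩
    · obtain ⟨T, hT⟩ := k.exists_elem_center m2 e
      exact ⟨T, hT.mono (inf_le_inf_right _ m1), fun _ => hT.le.trans inf_le_left⟩
  refine ⟨T, hT, fun ⟨Y, y1, y2, y3⟩ => ?_⟩
  have t1 : T ≤ ⁅R, R⁆ := hT.le.trans inf_le_left
  have t2 : T ≤ 𝐂 R := hT.le.trans (inf_le_right.trans inf_le_right)
  have t3 : T ⊴ R := ⟨t1.trans (der_le R), norm_of_cent' t2⟩
  obtain ⟨a', rfl⟩ := y2.exists_gen
  obtain ⟨a, ha, na, rfl⟩ := mem_qt.1 (y1.le (mem_zpowers a'))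
  obtain ⟨b', hb', eb⟩ := (cyc_qt_iff y1.norm).1 y3
  obtain ⟨b, hb, nb, rfl⟩ := mem_qt.1 hb'
  have gen : R ≤ T ⊔ (zpowers a ⊔ zpowers b) := by
    rw [← qt_zpowers na, ← qt_zpowers nb, ← qt_sup (zpowers_le.2 na) (zpowers_le.2 nb),
      qt_le_qt_iff t3.norm (sup_le (zpowers_le.2 na) (zpowers_le.2 nb))] at eb
    exact eb
  have x1 : T ⊔ zpowers a ⊴ R := by
    have := y1.qp_of_qt t3
    rwa [← qt_zpowers na, qp_qt (zpowers_le.2 na)] at this
  by_cases ta : T ≤ zpowers a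
  · rw [sup_eq_right.2 ta] at x1
    refine meta_of_sup x1 hb ?_
    rwa [← sup_assoc, sup_eq_right.2 ta] at gen
  have ca : T ≤ 𝐂 (zpowers a) := t2.trans (cent_anti (zpowers_le.2 ha))
  have x2 : ⁅R, R⁆ ≤ T ⊔ zpowers a := by
    refine der_le_of_gen gen t2 ha hb x1.norm (comm_mem_right (x1.norm hb) ?_)
    exact mem_sup_right (mem_zpowers a)
  have m3 : M ≤ zpowers a := by
    rw [hM, closure_le]
    rintro _ ⟨x, hx, rfl⟩
    obtain ⟨t, ht, s, hs, rfl⟩ := (mem_sup_norm (norm_of_cent ca)).1 (x2 hx)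
    rw [(comm_of_cent (ca ht) hs).mul_pow, hT.ab.pow t ht, one_mul]
    exact Subgroup.pow_mem _ hs p
  have m4 : M = ⊥ := by
    by_contra e; exact ta ((tM e).trans m3)
  have ex : ∀ x ∈ ⁅R, R⁆, x ^ p = 1 := fun x hx =>
    eq_one_of_mem_bot m4 (subset_closure ⟨x, hx, rfl⟩)
  obtain ⟨i, hi⟩ := exists_conj_eq_zpow hp ((k.elt ha).qe na) ((k.elt hb).qe nb) (y1.norm hb')
  have u1 : ⁅b, a⁆ ∈ ⁅R, R⁆ := commutator_mem_commutator hb ha
  have u2 : (a ^ (p * i : ℤ))⁻¹ * ⁅b, a⁆ ∈ T := by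
    rw [← qe_eq_iff (Subgroup.zpow_mem _ na _) (t3.norm (der_le R u1)), qe_zpow na, qe_comm nb na,
      commutatorElement_def, hi]
    group
  have xa : Abel (T ⊔ zpowers a) := hT.abel.sup (abel_zpowers a) ca
  have u3 : Commute a ⁅b, a⁆ := xa.mul_comm (mem_sup_right (mem_zpowers a)) (x2 u1)
  have u4 : Commute b ⁅b, a⁆ := by
    have e1 : ⁅b, a ^ (p * i : ℤ)⁆ = 1 := by
      have e2 : ⁅b, a ^ p⁆ = 1 := by
        rw [Transfer.commutatorElement_pow_right' u3, ex _ u1]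
      rw [commutatorElement_eq_one_iff_commute] at e2 ⊢
      rw [zpow_mul, zpow_natCast]
      exact e2.zpow_right i
    have e3 := (commutatorElement_eq_one_iff_commute.1 e1).mul_right
      (comm_of_cent (t2 u2) hb).symm
    simpa using e3
  have u5 : zpowers ⁅b, a⁆ ≤ 𝐂 R := by
    rw [cent_comm, cent_zpowers]
    refine gen.trans (sup_le ?_ (sup_le ?_ ?_))
    · exact t2.trans (cent_le_cent1 (der_le R u1))
    · exact zpowers_le.2 (mem_cent1.2 u3)
    · exact zpowers_le.2 (mem_cent1.2 u4)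
  have u6 := abelem_zpowers hp (ex _ u1)
  exact meta_of_der_le hp h2 k u5 (u6.cyc_iff.1 (cyc_zpowers _)) u6.pi
    (der_le_of_gen gen t2 ha hb (norm_of_cent' u5) (mem_zpowers _)) h

theorem meta_or_mc_of_mc (hp : p.Prime) (h2 : p ≠ 2) (k : PiGrp {p} R)
    (h : logn p (♯(𝛀 p R)) ≤ 2) (hT : Elem p 1 T (⁅R, R⁆ ⊓ 𝐙 R)) (m : MC p (qt T R))
    (o : logn p (♯(𝛀 p (qt T R))) ≤ 2) : Meta (qt T R) ∨ MC p R := by
  have t1 : T ≤ 𝐙 R := hT.le.trans inf_le_right
  have n := normalIn_of_le_center t1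
  have e := logn_qt (p := p) n
  have kq := k.qt T
  have m1 := m.1
  have l := hT.log
  by_contra! hh
  have y0 : qp T (𝐙 (qt T R)) ≤ R := qp_le_of_le_qt n inf_le_left
  have y1 : qp T (𝐙 (qt T R)) ≤ 𝐙 R := fun y hy => ⟨y0 hy, by_contra fun a =>
    hh.2 (m.lift k t1 l (y0 hy) (mem_qp.1 hy).2.2 a)⟩
  have y2 := logn_qp (p := p) (𝐙 (qt T R))
  have z1 := m.logn_center kq
  have z2 := (kq.le inf_le_left).logn_pos.2 (m.center_eq kq ▸ m.2)
  obtain ⟨j, hj⟩ : ∃ j, logn p (♯(qt T R)) = j + 4 := Nat.exists_eq_add_of_le' (by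
    by_contra a
    have := m.center_eq kq
    rw [show logn p (♯(qt T R)) - 2 = 1 by omega] at this
    exact hh.1 (meta_of_der_le hp h2 kq inf_le_right z1 (kq.le inf_le_left) this.le o))
  have c := m.center_eq kq
  have m2 := m.2
  rw [hj, show j + 4 - 2 = j + 1 + 1 from rfl, ← qt_lcs n.norm] at c m2
  rw [← c, qp_qt ((lcs_normal R _).le.trans n.norm)] at y0 y1 y2
  rw [← c] at z1 z2
  have na : ¬ Cyc R := fun a => m2 (qt_of_le ((R.lowerCentralSeries_antitone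
    (Nat.le_add_left 1 _)).trans ((der_eq_bot.2 a.abel).le.trans bot_le)))
  have ph : ⁅R, R⁆ = 𝚽 R := (k.le (Phi_le R)).eq_of_logn_le k.der_le_Phi (by
    have a1 := logn_Phi k na
    have a2 := le_logn_lcs kq 1 (j + 1) (by rwa [add_comm, ← qt_lcs n.norm])
    have a3 := logn_qt (p := p) (n.of_le (hT.le.trans inf_le_left) (der_le R))
    rw [← qt_lcs n.norm] at a2
    change _ ≤ logn p (♯(qt T ⁅R, R⁆)) at a2
    omega)
  have c1 : ⁅R.lowerCentralSeries (j + 1), R⁆ ≤ 𝐂 R := le_sup_right.trans (y1.trans inf_le_right)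
  have c2 : ⁅R, R⁆ ≤ 𝐂 (R.lowerCentralSeries (j + 1)) := comm_eq_bot.1
    (commutator_commutator_eq_bot_of_rotate (by rw [commutator_comm R]; exact comm_eq_bot.2 c1)
      (comm_eq_bot.2 c1))
  have y3 : T ⊔ R.lowerCentralSeries (j + 1 + 1) ≤ 𝛀 p R := sup_le (hT.ab.le_Om n.le)
    (commutator_le.2 fun x hx g hg => mem_Om (y0 (mem_sup_right (commutator_mem_commutator hx hg)))
      (by
        rw [← Transfer.commutatorElement_pow_right'
          (comm_of_cent (c1 (commutator_mem_commutator hx hg)) hg).symm,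
          commutatorElement_eq_one_iff_commute]
        exact (comm_of_cent (c2 (ph ▸ k.pow_mem_Phi hg)) hx).symm))
  have y4 := (k.le (Om_le p R)).eq_of_logn_le y3 (by omega)
  generalize T ⊔ R.lowerCentralSeries (j + 1 + 1) = Y at *
  have nY := normalIn_of_le_center y1
  have e' := logn_qt (p := p) nY
  refine m2 (qt_of_le (le_trans (comm_eq_bot.2 ?_).le bot_le))
  refine le_trans ?_ (y1.trans inf_le_right)
  by_cases cy : Cyc (qt Y R)
  · exact (R.lowerCentralSeries_antitone (Nat.le_add_left 1 _)).trans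
      ((der_eq_bot.2 (abel_of_cyc_qt y1 cy)).le.trans bot_le)
  obtain ⟨A, hA, nA⟩ := exists_normal_elem_two hp h2 (k.qt Y) cy
  have w1 := nA.qp_of_qt nY
  have w2 : Y ≤ 𝐂 (qp Y A) := y1.trans (inf_le_right.trans (cent_anti w1.le))
  have w3 := pow_mem_of_qp hA.ab.pow
  have w4 := mul_pow_of hp h2 ((der_qp_le hA.abel).trans w2) fun x hx => w2 (w3 x hx)
  have w5 : ⁅R, qp Y A⁆ ≤ Y := commutator_le.2 fun g hg w hw => y4 ▸ mem_Om
    (der_le R (commutator_mem_commutator hg (w1.le hw))) (by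
      rw [commutatorElement_def, w4 _ (w1.conj_mem hg hw) _ (inv_mem hw), conj_pow, inv_pow,
        ← (comm_of_cent (y1 (w3 w hw)).2 hg).eq]
      group)
  rw [← qt_eq_bot ((lcs_normal R _).le.trans nY.norm), qt_lcs nY.norm]
  refine lcs_eq_bot_of_center (k.qt Y) (W := A) (le_inf nA.le ?_) hA.log.ge (by omega)
  rw [← comm_eq_bot, ← qt_qp A, ← qt_comm (qp_le_norm A) nY.norm,
    qt_eq_bot (((comm_normalIn w1).le).trans nY.norm), commutator_comm]
  exact w5

end CF.Blk
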