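/-
Groups of odd prime power order and rank two, part two: a subgroup of order p cubed and exponent p.
-/
import Cfsg.Agent.Fgs1.Blk1
set_option autoImplicit false
set_option linter.unusedSectionVars false

namespace CF.Blk
open Subgroup CF.BG CF.BG2
open scoped commutatorElement

universe u
variable {G : Type*} [Group G] [Finite G] {p : ℕ} {P R N U : Subgroup G} {x a g r : G}

theorem mem_zpowers_pow (hp : p.Prime) {c y : G} (k : PiGrp {p} (zpowers c)) (hy : y ∈ zpowers c)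
    (h : c ∉ zpowers y) : y ∈ zpowers (c ^ p) := by
  obtain ⟨i, rfl⟩ := mem_powers_iff_mem_zpowers.2 hy
  by_cases d : p ∣ i
  · obtain ⟨j, rfl⟩ := d
    exact ⟨j, by simp only [pow_mul, zpow_natCast]⟩
  · refine absurd (mem_zpowers_pow_iff.2 ?_) h
    rw [← Nat.card_zpowers, k.card_eq]
    exact (Nat.Coprime.pow_left _ ((Nat.Prime.coprime_iff_not_dvd hp).2 d)).symm

theorem logn_sup (p : ℕ) {H K : Subgroup G} (h : H ≤ 𝐍 K ∨ K ≤ 𝐍 H) :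
    logn p (♯(H ⊔ K)) + logn p (♯(H ⊓ K)) = logn p (♯H) + logn p (♯K) := by
  rw [← logn_mul (card_ne_zero' _) (card_ne_zero' _), card_sup_mul_card_inf h,
    logn_mul (card_ne_zero' _) (card_ne_zero' _)]

/-- the standing situation -/
structure St (p : ℕ) (P R : Subgroup G) (x : G) : Prop where
  hp : p.Prime
  h2 : p ≠ 2
  k : PiGrp {p} P
  rk : pRank p P ≤ 2
  hR : Elem p 2 R P
  nR : R ⊴ P
  hx : x ∈ P
  xp : x ^ p = 1
  xn : x ∉ R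

namespace St

theorem mem (S : St p P R x) (ha : a ∈ P) (c : a ∈ 𝐂 R) (e : a ^ p = 1) : a ∈ R :=
  (S.hR.max_of_pRank S.rk).mem S.hp ha c e

theorem nc (S : St p P R x) : x ∉ 𝐂 R := fun c => S.xn (S.mem S.hx c S.xp)

theorem comm (S : St p P R x) (hr : r ∈ R) (hg : g ∈ P) : ⁅r, g⁆ ∈ R ⊓ 𝐂 P :=
  ⟨comm_mem_left hr (S.nR.norm hg), (le_Z2.1 (le_Z2_of_logn S.k S.nR S.hR.log.le)).2
    (commutator_mem_commutator hr hg)⟩

theorem Z (S : St p P R x) : Elem p 1 (R ⊓ 𝐂 P) R := by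
  refine S.hR.one_of_lt (lt_of_le_of_ne inf_le_left fun e => S.nc
    (cent_comm.1 (e.ge.trans inf_le_right) S.hx)) fun e => ?_
  obtain ⟨X, hX⟩ := S.k.exists_elem_center S.nR S.hR.ne_bot
  exact hX.ne_bot (le_bot_iff.1 (hX.le.trans ((inf_le_inf_left _ inf_le_right).trans e.le)))

theorem memZ (S : St p P R x) (hr : r ∈ R) (c : Commute r x) : r ∈ R ⊓ 𝐂 P := by
  have h1 : R ⊓ 𝐂 P ≤ R ⊓ 𝐂₁ x := inf_le_inf_left _ (cent_le_cent1 S.hx)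
  have h2 : Elem p 1 (R ⊓ 𝐂₁ x) R := S.hR.one_of_lt (lt_of_le_of_ne inf_le_left fun e => S.nc
    (mem_cent.2 fun h hh => mem_cent1.1 (e.ge hh).2)) fun e => S.Z.ne_bot (le_bot_iff.1 (e ▸ h1))
  exact (S.Z.eq_of_le h2 h1).ge ⟨hr, mem_cent1.2 c⟩

theorem le (S : St p P R x) : R ⊔ zpowers x ≤ P := sup_le S.nR.le (zpowers_le.2 S.hx)

theorem exE (S : St p P R x) : ∀ e ∈ R ⊔ zpowers x, e ^ p = 1 := fun e he => by
  have hz : zpowers x ≤ P := zpowers_le.2 S.hx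
  obtain ⟨r, hr, s, hs, rfl⟩ := (mem_sup_norm' (hz.trans S.nR.norm)).1 he
  have m : ⁅s, r⁆ ∈ R ⊓ 𝐂 P := by
    rw [← commutatorElement_inv]; exact inv_mem (S.comm hr (hz hs))
  rw [mul_pow_prime_class_two S.hp S.h2 (comm_of_cent m.2 (S.nR.le hr)).symm
    (comm_of_cent m.2 (hz hs)).symm (S.hR.ab.pow _ m.1), S.hR.ab.pow _ hr,
    (abelem_zpowers S.hp S.xp).pow _ hs, one_mul]

theorem logE (S : St p P R x) : logn p (♯(R ⊔ zpowers x)) = 3 := by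
  have h1 := logn_le_three_of_exp S.hp (S.k.le S.le) ((pRank_mono p S.le).trans S.rk) S.exE
  have h2 := (S.k.le S.le).logn_lt (lt_of_le_of_ne le_sup_left fun e =>
    S.xn (e.ge (mem_sup_right (mem_zpowers x))))
  rw [S.hR.log] at h2
  omega

theorem na (S : St p P R x) : ¬ Abel (R ⊔ zpowers x) := fun a => S.nc (mem_cent.2 fun _ hh =>
  a.mul_comm (mem_sup_left hh) (mem_sup_right (mem_zpowers x)))

theorem memC (S : St p P R x) :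
    a ∈ P ⊓ 𝐂 (R ⊔ zpowers x) ↔ a ∈ P ∧ a ∈ 𝐂 R ∧ ⁅a, x⁆ = 1 := by
  rw [cent_sup, cent_zpowers, mem_inf, mem_inf, mem_cent1, commutatorElement_eq_one_iff_mul_comm]

theorem ZC (S : St p P R x) : R ⊓ 𝐂 P ≤ P ⊓ 𝐂 (R ⊔ zpowers x) :=
  inf_le_inf S.nR.le (cent_anti S.le)

theorem cycC (S : St p P R x) : Cyc (P ⊓ 𝐂 (R ⊔ zpowers x)) :=
  cyc_of_Om_le S.hp S.h2 (S.k.le inf_le_left) S.Z.cyc (Om_le_iff.2 fun a ha e => by
    obtain ⟨a1, a2, a3⟩ := S.memC.1 ha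
    exact S.memZ (S.mem a1 a2 e) (commutatorElement_eq_one_iff_commute.1 a3))

theorem delta (S : St p P R x) (ha : a ∈ P) (c : a ∈ 𝐂 R) (n : a ∈ 𝐍 (R ⊔ zpowers x)) :
    ⁅a, x⁆ ∈ R :=
  S.mem (comm_mem_left ha (le_norm_self P S.hx)) (comm_mem_left c (norm_cent S.nR.norm S.hx))
    (S.exE _ (comm_mem_right n (mem_sup_right (mem_zpowers x))))

theorem d_mul {b : G} (c : a ∈ 𝐂 R) (h : ⁅b, x⁆ ∈ R) : ⁅a * b, x⁆ = ⁅b, x⁆ * ⁅a, x⁆ := by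
  rw [← mul_inv_cancel_right ⁅b, x⁆ a, ← (comm_of_cent c h).eq]
  simp only [commutatorElement_def]; group

theorem d_inv (c : a ∈ 𝐂 R) (h : ⁅a, x⁆ ∈ R) : ⁅a⁻¹, x⁆ = ⁅a, x⁆⁻¹ := by
  rw [← mul_inv_cancel_right ⁅a, x⁆⁻¹ a⁻¹, ← (comm_of_cent (inv_mem c) (inv_mem h)).eq]
  simp only [commutatorElement_def]; group

theorem d_pow (c : a ∈ 𝐂 R) (h : ⁅a, x⁆ ∈ R) (n : ℕ) : ⁅a ^ n, x⁆ = ⁅a, x⁆ ^ n :=
  comm_pow_of_cent (comm_of_cent c h) n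

theorem exists_D (P : Subgroup G) (x : G) (hU : U ≤ R) :
    ∃ H : Subgroup G, ∀ h, h ∈ H ↔ h ∈ P ∧ h ∈ 𝐂 R ∧ ⁅h, x⁆ ∈ U :=
  ⟨{ carrier := {h | h ∈ P ∧ h ∈ 𝐂 R ∧ ⁅h, x⁆ ∈ U}
     one_mem' := ⟨P.one_mem, Subgroup.one_mem _, by simp⟩
     mul_mem' := fun h k => ⟨P.mul_mem h.1 k.1, Subgroup.mul_mem _ h.2.1 k.2.1, by
       rw [d_mul h.2.1 (hU k.2.2)]; exact U.mul_mem k.2.2 h.2.2⟩
     inv_mem' := fun h => ⟨P.inv_mem h.1, Subgroup.inv_mem _ h.2.1, by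
       rw [d_inv h.2.1 (hU h.2.2)]; exact U.inv_mem h.2.2⟩ }, fun _ => Iff.rfl⟩

theorem C_le (S : St p P R x) (hg : g ∈ P) (c : g ∈ 𝐂 R) (h : ⁅g, x⁆ ∈ R) (n : ⁅g, x⁆ ∉ 𝐂 P) :
    P ⊓ 𝐂 (R ⊔ zpowers x) ≤ zpowers (g ^ p) := by
  obtain ⟨H, hH⟩ := exists_D P x (zpowers_le.2 h)
  have kH : PiGrp {p} H := S.k.le fun a ha => ((hH a).1 ha).1
  have n1 : ⁅g, x⁆ ≠ 1 := fun e => n (e ▸ Subgroup.one_mem _)
  have cH : Cyc H := cyc_of_Om_le S.hp S.h2 kH S.Z.cyc (Om_le_iff.2 fun a ha e => by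
    obtain ⟨a1, a2, a3⟩ := (hH a).1 ha
    have a4 := S.mem a1 a2 e
    refine S.memZ a4 (commutatorElement_eq_one_iff_commute.1 (eq_one_of_mem_bot
      (S.Z.inf_eq_bot (S.hR.ab.elem_zpowers h n1) fun e => n ?_) ⟨S.comm a4 S.hx, a3⟩))
    exact (e.ge (mem_zpowers _)).2)
  have h1 : zpowers g ≤ H := zpowers_le.2 ((hH g).2 ⟨hg, c, mem_zpowers _⟩)
  intro a ha
  obtain ⟨a1, a2, a3⟩ := S.memC.1 ha
  have n2 : g ∉ zpowers a := fun e => n1 (S.memC.1 (zpowers_le.2 ha e)).2.2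
  refine mem_zpowers_pow S.hp (kH.le h1) ?_ n2
  exact ((cH.le_total kH h1 (zpowers_le.2 ((hH a).2 ⟨a1, a2, a3 ▸ Subgroup.one_mem _⟩))).resolve_left
    fun e => n2 (e (mem_zpowers g))) (mem_zpowers a)

theorem dR (S : St p P R x) {z : G} (hz : z ∈ R ⊓ 𝐂 P) : ∃ r ∈ R, ⁅r, x⁆ = z := by
  obtain ⟨r, hr, n⟩ : ∃ r ∈ R, ⁅r, x⁆ ≠ 1 := by
    by_contra! h
    exact S.nc (mem_cent.2 fun r hr => commutatorElement_eq_one_iff_mul_comm.1 (h r hr))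
  rw [← zpowers_eq_of_prime S.Z.card_prime (S.comm hr S.hx) n] at hz
  obtain ⟨i, rfl⟩ := mem_powers_iff_mem_zpowers.2 hz
  exact ⟨r ^ i, R.pow_mem hr i, d_pow (S.hR.abel hr) (S.comm hr S.hx).1 i⟩

theorem R_le (S : St p P R x) (hr : r ∈ R) (n : r ∉ 𝐂 P) : R ≤ (R ⊓ 𝐂 P) ⊔ zpowers r := by
  have h := S.Z.sup_one (S.hR.ab.elem_zpowers hr fun e => n (e ▸ Subgroup.one_mem _))
    ((zpowers_le.2 hr).trans (S.hR.abel.trans (cent_anti inf_le_left)))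
    fun e => n (e (mem_zpowers r)).2
  exact (h.eq_of_le S.hR h.le).ge

theorem le_sup (S : St p P R x) (hN : N ≤ P) (hx : x ∈ N) : N ≤ N ⊓ 𝐂 R ⊔ zpowers x := by
  have h1 := logn_relIndex_cent_le S.hR.ab S.hR.log.le (S.k.le hN) (hN.trans S.nR.norm)
  have h2 := logn_inf_add (p := p) (𝐂 R) N
  have h3 : N ⊓ 𝐂 R ⊔ zpowers x ≤ N := sup_le inf_le_left (zpowers_le.2 hx)
  have h4 := ((S.k.le hN).le h3).logn_lt (lt_of_le_of_ne le_sup_left fun e =>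
    S.nc (e.ge (mem_sup_right (mem_zpowers x))).2)
  rw [inf_comm] at h2
  exact ((S.k.le hN).eq_of_logn_le h3 (by omega)).ge

theorem step (S : St p P R x) (ha : a ∈ P) (c : a ∈ 𝐂 R) (h : ⁅a, x⁆ ∈ R) (e : (a * x) ^ p = 1)
    (nC : ¬ P ⊓ 𝐂 (R ⊔ zpowers x) ≤ R ⊔ zpowers x) : a ∈ R := by
  have h' : ⁅x, a⁆ ∈ R := by rw [← commutatorElement_inv]; exact inv_mem h
  by_cases m : ⁅a, x⁆ ∈ 𝐂 P
  · have m' : ⁅x, a⁆ ∈ 𝐂 P := by rw [← commutatorElement_inv]; exact inv_mem m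
    rw [mul_pow_prime_class_two S.hp S.h2 (comm_of_cent m' ha).symm (comm_of_cent m' S.hx).symm
      (S.hR.ab.pow _ h'), S.xp, mul_one] at e
    exact S.mem ha c e
  · refine absurd ((S.C_le ha c h m).trans ((zpowers_le.2 ?_).trans le_sup_left)) nC
    have na := S.nR.norm ha
    have nx := S.nR.norm S.hx
    have c1 : Commute (qe R a) (qe R x) := by
      rw [← commutatorElement_eq_one_iff_commute, ← qe_comm na nx,
        qe_eq_one (S.nR.norm (S.nR.le h))]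
      exact h
    have c2 := congrArg (qe R) e
    rw [qe_pow (Subgroup.mul_mem _ na nx), qe_mul na nx, c1.mul_pow, ← qe_pow nx, S.xp, qe_one,
      mul_one, ← qe_pow na, qe_eq_one (Subgroup.pow_mem _ na p)] at c2
    exact c2

theorem normal (S : St p P R x) (nC : ¬ P ⊓ 𝐂 (R ⊔ zpowers x) ≤ R ⊔ zpowers x) :
    R ⊔ zpowers x ⊴ P := by
  set E := R ⊔ zpowers x with hE
  have h1 : E ≤ P ⊓ 𝐍 E := le_inf S.le (le_norm_self E)
  have h2 : 𝛀 p (P ⊓ 𝐍 E) = E := by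
    refine le_antisymm (Om_le_iff.2 fun y hy e => ?_) fun y hy => mem_Om (h1 hy) (S.exE y hy)
    have hx := h1 (mem_sup_right (mem_zpowers x))
    have n : zpowers x ≤ 𝐍 (P ⊓ 𝐍 E ⊓ 𝐂 R) := (zpowers_le.2 hx).trans
      (norm_inf (le_norm_self _) (norm_cent (inf_le_left.trans S.nR.norm)))
    obtain ⟨a, ha, s, hs, rfl⟩ := (mem_sup_norm' n).1 (S.le_sup inf_le_left hx hy)
    refine E.mul_mem (mem_sup_left ?_) (mem_sup_right hs)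
    by_cases s1 : s = 1
    · exact S.mem ha.1.1 ha.2 (by rwa [s1, mul_one] at e)
    have x1 : x ≠ 1 := fun e => S.xn (e ▸ R.one_mem)
    have z := zpowers_eq_of_prime (elem_zpowers' S.hp S.hx S.xp x1).card_prime hs s1
    have S' : St p P R s := ⟨S.hp, S.h2, S.k, S.rk, S.hR, S.nR, zpowers_le.2 S.hx hs,
      (abelem_zpowers S.hp S.xp).pow _ hs, fun h => S.xn (zpowers_le.2 h (z.ge (mem_zpowers x)))⟩
    exact S'.step ha.1.1 ha.2 (S'.delta ha.1.1 ha.2 (z ▸ ha.1.2)) e (z ▸ nC)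
  have h3 := S.k.nil.eq_of_inf_norm_le (K := P ⊓ 𝐍 E) inf_le_left
    (inf_le_inf_left _ ((norm_Om p _).trans (by rw [h2])))
  exact ⟨S.le, h3.ge.trans inf_le_right⟩

theorem ord (S : St p P R x) {z : G} (hz : z ∈ P) (c : z ∈ 𝐂 R) (h : P ⊓ 𝐂 R ≤ R ⊔ zpowers z)
    (hZ : R ⊓ 𝐂 P ≤ zpowers z) {n : ℕ} (hn : logn p (♯P) = n) :
    3 ≤ n ∧ z ^ p ^ (n - 2) = 1 ∧ zpowers (z ^ p ^ (n - 3)) = R ⊓ 𝐂 P := by
  have kz : PiGrp {p} (zpowers z) := S.k.le (zpowers_le.2 hz)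
  have h1 := logn_sup p (Or.inr ((zpowers_le.2 hz).trans S.nR.norm))
  have h2 : Elem p 1 (R ⊓ zpowers z) R := S.hR.one_of_lt (lt_of_le_of_ne inf_le_left fun e =>
    S.hR.not_cyc ((cyc_zpowers z).mono (e.ge.trans inf_le_right)))
    fun e => S.Z.ne_bot (le_bot_iff.1 ((le_inf inf_le_left hZ).trans e.le))
  have h3 : P ⊓ 𝐂 R = R ⊔ zpowers z := le_antisymm h
    (sup_le (le_inf S.nR.le S.hR.abel) (zpowers_le.2 ⟨hz, c⟩))
  have h4 := logn_inf_add (p := p) (𝐂 R) P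
  rw [relIndex_cent_elem_two S.hR S.k S.nR.norm (fun e => S.nc (e S.hx)), logn_self S.hp, inf_comm,
    h3, hn] at h4
  have h5 := logn_card_le (p := p) hZ
  rw [S.hR.log, h2.log] at h1
  rw [S.Z.log] at h5
  have o : orderOf z = p ^ (n - 3 + 1) := by
    rw [← Nat.card_zpowers, kz.card_eq]; congr 1; omega
  have e1 : z ^ p ^ (n - 3 + 1) = 1 := o ▸ pow_orderOf_eq_one z
  refine ⟨by omega, by rwa [show n - 2 = n - 3 + 1 by omega], ?_⟩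
  have h6 := elem_zpowers' S.hp (Subgroup.pow_mem _ (mem_zpowers z) (p ^ (n - 3)))
    (by rwa [← pow_mul, ← pow_succ]) fun e => by
      have := Nat.le_of_dvd (pow_pos S.hp.pos _) (o ▸ orderOf_dvd_of_pow_eq_one e)
      exact absurd this (not_le.2 (Nat.pow_lt_pow_right S.hp.one_lt (by omega)))
  rw [(cyc_zpowers z).eq_Om h6, (cyc_zpowers z).eq_Om (S.Z.of_le hZ)]

theorem gen (S : St p P R x) {X y z : G} (h : P ⊓ 𝐂 R ≤ R ⊔ zpowers z) (hZ : R ⊓ 𝐂 P ≤ zpowers z)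
    (hX : x ∈ zpowers X) (hy : y ∈ R) (n : y ∉ 𝐂 P) : P ≤ closure {X, y, z} := by
  have a : ∀ w ∈ ({X, y, z} : Set G), zpowers w ≤ closure {X, y, z} := fun w hw =>
    zpowers_le.2 (subset_closure hw)
  have az := a z (by simp)
  exact (S.le_sup le_rfl S.hx).trans (sup_le (h.trans (sup_le ((S.R_le hy n).trans
    (sup_le (hZ.trans az) (a y (by simp)))) az)) (zpowers_le.2 (a X (by simp) hX)))

theorem fam2 (S : St p P R x) (h : ∀ a ∈ P, a ∈ 𝐂 R → ⁅a, x⁆ ∈ R ⊓ 𝐂 P) {n : ℕ}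
    (hn : logn p (♯P) = n) : 3 ≤ n ∧ ∃ X y z : G, P ≤ closure {X, y, z} ∧ X ^ p = 1 ∧ y ^ p = 1 ∧
      z ^ p ^ (n - 2) = 1 ∧ X * z = z * X ∧ y * z = z * y ∧ X⁻¹ * y * X = y * z ^ p ^ (n - 3) := by
  obtain ⟨z, hz⟩ := S.cycC.exists_gen
  obtain ⟨z1, z2, z3⟩ := S.memC.1 (hz.le (mem_zpowers z))
  have hA : P ⊓ 𝐂 R ≤ R ⊔ zpowers z := fun a ha => by
    obtain ⟨r, hr, e⟩ := S.dR (h a ha.1 ha.2)
    have m := (S.comm hr S.hx).1
    have r1 := d_inv (S.hR.abel hr) m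
    have : a * r⁻¹ ∈ zpowers z := hz.ge (S.memC.2 ⟨P.mul_mem ha.1 (inv_mem (S.nR.le hr)),
      Subgroup.mul_mem _ ha.2 (inv_mem (S.hR.abel hr)), by
        rw [d_mul ha.2 (r1 ▸ inv_mem m), r1, e, inv_mul_cancel]⟩)
    simpa using Subgroup.mul_mem _ (mem_sup_right this) (mem_sup_left (T := zpowers z) hr)
  have hZ := S.ZC.trans hz.ge
  obtain ⟨n3, o1, o2⟩ := S.ord z1 z2 hA hZ hn
  obtain ⟨r, hr, e⟩ := S.dR (o2.le (mem_zpowers _))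
  refine ⟨n3, x⁻¹, r⁻¹, z, S.gen hA hZ (by simp) (inv_mem hr) fun c => S.Z.ne_bot ?_,
    by rw [inv_pow, S.xp, inv_one], S.hR.ab.pow _ (inv_mem hr), o1,
    (commutatorElement_eq_one_iff_commute.1 z3).inv_right.symm,
    (comm_of_cent z2 (inv_mem hr)).symm, by rw [← e, commutatorElement_def]; group⟩
  rw [← o2, ← e, zpowers_eq_bot, commutatorElement_eq_one_iff_commute]
  exact comm_of_cent (inv_mem_iff.1 c) S.hx

theorem fam3 (S : St p P R x) (h : ∀ a ∈ P, a ∈ 𝐂 R → ⁅a, x⁆ ∈ R) {z : G} (z1 : z ∈ P)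
    (z2 : z ∈ 𝐂 R) (z3 : ⁅z, x⁆ ∉ 𝐂 P) {n : ℕ} (hn : logn p (♯P) = n) :
    4 ≤ n ∧ ∃ (s : ℕ) (X y z : G), (s = 1 ∨ ¬ IsSquare (s : ZMod p)) ∧ P ≤ closure {X, y, z} ∧
      X ^ p = 1 ∧ y ^ p = 1 ∧ z ^ p ^ (n - 2) = 1 ∧ y * z = z * y ∧
      X⁻¹ * y * X = y * z ^ (s * p ^ (n - 3)) ∧ X⁻¹ * z * X = y * z := by
  haveI := Fact.mk S.hp
  have m := h z z1 z2
  have hC := S.C_le z1 z2 m z3
  have hC' := hC.trans (zpowers_le.2 (Subgroup.pow_mem _ (mem_zpowers z) p))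
  have hA : P ⊓ 𝐂 R ≤ R ⊔ zpowers z := fun a ha => by
    obtain ⟨c, hc, w, hw, e⟩ := (mem_sup_norm (norm_of_cent (inf_le_left.trans (S.hR.abel.trans
      (cent_anti (zpowers_le.2 m)))))).1 (S.R_le m z3 (h a ha.1 ha.2))
    obtain ⟨j, rfl⟩ := mem_powers_iff_mem_zpowers.2 hw
    obtain ⟨r, hr, rfl⟩ := S.dR hc
    have b1 : z ^ j * r ∈ P ⊓ 𝐂 R :=
      Subgroup.mul_mem _ (Subgroup.pow_mem _ (mem_inf.2 ⟨z1, z2⟩) j) ⟨S.nR.le hr, S.hR.abel hr⟩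
    have b2 := inv_mem b1
    have : a * (z ^ j * r)⁻¹ ∈ zpowers z := hC' (S.memC.2 ⟨P.mul_mem ha.1 b2.1,
      Subgroup.mul_mem _ ha.2 b2.2, by
        rw [d_mul ha.2 (h _ b2.1 b2.2), d_inv b1.2 (h _ b1.1 b1.2),
          d_mul (Subgroup.pow_mem _ z2 j) hc.1, d_pow z2 m, ← e, inv_mul_cancel]⟩)
    rw [← inv_mul_cancel_right a (z ^ j * r)]
    exact Subgroup.mul_mem _ (mem_sup_right this) (Subgroup.mul_mem _
      (mem_sup_right (Subgroup.pow_mem _ (mem_zpowers z) j)) (mem_sup_left hr))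
  have hZ := S.ZC.trans hC'
  obtain ⟨n3, o1, o2⟩ := S.ord z1 z2 hA hZ hn
  have n4 : 4 ≤ n := by
    by_contra a
    rw [show n - 2 = 1 by omega, pow_one] at o1
    rw [o1, zpowers_one_eq_bot] at hC
    exact S.Z.ne_bot (le_bot_iff.1 (S.ZC.trans hC))
  have hu := S.comm m S.hx
  have u1 : ⁅⁅z, x⁆, x⁆ ≠ 1 := fun e => z3 (S.memZ m (commutatorElement_eq_one_iff_commute.1 e)).2
  have e1 : x * z * x⁻¹ = ⁅z, x⁆⁻¹ * z := by simp only [commutatorElement_def]; group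
  have e2 : x * ⁅z, x⁆⁻¹ * x⁻¹ = ⁅z, x⁆⁻¹ * ⁅⁅z, x⁆, x⁆ := by
    rw [commutatorElement_def ⁅z, x⁆]; group
  have hy := inv_mem m
  have y1 : ⁅z, x⁆⁻¹ ∉ 𝐂 P := fun c => z3 (inv_mem_iff.1 c)
  generalize ⁅⁅z, x⁆, x⁆ = u at hu u1 e2
  generalize ⁅z, x⁆⁻¹ = y at hy y1 e1 e2
  have cz : ∀ c ∈ R ⊓ 𝐂 P, ∀ g ∈ P, g * c * g⁻¹ = c := fun c hc g hg => by
    rw [← (comm_of_cent hc.2 hg).eq, mul_inv_cancel_right]
  have cy : ∀ c ∈ R ⊓ 𝐂 P, Commute y c := fun c hc => S.hR.abel.mul_comm hy hc.1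
  have f1 : ∀ i : ℕ, x ^ i * y * (x ^ i)⁻¹ = y * u ^ i := fun i => by
    induction i with
    | zero => simp
    | succ i ih =>
      calc _ = x ^ i * (x * y * x⁻¹) * (x ^ i)⁻¹ := by rw [pow_succ]; group
        _ = x ^ i * y * (x ^ i)⁻¹ * (x ^ i * u * (x ^ i)⁻¹) := by rw [e2]; group
        _ = _ := by rw [ih, cz u hu _ (P.pow_mem S.hx i), pow_succ, mul_assoc]
  have f2 : ∀ i : ℕ, ∃ c ∈ R ⊓ 𝐂 P, x ^ i * z * (x ^ i)⁻¹ = y ^ i * c * z := fun i => by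
    induction i with
    | zero => exact ⟨1, Subgroup.one_mem _, by simp⟩
    | succ i ih =>
      obtain ⟨c, hc, ih⟩ := ih
      have hi := Subgroup.pow_mem _ hu i
      refine ⟨u ^ i * c, Subgroup.mul_mem _ hi hc, ?_⟩
      calc _ = x ^ i * (x * z * x⁻¹) * (x ^ i)⁻¹ := by rw [pow_succ]; group
        _ = x ^ i * y * (x ^ i)⁻¹ * (x ^ i * z * (x ^ i)⁻¹) := by rw [e1]; group
        _ = y * (u ^ i * y ^ i) * c * z := by rw [ih, f1]; group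
        _ = _ := by rw [← ((cy _ hi).pow_left i).eq, pow_succ']; group
  have zp := o2.le (mem_zpowers _)
  obtain ⟨t, ht⟩ := mem_powers_iff_mem_zpowers.2 (o2.ge hu)
  dsimp only at ht
  obtain ⟨i, s, i1, s1, s2⟩ : ∃ i s : ℕ, ¬ p ∣ i ∧ (s = 1 ∨ ¬ IsSquare (s : ZMod p)) ∧
      u ^ (i * i) = (z ^ p ^ (n - 3)) ^ s := by
    by_cases q : IsSquare (t : ZMod p)
    · obtain ⟨b, hb⟩ := q
      have b0 : b ≠ 0 := by
        rintro rfl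
        obtain ⟨j, rfl⟩ := (ZMod.natCast_eq_zero_iff _ _).1 (hb.trans (mul_zero _))
        exact u1 (by rw [← ht, pow_mul, S.hR.ab.pow _ zp.1, one_pow])
      refine ⟨(b⁻¹).val, 1, fun d => inv_ne_zero b0 ?_, Or.inl rfl, ?_⟩
      · rw [← ZMod.natCast_zmod_val b⁻¹, (ZMod.natCast_eq_zero_iff _ _).2 d]
      · rw [← ht, ← pow_mul, pow_eq_pow_iff_modEq]
        refine Nat.ModEq.of_dvd (orderOf_dvd_of_pow_eq_one (S.hR.ab.pow _ zp.1)) ?_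
        rw [← ZMod.natCast_eq_natCast_iff]
        push_cast
        rw [hb, ZMod.natCast_zmod_val]
        field_simp
    · exact ⟨1, t, S.hp.not_dvd_one, Or.inr q, by simp [ht]⟩
  have pw : ∀ w : G, w ^ p = 1 → w ≠ 1 → w ∈ zpowers (w ^ i) := fun w h1 h2 => by
    rw [mem_zpowers_pow_iff, orderOf_eq_of_pow S.hp h1 h2]
    exact ((Nat.Prime.coprime_iff_not_dvd S.hp).2 i1).symm
  obtain ⟨c, hc, e⟩ := f2 i
  have hY : y ^ i * c ∈ R := R.mul_mem (R.pow_mem hy i) hc.1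
  refine ⟨n4, s, (x ^ i)⁻¹, y ^ i * c, z, s1, S.gen hA hZ ?_ hY fun a => y1 ?_, ?_,
    S.hR.ab.pow _ hY, o1, (comm_of_cent z2 hY).symm, ?_, by rw [inv_inv, e]⟩
  · rw [zpowers_inv]; exact pw x S.xp fun e => S.xn (e ▸ R.one_mem)
  · exact zpowers_le.2 (((𝐂 P).mul_mem_cancel_right hc.2).1 a)
      (pw y (S.hR.ab.pow _ hy) fun e => y1 (e ▸ Subgroup.one_mem _))
  · rw [inv_pow, ← pow_mul, mul_comm, pow_mul, S.xp, one_pow, inv_one]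
  · have hi := Subgroup.pow_mem _ hu i
    calc _ = (x ^ i * y * (x ^ i)⁻¹) ^ i * (x ^ i * c * (x ^ i)⁻¹) := by rw [conj_pow]; group
      _ = y ^ i * (u ^ (i * i) * c) := by
        rw [f1, cz c hc _ (P.pow_mem S.hx i), (cy _ hi).mul_pow, ← pow_mul, mul_assoc]
      _ = _ := by
        rw [S.hR.abel.mul_comm (R.pow_mem hu.1 _) hc.1, s2, ← pow_mul, mul_comm s, mul_assoc]

end St
end CF.Blk
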