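/-
Groups of odd prime power order and rank two, part three: few elements of order p.
-/
import Cfsg.Agent.Fgs1.Blk2
set_option autoImplicit false
set_option linter.unusedSectionVars false

namespace CF.Blk
open Subgroup CF.BG CF.BG2
open scoped commutatorElement

universe u
variable {G : Type*} [Group G] [Finite G] {p : ℕ} {P R T : Subgroup G} {x : G}

theorem exists_St (hp : p.Prime) (h2 : p ≠ 2) (k : PiGrp {p} P) (rk : pRank p P ≤ 2)
    (h : ¬ logn p (♯(𝛀 p P)) ≤ 2) : ∃ R x, St p P R x := by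
  obtain ⟨R, hR, nR⟩ := exists_normal_elem_two hp h2 k fun c =>
    h (((c.abel.abelem_Om hp).logn_le_pRank (Om_le p P)).trans rk)
  by_contra! a
  refine h ((logn_card_le (Om_le_iff.2 fun x hx e => ?_)).trans hR.log.le)
  by_contra n
  exact a R x ⟨hp, h2, k, rk, hR, nR, hx, e, n⟩

theorem St.der_le (S : St p P R x) : ⁅R ⊔ zpowers x, R ⊔ zpowers x⁆ ≤ R ⊓ 𝐂 P := by
  obtain ⟨r, hr, n⟩ : ∃ r ∈ R, r ∉ 𝐂 P := by
    by_contra! h
    exact S.nc (cent_comm.1 (show R ≤ 𝐂 P from h) S.hx)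
  have c : R ⊓ 𝐂 P ≤ 𝐂 (R ⊔ zpowers x) := S.ZC.trans inf_le_right
  refine der_le_of_gen (a := x) (b := r) ?_ c (mem_sup_right (mem_zpowers x)) (mem_sup_left hr)
    (norm_of_cent' c) (S.comm hr S.hx)
  exact sup_le ((S.R_le hr n).trans (sup_le_sup_left le_sup_right _))
    (le_sup_left.trans le_sup_right)

theorem meta_or_mc_aux (hp : p.Prime) (h2 : p ≠ 2) (m : ℕ) :
    ∀ {G : Type u} [Group G] [Finite G] {R : Subgroup G}, ♯R < m → PiGrp {p} R →
      logn p (♯(𝛀 p R)) ≤ 2 → Meta R ∨ MC p R := by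
  induction m with
  | zero => intro G _ _ R h; omega
  | succ m ih =>
  intro G _ _ R hm k h
  by_cases a : Abel R
  · exact Or.inl (meta_of_der_le hp h2 k (T := ⊥) bot_le (by simp [logn]) (piGrp_bot _)
      (der_eq_bot.2 a).le h)
  obtain ⟨T, hT, lift⟩ := meta_step hp h2 k h a
  have t1 : T ≤ 𝐙 R := hT.le.trans inf_le_right
  have n := normalIn_of_le_center t1
  have kq := k.qt T
  have l := hT.log
  by_cases o : logn p (♯(𝛀 p (qt T R))) ≤ 2
  · rcases ih (R := qt T R) (by have := card_qt_lt n hT.ne_bot; omega) kq o with c | c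
    · exact Or.inl (lift c)
    · exact (meta_or_mc_of_mc hp h2 k h hT c o).imp_left lift
  have key : ∀ X ≤ qt T R, (∀ x ∈ X, x ^ p = 1) → logn p (♯X) = 3 →
      ¬ ⁅qp T X, qp T X⁆ ≤ 𝐂 (qp T X) := fun X hX e lX d => by
    have w := qp_le_of_le_qt n hX
    have h1 := logn_le_add hp h2 d (t1.trans (inf_le_right.trans (cent_anti w))) (pow_mem_of_qp e)
    have h3 := logn_qp (p := p) X
    have h4 := logn_card_le (p := p) (Om_mono p w)
    omega
  have rk : pRank p (qt T R) ≤ 2 := by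
    by_contra b
    obtain ⟨X, hX⟩ := exists_elem (show 3 ≤ pRank p (qt T R) by omega)
    exact key X hX.le hX.ab.pow hX.log ((der_qp_le hX.abel).trans
      (t1.trans (inf_le_right.trans (cent_anti (qp_le_of_le_qt n hX.le)))))
  obtain ⟨A, x, S⟩ := exists_St hp h2 kq rk o
  have w := qp_le_of_le_qt n S.le
  obtain ⟨y, hy, ny⟩ := SetLike.not_le_iff_exists.1 (key _ S.le S.exE S.logE)
  have yR := w (der_le _ hy)
  have y1 : qe T y ∈ A ⊓ 𝐂 (qt T R) := S.der_le (by
    have := qe_mem_qt hy (n.norm yR)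
    rwa [qt_comm (qp_le_norm _) (qp_le_norm _), qt_qp] at this)
  refine Or.inr (MC.lift k t1 l (mc_of_cent hp kq S.le S.logE S.na ?_) yR y1.2
    fun c => ny (cent_anti w c))
  obtain ⟨c', hc⟩ := S.cycC.exists_gen
  have c1 := hc.le (mem_zpowers c')
  obtain ⟨c, cR, nc, rfl⟩ := mem_qt.1 c1.1
  rw [← hc, zpowers_le]
  by_contra b
  have np := Subgroup.pow_mem _ nc p
  have h1 := mem_zpowers_pow hp (kq.le (zpowers_le.2 c1.1)) (hc.ge (S.ZC y1))
    fun e => b (zpowers_le.2 (mem_sup_left y1.1) e)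
  rw [← qe_pow nc, ← qt_zpowers np, ← qt_sup_left (zpowers_le.2 np),
    qe_mem_qt_iff (n.norm yR) le_sup_left] at h1
  refine ny (sup_le (t1.trans (inf_le_right.trans (cent_anti w))) (zpowers_le.2
    (mem_cent.2 fun e he => ?_)) h1)
  have e1 : ⁅c, e⁆ ∈ T := by
    obtain ⟨ne, he2⟩ := mem_qp.1 he
    rw [← qe_eq_one (n.norm (der_le R (commutator_mem_commutator cR (w he)))), qe_comm nc ne,
      commutatorElement_eq_one_iff_commute]
    exact comm_of_cent c1.2 he2
  refine (commutatorElement_eq_one_iff_commute.1 ?_).symm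
  rw [comm_pow_of_cent (comm_of_cent (t1 e1).2 cR).symm, hT.ab.pow _ e1]

theorem meta_or_mc (hp : p.Prime) (h2 : p ≠ 2) (k : PiGrp {p} R) (h : logn p (♯(𝛀 p R)) ≤ 2) :
    Meta R ∨ MC p R := meta_or_mc_aux hp h2 _ (Nat.lt_succ_self _) k h

theorem St.normal_of_lt (S : St p P R x) (h3 : 3 < p) : R ⊔ zpowers x ⊴ P := by
  have h1 := logn_le_three_of_exp S.hp (S.k.le (Om_le p P)) ((pRank_Om p P).le.trans S.rk)
    (exp_Om_of_pRank_le_two S.hp h3 S.k S.rk)
  rw [(S.k.le (Om_le p P)).eq_of_logn_le (H := R ⊔ zpowers x)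
    (fun y hy => mem_Om (S.le hy) (S.exE y hy)) (S.logE ▸ h1)]
  exact Om_normal p P

end CF.Blk
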