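import Mathlib
import Cfsg.Agent.Fgs1.ClassSize
import Cfsg.Agent.Fgs1.Basic
import Cfsg.Agent.Fgs2.Basic2
import Cfsg.Agent.Solv.Nilpotent
import Cfsg.Agent.Transfer.Section

/-! Centralizers of commuting coprime products; groups whose `p`-regular classes have
`p'`-size are direct products of a Sylow subgroup and a `p'`-group. -/

namespace CF.Fgs1

open Subgroup Cfsg
open scoped Pointwise

variable {G : Type*} [Group G]

theorem left_mem_zpowers_mul [Finite G] {y z : G} (hc : Commute y z)
    (h : (orderOf y).Coprime (orderOf z)) : y ∈ zpowers (y * z) := by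
  have h1 : (y * z) ^ orderOf z = y ^ orderOf z := by rw [hc.mul_pow, pow_orderOf_eq_one, mul_one]
  have h2 : y ∈ zpowers (y ^ orderOf z) := by
    rw [mem_zpowers_pow_iff, Nat.gcd_comm]; exact h
  rw [← h1] at h2
  exact zpowers_le.mpr (pow_mem (mem_zpowers _) _) h2

theorem right_mem_zpowers_mul [Finite G] {y z : G} (hc : Commute y z)
    (h : (orderOf y).Coprime (orderOf z)) : z ∈ zpowers (y * z) := by
  rw [hc.eq]; exact left_mem_zpowers_mul hc.symm h.symm

theorem mem_cent_iff {x g : G} : g ∈ centralizer ({x} : Set G) ↔ x * g = g * x := by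
  simp [mem_centralizer_iff]

theorem cent_le_of_mem_zpowers {x y : G} (h : y ∈ zpowers x) :
    centralizer ({x} : Set G) ≤ centralizer ({y} : Set G) := by
  intro g hg
  obtain ⟨n, rfl⟩ := h
  rw [mem_cent_iff] at hg ⊢
  exact (Commute.zpow_left (show Commute x g from hg) n).eq

theorem cent_mul_eq_inf [Finite G] {y z : G} (hc : Commute y z)
    (h : (orderOf y).Coprime (orderOf z)) :
    centralizer ({y * z} : Set G) = centralizer ({y} : Set G) ⊓ centralizer ({z} : Set G) := by
  apply le_antisymm
  · exact le_inf (cent_le_of_mem_zpowers (left_mem_zpowers_mul hc h))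
      (cent_le_of_mem_zpowers (right_mem_zpowers_mul hc h))
  · rintro g ⟨h1, h2⟩
    have h1' : Commute y g := mem_cent_iff.mp h1
    have h2' : Commute z g := mem_cent_iff.mp h2
    exact mem_cent_iff.mpr (h1'.mul_left h2').eq

theorem index_cent_mul [Finite G] {y z : G} (hc : Commute y z)
    (h : (orderOf y).Coprime (orderOf z)) :
    (centralizer ({y * z} : Set G)).index =
      (centralizer ({z} : Set G)).relIndex (centralizer ({y} : Set G)) *
        (centralizer ({y} : Set G)).index := by
  rw [cent_mul_eq_inf hc h, ← inf_relIndex_right, inf_comm (centralizer ({z} : Set G)),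
    relIndex_mul_index inf_le_left]

variable {p : ℕ} [hp : Fact p.Prime]

theorem sylow_sup_centralizer_eq_top [Finite G] (P : Sylow p G)
    (h : ∀ y : G, (orderOf y).Coprime p → ¬ p ∣ (centralizer ({y} : Set G)).index) :
    (P : Subgroup G) ⊔ centralizer ((P : Subgroup G) : Set G) = ⊤ := by
  by_contra hne
  obtain ⟨x, hx⟩ := CF.Fgs2.exists_forall_conj_notMem hne
  obtain ⟨y, -, z, -, ⟨k, hy⟩, hz, rfl, hc⟩ :=
    CF.Transfer.exists_pPart_pPrimePart (p := p) (isOfFinOrder_of_finite x)
  -- a Sylow subgroup of `C(z)` containing `y`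
  have hyC : y ∈ centralizer ({z} : Set G) := mem_cent_iff.mpr hc.symm.eq
  have hyp : IsPGroup p (zpowers (⟨y, hyC⟩ : centralizer ({z} : Set G))) := by
    apply IsPGroup.of_card (n := k)
    rw [Nat.card_zpowers, ← hy, ← Subgroup.orderOf_coe]
  obtain ⟨Q, hQ⟩ := hyp.exists_le_sylow
  have hQi : ¬ p ∣ ((Q : Subgroup _).map (centralizer ({z} : Set G)).subtype).index := by
    rw [index_map_of_injective _ (subtype_injective _), range_subtype]
    intro hd
    rcases (Nat.Prime.dvd_mul hp.out).mp hd with h1 | h1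
    · exact Q.not_dvd_index h1
    · exact h z hz h1
  let Q' : Sylow p G := (Q.isPGroup'.map _).toSylow hQi
  obtain ⟨g, hg⟩ := MulAction.exists_smul_eq G Q' P
  have hP : (P : Subgroup G) = MulAut.conj g • (Q' : Subgroup G) := by
    rw [← hg]; rfl
  apply hx g⁻¹
  rw [inv_inv, show g * (y * z) * g⁻¹ = (g * y * g⁻¹) * (g * z * g⁻¹) by group]
  apply mul_mem
  · apply mem_sup_left
    rw [hP, mem_conj_smul, show g⁻¹ * (g * y * g⁻¹) * g = y by group]
    exact ⟨⟨y, hyC⟩, hQ (mem_zpowers _), rfl⟩
  · apply mem_sup_right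
    intro w hw
    rw [hP] at hw
    have hw' := mem_conj_smul.mp hw
    obtain ⟨⟨u, hu⟩, -, e⟩ := hw'
    have hu' := mem_cent_iff.mp hu
    have e' : u = g⁻¹ * w * g := e
    have : w = g * u * g⁻¹ := by rw [e']; group
    rw [this]
    calc g * u * g⁻¹ * (g * z * g⁻¹) = g * (u * z) * g⁻¹ := by group
      _ = g * (z * u) * g⁻¹ := by rw [hu']
      _ = _ := by group

theorem sylow_normal_of_regular_index [Finite G] (P : Sylow p G)
    (h : ∀ y : G, (orderOf y).Coprime p → ¬ p ∣ (centralizer ({y} : Set G)).index) :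
    (P : Subgroup G).Normal := by
  rw [← normalizer_eq_top_iff, eq_top_iff, ← sylow_sup_centralizer_eq_top P h]
  exact sup_le le_normalizer (centralizer_le_normalizer _)

theorem pResidual_le_centralizer_of_regular_index [Finite G] (P : Sylow p G)
    (h : ∀ y : G, (orderOf y).Coprime p → ¬ p ∣ (centralizer ({y} : Set G)).index) :
    pResidual p G ≤ centralizer ((P : Subgroup G) : Set G) := by
  haveI := sylow_normal_of_regular_index P h
  rw [CF.Transfer.pResidual_le_iff']
  intro y hy
  obtain ⟨Q, hQ⟩ := CF.Solv.exists_sylow_le_of_not_dvd_index (h y hy)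
  haveI := Sylow.unique_of_normal P inferInstance
  rw [Subsingleton.elim Q P] at hQ
  intro w hw
  exact (mem_cent_iff.mp (hQ hw)).symm

theorem hasNPC_of_regular_index [Finite G]
    (h : ∀ y : G, (orderOf y).Coprime p → ¬ p ∣ (centralizer ({y} : Set G)).index) :
    HasNormalPComplement p G := by
  obtain ⟨P⟩ : Nonempty (Sylow p G) := inferInstance
  apply CF.Transfer.hasNPC_of_pResidual_le le_rfl
  apply CF.Transfer.hasNPC_of_sylow_inf_le_centralizer P
  exact (pResidual_le_centralizer_of_regular_index P h).trans (centralizer_le (fun x hx => hx.1))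

end CF.Fgs1
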