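import Cfsg.Agent.Fgs1.Extra
import Cfsg.Agent.Solv.CyclicMax
import Cfsg.Agent.Solv.PiSep
import Cfsg.Agent.Transfer.SylowIn

/-!
# Groups in which `p`-subgroups of equal order are conjugate
-/

namespace CF.Fgs1.EqConj

open Subgroup CF.Transfer Cfsg
open scoped commutatorElement Pointwise

variable {G : Type*} [Group G] {p : ℕ}

/-- Subgroups of equal order are isomorphic. -/
def EqIso (G : Type*) [Group G] : Prop :=
  ∀ H K : Subgroup G, Nat.card H = Nat.card K → Nonempty (H ≃* K)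

theorem EqIso.of_equiv {G' : Type*} [Group G'] (h : EqIso G) (e : G ≃* G') : EqIso G' := by
  intro H K hHK
  obtain ⟨f⟩ := h (H.map (e.symm : G' →* G)) (K.map (e.symm : G' →* G)) (by
    rw [card_map_of_injective e.symm.injective, card_map_of_injective e.symm.injective, hHK])
  exact ⟨((H.equivMapOfInjective _ e.symm.injective).trans f).trans
    (K.equivMapOfInjective _ e.symm.injective).symm⟩

theorem quat_pow {n : ℕ} (i : ZMod (2 * n)) (k : ℕ) :
    ∃ j, (QuaternionGroup.a i : QuaternionGroup n) ^ k = QuaternionGroup.a j := by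
  induction k with
  | zero => exact ⟨0, by rw [pow_zero]; rfl⟩
  | succ k ih =>
    obtain ⟨j, hj⟩ := ih
    exact ⟨j + i, by rw [pow_succ, hj]; rfl⟩

theorem EqIso.quat {n : ℕ} (hn : 1 ≤ n) (h : EqIso (QuaternionGroup (2 ^ n))) : n = 1 := by
  by_contra hne
  obtain ⟨m, rfl⟩ : ∃ m, n = m + 2 := ⟨n - 2, by omega⟩
  have : NeZero (2 ^ (m + 2)) := ⟨by positivity⟩
  have h4 : Nat.card (zpowers (QuaternionGroup.xa 0 : QuaternionGroup (2 ^ (m + 2)))) = 2 ^ 2 := by
    rw [Nat.card_zpowers, QuaternionGroup.orderOf_xa]; norm_num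
  obtain ⟨M, hM, hle⟩ := Sylow.exists_subgroup_card_pow_prime_le 2 (G := QuaternionGroup (2 ^ (m + 2)))
    (n := 2) (m := m + 3) (by
      rw [Nat.card_eq_fintype_card, QuaternionGroup.card]
      exact ⟨2, by ring⟩) _ h4 (by omega)
  obtain ⟨e⟩ := h (zpowers (QuaternionGroup.a 1)) M (by
    rw [Nat.card_zpowers, QuaternionGroup.orderOf_a_one, hM]; ring)
  have hc : IsCyclic M := isCyclic_of_surjective _ e.surjective
  obtain ⟨g, hg⟩ := IsCyclic.exists_generator (α := M)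
  have ho : orderOf (g : QuaternionGroup (2 ^ (m + 2))) = 2 ^ (m + 3) := by
    rw [Subgroup.orderOf_coe, orderOf_eq_card_of_forall_mem_zpowers hg, hM]
  obtain ⟨k, hk⟩ := (mem_powers_iff_mem_zpowers.mpr (hg ⟨_, hle (mem_zpowers _)⟩))
  have hk' : (g : QuaternionGroup (2 ^ (m + 2))) ^ k = QuaternionGroup.xa 0 :=
    congrArg Subtype.val hk
  rcases hgv : (g : QuaternionGroup (2 ^ (m + 2))) with i | i
  · obtain ⟨j, hj⟩ := quat_pow i k
    rw [hgv, hj] at hk'
    cases hk'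
  · rw [hgv, QuaternionGroup.orderOf_xa] at ho
    have : 2 ^ 3 ≤ 2 ^ (m + 3) := Nat.pow_le_pow_right (by norm_num) (by omega)
    omega

theorem card_zpowers_dvd {x : G} (h : x ^ p = 1) : Nat.card (zpowers x) ∣ p := by
  rw [Nat.card_zpowers]; exact orderOf_dvd_of_pow_eq_one h

theorem card_zpowers_eq [hp : Fact p.Prime] {x : G} (h : x ^ p = 1) (h1 : x ≠ 1) :
    Nat.card (zpowers x) = p := by
  rw [Nat.card_zpowers]; exact orderOf_eq_prime h h1

theorem EqIso.pow_eq_one [Finite G] [hp : Fact p.Prime] (hG : IsPGroup p G) (h : EqIso G)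
    {x y : G} (hx : x ^ p = 1) (hy : y ^ p = 1) (hx1 : x ≠ 1) (hxy : y ∉ zpowers x) (g : G) :
    g ^ p = 1 := by
  have : Nontrivial G := ⟨⟨x, 1, hx1⟩⟩
  obtain ⟨z, -, hz, hzo⟩ := exists_center_orderOf hG (N := ⊤) top_ne_bot
  have hz1 : z ^ p = 1 := hzo ▸ pow_orderOf_eq_one z
  have hzc : Nat.card (zpowers z) = p := by rw [Nat.card_zpowers, hzo]
  obtain ⟨w, hw, hwz⟩ : ∃ w : G, w ^ p = 1 ∧ w ∉ zpowers z := by
    by_contra hcon
    push Not at hcon
    have := eq_zpowers_of_card_prime (hzc ▸ hp.out) (hcon x hx) hx1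
    exact hxy (this ▸ hcon y hy)
  have hw1 : w ≠ 1 := fun h => hwz (h ▸ one_mem _)
  have hzn : (zpowers z).Normal := normal_of_le_center (zpowers_le.mpr hz)
  have hinf : zpowers w ⊓ zpowers z = ⊥ := by
    rcases eq_bot_or_eq_of_card_prime (Z := zpowers w) (H := zpowers w ⊓ zpowers z)
      ((card_zpowers_eq hw hw1).symm ▸ hp.out) inf_le_left with h | h
    · exact h
    · exact absurd (inf_eq_left.mp h (mem_zpowers w)) hwz
  have hE : Nat.card (zpowers w ⊔ zpowers z : Subgroup G) = p ^ 2 := by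
    rw [CF.Solv.card_sup_of_inf_eq_bot (le_top.trans (normalizer_eq_top _).ge) hinf,
      card_zpowers_eq hw hw1, hzc, sq]
  by_contra hg
  obtain ⟨k, hk⟩ := (IsPGroup.iff_orderOf.mp hG) g
  have hk2 : 2 ≤ k := by
    by_contra hlt
    apply hg
    apply orderOf_dvd_iff_pow_eq_one.mp
    rw [hk]
    calc p ^ k ∣ p ^ 1 := pow_dvd_pow _ (by omega)
      _ = p := pow_one p
  obtain ⟨j, rfl⟩ : ∃ j, k = j + 2 := ⟨k - 2, by omega⟩
  have ho : orderOf (g ^ p ^ j) = p ^ 2 := by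
    rw [orderOf_pow_of_dvd (pow_ne_zero _ hp.out.ne_zero) (hk ▸ pow_dvd_pow _ (by omega)), hk,
      pow_add, Nat.mul_div_cancel_left _ (pow_pos hp.out.pos _)]
  obtain ⟨e⟩ := h (zpowers (g ^ p ^ j)) _ ((Nat.card_zpowers _).trans (ho.trans hE.symm))
  have h1 : (e ⟨_, mem_zpowers _⟩) ^ p = 1 := by
    apply Subtype.ext
    obtain ⟨a, ha, b, hb, hab⟩ := (CF.Solv.mem_sup_of_le_normalizer
      (le_top.trans (normalizer_eq_top _).ge)).mp (e ⟨_, mem_zpowers _⟩).2
    rw [coe_pow, ← hab, coe_one]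
    obtain ⟨s, rfl⟩ := mem_zpowers_iff.mp ha
    obtain ⟨t, rfl⟩ := mem_zpowers_iff.mp hb
    have hc : Commute (w ^ s) (z ^ t) := mem_center_iff.mp (zpow_mem hz t) _
    rw [hc.mul_pow, ← zpow_natCast, ← zpow_natCast, ← zpow_mul, ← zpow_mul, mul_comm s, mul_comm t,
      zpow_mul, zpow_mul, zpow_natCast, zpow_natCast, hw, hz1, one_zpow, one_zpow, one_mul]
  rw [← map_pow, map_eq_one_iff _ e.injective] at h1
  have h2 : (g ^ p ^ j) ^ p = 1 := congrArg Subtype.val h1
  have h3 := orderOf_dvd_of_pow_eq_one h2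
  rw [ho] at h3
  have := Nat.le_of_dvd hp.out.pos h3
  nlinarith [hp.out.two_le]

theorem exists_nonabelian_dvd [Finite G] [hp : Fact p.Prime] (hG : IsPGroup p G)
    (hexp : ∀ g : G, g ^ p = 1) (hna : ¬ IsMulCommutative G) :
    ∃ H : Subgroup G, ¬ IsMulCommutative H ∧ Nat.card H ∣ p ^ 3 := by
  have hlt : center G < ⊤ := lt_top_iff_ne_top.mpr fun h => hna ⟨⟨fun a b =>
    (mem_center_iff.mp (h ▸ mem_top b) a)⟩⟩
  obtain ⟨x, -, hx, -, hxc, -, -⟩ := exists_normal_card_mul hG hlt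
  obtain ⟨y, hy⟩ : ∃ y, y * x ≠ x * y := by
    by_contra hcon
    push Not at hcon
    exact hx (mem_center_iff.mpr hcon)
  set z := ⁅x, y⁆ with hz
  have hzc : z ∈ center G := hxc y
  have hzn : (zpowers z).Normal := normal_of_le_center (zpowers_le.mpr hzc)
  have hA : Nat.card (zpowers x ⊔ zpowers z : Subgroup G) ∣ p * p :=
    (CF.Solv.card_sup_dvd _ _).trans
      (Nat.mul_dvd_mul (card_zpowers_dvd (hexp x)) (card_zpowers_dvd (hexp z)))
  have hn : zpowers y ≤ normalizer ((zpowers x ⊔ zpowers z : Subgroup G) : Set G) := by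
    rw [zpowers_le]
    apply mem_normalizer_of_cj_le
    rw [cj_sup, cj_eq_of_normal y (zpowers z), cj_zpowers]
    refine sup_le (zpowers_le.mpr ?_) le_sup_right
    have : y * x * y⁻¹ = z⁻¹ * x := by rw [hz, commutatorElement_def]; group
    rw [this]
    exact mul_mem (mem_sup_right (inv_mem (mem_zpowers z))) (mem_sup_left (mem_zpowers x))
  refine ⟨zpowers y ⊔ (zpowers x ⊔ zpowers z), fun h => hy (comm_of_mem h
    (mem_sup_left (mem_zpowers y)) (mem_sup_right (mem_sup_left (mem_zpowers x)))), ?_⟩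
  refine (CF.Solv.card_sup_dvd_of_le_normalizer hn).trans ?_
  rw [show p ^ 3 = p * (p * p) by ring]
  exact Nat.mul_dvd_mul (card_zpowers_dvd (hexp y)) hA

theorem comm_of_card_dvd_sq [Finite G] [hp : Fact p.Prime] (h : Nat.card G ∣ p ^ 2) :
    IsMulCommutative G := by
  obtain ⟨k, hk, hc⟩ := (Nat.dvd_prime_pow hp.out).mp h
  interval_cases k
  · have : Subsingleton G := (Nat.card_eq_one_iff_unique.mp (by simpa using hc)).1
    exact ⟨⟨fun a b => Subsingleton.elim _ _⟩⟩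
  · have := isCyclic_of_prime_card (p := p) (α := G) (by simpa using hc)
    infer_instance
  · exact IsPGroup.isMulCommutative_of_card_eq_prime_sq hc

theorem EqIso.card_eq [Finite G] [hp : Fact p.Prime] (hG : IsPGroup p G) (h : EqIso G)
    (hexp : ∀ g : G, g ^ p = 1) (hna : ¬ IsMulCommutative G) : Nat.card G = p ^ 3 := by
  obtain ⟨n, hn⟩ := IsPGroup.iff_card.mp hG
  obtain ⟨H, hH, hHc⟩ := exists_nonabelian_dvd hG hexp hna
  obtain ⟨k, hk, hc⟩ := (Nat.dvd_prime_pow hp.out).mp hHc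
  have hk3 : k = 3 := by
    by_contra hne
    exact hH (comm_of_card_dvd_sq (p := p) (hc ▸ pow_dvd_pow _ (by omega)))
  subst hk3
  have h3 : 3 ≤ n := (Nat.pow_dvd_pow_iff_le_right hp.out.one_lt).mp
    (hn ▸ hc ▸ card_subgroup_dvd_card H)
  by_contra hne
  have h4 : 4 ≤ n := by
    rcases h3.eq_or_lt with rfl | h
    · exact absurd hn hne
    · omega
  obtain ⟨K, hK⟩ := Sylow.exists_subgroup_card_pow_prime p (G := G) (n := 4)
    (hn ▸ pow_dvd_pow _ h4)
  obtain ⟨A, hA, hAi⟩ := exists_abelian_of_card_pow_four hK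
  have hAc : Nat.card A = p ^ 3 := by
    have := A.card_mul_index
    rw [hAi, hK, pow_succ] at this
    exact Nat.eq_of_mul_eq_mul_right hp.out.pos this
  obtain ⟨e⟩ := h H (A.map K.subtype) (by rw [card_map_of_injective K.subtype_injective, hc, hAc])
  refine hH ⟨⟨fun a b => e.injective ?_⟩⟩
  rw [map_mul, map_mul]
  exact Subtype.ext (comm_of_mem (A := A.map K.subtype) inferInstance (e a).2 (e b).2)

theorem EqIso.cases [Finite G] [hp : Fact p.Prime] (hG : IsPGroup p G) (h : EqIso G) :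
    IsCyclic G ∨ (IsMulCommutative G ∧ ∀ g : G, g ^ p = 1) ∨
      (p = 2 ∧ Nonempty (G ≃* QuaternionGroup 2)) ∨
      (p ≠ 2 ∧ ¬ IsMulCommutative G ∧ Nat.card G = p ^ 3 ∧ ∀ g : G, g ^ p = 1) := by
  by_cases hu : ∀ x y : G, x ^ p = 1 → y ^ p = 1 → x ≠ 1 → y ∈ zpowers x
  · rcases CF.Solv.isCyclic_or_quaternion hG hu with hc | ⟨h2, n, hn, ⟨e⟩⟩
    · exact Or.inl hc
    · obtain rfl := (h.of_equiv e).quat hn
      exact Or.inr (Or.inr (Or.inl ⟨h2, ⟨e⟩⟩))
  push Not at hu
  obtain ⟨x, y, hx, hy, hx1, hxy⟩ := hu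
  have hexp := h.pow_eq_one hG hx hy hx1 hxy
  by_cases hc : IsMulCommutative G
  · exact Or.inr (Or.inl ⟨hc, hexp⟩)
  refine Or.inr (Or.inr (Or.inr ⟨?_, hc, h.card_eq hG hexp hc, hexp⟩))
  rintro rfl
  refine hc ⟨⟨fun a b => ?_⟩⟩
  have key : ∀ g : G, g⁻¹ = g := fun g => inv_eq_of_mul_eq_one_right (by rw [← sq, hexp])
  rw [← key (a * b), mul_inv_rev, key, key]

/-- `p`-subgroups of equal order are conjugate. -/
def EqCj (p : ℕ) (G : Type*) [Group G] : Prop :=
  ∀ H K : Subgroup G, IsPGroup p H → IsPGroup p K → Nat.card H = Nat.card K →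
    ∃ g : G, K = H.map (MulAut.conj g).toMonoidHom

theorem EqCj.eqIso (h : EqCj p G) {P : Subgroup G} (hP : IsPGroup p P) : EqIso P := by
  intro H K hHK
  obtain ⟨g, hg⟩ := h (H.map P.subtype) (K.map P.subtype) ((hP.to_subgroup H).map _)
    ((hP.to_subgroup K).map _) (by
      rw [card_map_of_injective P.subtype_injective, card_map_of_injective P.subtype_injective, hHK])
  exact ⟨((H.equivMapOfInjective _ P.subtype_injective).trans
    ((cjEquiv g _).trans (MulEquiv.subgroupCongr hg.symm))).trans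
    (K.equivMapOfInjective _ P.subtype_injective).symm⟩

theorem EqCj.mem_of_normal [Finite G] [hp : Fact p.Prime] (h : EqCj p G) {N : Subgroup G}
    [N.Normal] (hN : p ∣ Nat.card N) {x : G} (hx : x ^ p = 1) : x ∈ N := by
  by_cases hx1 : x = 1
  · exact hx1 ▸ one_mem _
  obtain ⟨y, hy⟩ := exists_prime_orderOf_dvd_card' p hN
  have hy' : Nat.card (zpowers (y : G)) = p := by rw [Nat.card_zpowers, Subgroup.orderOf_coe, hy]
  obtain ⟨g, hg⟩ := h (zpowers (y : G)) (zpowers x) (IsPGroup.of_card (hy'.trans (pow_one p).symm))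
    (IsPGroup.of_card ((card_zpowers_eq hx hx1).trans (pow_one p).symm))
    (hy'.trans (card_zpowers_eq hx hx1).symm)
  have : zpowers x ≤ N := by
    rw [hg, map_conj_eq_cj]
    exact (cj_mono g (zpowers_le.mpr y.2)).trans (cj_eq_of_normal g N).le
  exact this (mem_zpowers x)

/-- A Sylow subgroup of exponent `p` is abelian if some normal `p`-solvable subgroup has order
divisible by `p`. -/
theorem EqCj.comm_of_exp [Finite G] [hp : Fact p.Prime] (h : EqCj p G) {P : Subgroup G}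
    (hP : IsPGroup p P) (hexp : ∀ x ∈ P, x ^ p = 1) (H : Subgroup G) [H.Normal]
    (hs : IsPSolvable p H) (hd : p ∣ Nat.card H) : IsMulCommutative P := by
  set K := pPrimeCore p G with hK
  have hs' : CF.Solv.IsPiSep {p} (H.map (QuotientGroup.mk' K)) :=
    (CF.Solv.isPSolvable_iff_isPiSep.mp hs).of_surjective
      ((QuotientGroup.mk' K).subgroupMap_surjective H)
  have hn : (H.map (QuotientGroup.mk' K)).Normal :=
    Normal.map inferInstance _ (QuotientGroup.mk'_surjective K)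
  have hne : H.map (QuotientGroup.mk' K) ≠ ⊥ := by
    rw [Ne, CF.Solv.map_mk'_eq_bot_iff]
    exact fun hle => CF.Solv.not_dvd_card_pPrimeCore (hd.trans (card_dvd_of_le hle))
  obtain ⟨M, hM, hMH⟩ := CF.Solv.exists_isMinNormal_le _ hne
  have hMn : M.Normal := hM.1
  have hMp : IsPGroup p M := by
    rcases (CF.Solv.piSepUpTo_of_isPiSep hs').piNum_of_isMinNormal hM hMH with h1 | h1
    · exact CF.Solv.isPGroup_iff_piNum_singleton.mpr h1
    · have := CF.Solv.le_pPrimeCore (N := M) ((CF.Solv.piNum_compl_singleton_iff hp.out).mp h1)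
      rw [CF.Solv.pPrimeCore_quotient_pPrimeCore, le_bot_iff] at this
      exact absurd this hM.2.1
  have := hMp.isNilpotent
  have hMc := hM.isMulCommutative
  have hdvd : p ∣ Nat.card (M.comap (QuotientGroup.mk' K)) := by
    rw [CF.Solv.card_comap_mk']
    exact (dvd_card_of_ne_bot hMp hM.2.1).mul_right _
  refine isMulCommutative_of_forall fun a ha b hb => ?_
  have h1 : a * b * (b * a)⁻¹ ∈ P ⊓ K := by
    refine mem_inf.mpr ⟨mul_mem (mul_mem ha hb) (inv_mem (mul_mem hb ha)), ?_⟩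
    have h2 := comm_of_mem hMc (h.mem_of_normal hdvd (hexp a ha)) (h.mem_of_normal hdvd (hexp b hb))
    refine (QuotientGroup.eq_one_iff _).mp ?_
    simp only [QuotientGroup.mk'_apply] at h2
    rw [QuotientGroup.mk_mul, QuotientGroup.mk_inv, QuotientGroup.mk_mul, QuotientGroup.mk_mul, h2,
      mul_inv_cancel]
  rw [CF.Solv.inf_eq_bot_of_isPGroup_of_coprime hP CF.Solv.pPrimeCore_coprime, mem_bot,
    mul_inv_eq_one] at h1
  exact h1

/-- Transvections in a nonabelian group of order `p ^ 3`. -/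
theorem exists_transvection [Finite G] [hp : Fact p.Prime] {Q : Subgroup G}
    (hc : Nat.card Q = p ^ 3) (hna : ¬ IsMulCommutative Q) :
    Nat.card (Q ⊓ centralizer (Q : Set G) : Subgroup G) = p ∧
    ∀ a ∈ Q ⊓ centralizer (Q : Set G), ∀ b ∈ Q, b ∉ centralizer (Q : Set G) →
      ∃ x ∈ Q, x * b * x⁻¹ = b * a := by
  have hQ : IsPGroup p Q := IsPGroup.of_card hc
  have : Nontrivial Q := Finite.one_lt_card_iff_nontrivial.mp
    (hc ▸ Nat.one_lt_pow (by norm_num) hp.out.one_lt)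
  have hZ : Nat.card (center Q) = p := by
    obtain ⟨k, hk, hkc⟩ := (Nat.dvd_prime_pow hp.out).mp (hc ▸ card_subgroup_dvd_card (center Q))
    have hi := (center Q).card_mul_index
    rw [hkc, hc] at hi
    interval_cases k
    · have := IsPGroup.center_nontrivial hQ
      exact absurd (Finite.one_lt_card (α := center Q)) (by rw [hkc]; simp)
    · simpa using hkc
    · rw [pow_succ p 2] at hi
      exact absurd (Nat.eq_of_mul_eq_mul_left (pow_pos hp.out.pos _) hi ▸ hp.out)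
        center_index_ne_prime
    · have : center Q = ⊤ := (card_eq_iff_eq_top _).mp (hkc.trans hc.symm)
      exact absurd ⟨⟨fun a b => (mem_center_iff.mp (this ▸ mem_top b) a)⟩⟩ hna
  have hZ' : Nat.card (Q ⊓ centralizer (Q : Set G) : Subgroup G) = p := by
    rw [← CF.Solv.center_map_subtype, card_map_of_injective Q.subtype_injective, hZ]
  refine ⟨hZ', fun a ha b hb hbc => ?_⟩
  have hi : (center Q).index = p ^ 2 := by
    have hi := (center Q).card_mul_index
    rw [hZ, hc, pow_succ' p 2] at hi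
    exact Nat.eq_of_mul_eq_mul_left hp.out.pos hi
  have hcomm := commutator_le_of_index_sq hi
  obtain ⟨y, hy, hyb⟩ : ∃ y ∈ Q, y * b ≠ b * y := by
    by_contra hcon
    push Not at hcon
    exact hbc (mem_centralizer_iff.mpr hcon)
  set c := b⁻¹ * y * b * y⁻¹ with hcd
  have hcZ : c ∈ Q ⊓ centralizer (Q : Set G) := by
    rw [← CF.Solv.center_map_subtype]
    refine ⟨⁅(⟨b, hb⟩ : Q)⁻¹, ⟨y, hy⟩⁆, hcomm (commutator_mem_commutator (mem_top _) (mem_top _)), ?_⟩
    simp [hcd, commutatorElement_def]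
  have hc1 : c ≠ 1 := by
    intro h1
    apply hyb
    have : y * b = b * (c * y) := by rw [hcd]; group
    rw [this, h1, one_mul]
  have hz := eq_zpowers_of_card_prime (hZ' ▸ hp.out) hcZ hc1
  obtain ⟨k, rfl⟩ := mem_powers_iff_mem_zpowers.mpr (hz ▸ ha)
  refine ⟨y ^ k, pow_mem hy k, ?_⟩
  have hyc : y * c = c * y := mem_centralizer_iff.mp hcZ.2 y hy
  have hb1 : y * b * y⁻¹ = b * c := by rw [hcd]; group
  show y ^ k * b * (y ^ k)⁻¹ = b * c ^ k
  clear ha
  induction k with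
  | zero => simp
  | succ k ih =>
    have hck : y * c ^ k * y⁻¹ = c ^ k := by
      rw [(Commute.pow_right hyc k).eq]; group
    calc y ^ (k + 1) * b * (y ^ (k + 1))⁻¹ = y * (y ^ k * b * (y ^ k)⁻¹) * y⁻¹ := by
          rw [pow_succ']; group
      _ = (y * b * y⁻¹) * (y * c ^ k * y⁻¹) := by rw [ih]; group
      _ = b * c ^ (k + 1) := by rw [hb1, hck, pow_succ']; group

/-- In the extraspecial case some square inverts an element of order `p`. -/
theorem EqCj.exists_sq_inverts [Finite G] [hp : Fact p.Prime] (h : EqCj p G) (P : Sylow p G)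
    (hc : Nat.card P = p ^ 3) (hna : ¬ IsMulCommutative P) (hexp : ∀ x ∈ (P : Subgroup G), x ^ p = 1) :
    ∃ z w : G, z ≠ 1 ∧ z ^ p = 1 ∧ w ^ 2 * z * (w ^ 2)⁻¹ = z⁻¹ := by
  obtain ⟨hZ, hT⟩ := exists_transvection hc hna
  obtain ⟨u, hu, huc⟩ : ∃ u ∈ (P : Subgroup G), u ∉ centralizer ((P : Subgroup G) : Set G) := by
    by_contra hcon
    push Not at hcon
    exact hna (isMulCommutative_of_forall fun a ha b hb => mem_centralizer_iff.mp (hcon b hb) a ha)
  have hu1 : u ≠ 1 := fun h => huc (h ▸ one_mem _)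
  obtain ⟨⟨z, hz⟩, hz1⟩ := (ne_bot_iff_exists_ne_one).mp (show ((P : Subgroup G) ⊓
      centralizer ((P : Subgroup G) : Set G)) ≠ ⊥ from fun h => by
    rw [h, card_bot] at hZ; exact hp.out.one_lt.ne hZ)
  have hz1 : z ≠ 1 := fun h => hz1 (Subtype.ext h)
  have hzZ := eq_zpowers_of_card_prime (hZ.symm ▸ hp.out) hz hz1
  have huz : u * z = z * u := mem_centralizer_iff.mp hz.2 u hu
  have hup := card_zpowers_eq (hexp u hu) hu1
  obtain ⟨g, hg⟩ := h (zpowers z) (zpowers u) (P.2.to_le (zpowers_le.mpr hz.1))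
    (P.2.to_le (zpowers_le.mpr hu)) ((card_zpowers_eq (hexp z hz.1) hz1).trans hup.symm)
  rw [map_conj_eq_cj] at hg
  have h1 : cj g P ≤ centralizer (zpowers u : Set G) := by
    rw [hg, centralizer_cj]
    exact cj_mono g (le_centralizer_iff.mp (zpowers_le.mpr hz.2))
  have hV : zpowers u ⊔ zpowers z ≤ centralizer (zpowers u : Set G) :=
    sup_le (le_centralizer _) (zpowers_le.mpr (CF.Solv.mem_centralizer_zpowers_iff.mpr huz.symm))
  obtain ⟨Q, hVQ, hQ⟩ := exists_isSylowIn_ge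
    (P.2.to_le (sup_le (zpowers_le.mpr hu) (zpowers_le.mpr hz.1))) hV
  have hQc : Nat.card Q = p ^ 3 := by
    apply le_antisymm
    · exact hc ▸ (isSylowIn_top P).card_le hQ.isPGroup le_top
    · have := hQ.card_le (isPGroup_cj P.2 g) h1
      rwa [← Nat.card_congr (cjEquiv g (P : Subgroup G)).toEquiv, hc] at this
  have hQna : ¬ IsMulCommutative Q := by
    intro hcm
    obtain ⟨k, hk⟩ := h Q P hQ.isPGroup P.2 (hQc.trans hc.symm)
    exact hna (hk ▸ inferInstance)
  obtain ⟨hZQ, hTQ⟩ := exists_transvection hQc hQna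
  have huQ : u ∈ Q ⊓ centralizer (Q : Set G) :=
    ⟨hVQ (mem_sup_left (mem_zpowers u)), zpowers_le.mp (le_centralizer_iff.mp hQ.le)⟩
  have hzQ : z ∈ Q := hVQ (mem_sup_right (mem_zpowers z))
  have hzc : z ∉ centralizer (Q : Set G) := by
    intro hzc
    have := eq_zpowers_of_card_prime (hZQ.symm ▸ hp.out) (mem_inf.mpr ⟨hzQ, hzc⟩) hz1
    rw [this, ← hzZ] at huQ
    exact huc huQ.2
  obtain ⟨x, hx, hxu⟩ := hT z hz u hu huc
  obtain ⟨y, hy, hyz⟩ := hTQ u⁻¹ (inv_mem huQ) z hzQ hzc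
  have hxz : x * z * x⁻¹ = z := by rw [mem_centralizer_iff.mp hz.2 x hx]; group
  have hyu : y * u * y⁻¹ = u := by rw [mem_centralizer_iff.mp huQ.2 y hy]; group
  have e1 : (x * y * x) * z * (x * y * x)⁻¹ = u⁻¹ := by
    calc _ = x * (y * (x * z * x⁻¹) * y⁻¹) * x⁻¹ := by group
      _ = x * (z * u⁻¹) * x⁻¹ := by rw [hxz, hyz]
      _ = (x * z * x⁻¹) * (x * u * x⁻¹)⁻¹ := by group
      _ = u⁻¹ := by rw [hxz, hxu]; group
  have e2 : (x * y * x) * u * (x * y * x)⁻¹ = z := by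
    calc _ = x * (y * (x * u * x⁻¹) * y⁻¹) * x⁻¹ := by group
      _ = x * ((y * u * y⁻¹) * (y * z * y⁻¹)) * x⁻¹ := by rw [hxu]; group
      _ = x * ((u * z) * u⁻¹) * x⁻¹ := by rw [hyu, hyz]; group
      _ = z := by rw [huz, mul_inv_cancel_right, hxz]
  refine ⟨z, x * y * x, hz1, hexp z hz.1, ?_⟩
  calc _ = (x * y * x) * ((x * y * x) * z * (x * y * x)⁻¹) * (x * y * x)⁻¹ := by rw [sq]; group
    _ = ((x * y * x) * u * (x * y * x)⁻¹)⁻¹ := by rw [e1]; group
    _ = z⁻¹ := by rw [e2]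

end CF.Fgs1.EqConj
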