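import Mathlib

/-! The regular case of the friendship theorem (a polarity of a finite projective plane has
absolute points). -/

namespace CF.Fgs1

open Matrix

theorem friendship_regular {V : Type*} [Finite V] [Nonempty V] (adj : V → V → Prop)
    (hsymm : ∀ v w, adj v w → adj w v) (hirr : ∀ v, ¬ adj v v) (d : ℕ)
    (hd : ∀ v, Nat.card {w // adj v w} = d)
    (huniq : ∀ v w, v ≠ w → ∃! u, adj v u ∧ adj w u) : d ≤ 2 := by
  classical
  by_contra hlt
  push Not at hlt
  haveI := Fintype.ofFinite V
  have hne : d - 1 ≠ 1 := by omega
  set p := (d - 1).minFac with hp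
  haveI : Fact p.Prime := ⟨Nat.minFac_prime hne⟩
  have hd1 : (d : ZMod p) = 1 := by
    have h0 : ((d - 1 : ℕ) : ZMod p) = 0 := (ZMod.natCast_eq_zero_iff _ _).2 (Nat.minFac_dvd _)
    have : d = (d - 1) + 1 := by omega
    rw [this, Nat.cast_add, h0, zero_add, Nat.cast_one]
  let M : Matrix V V (ZMod p) := Matrix.of fun v w => if adj v w then 1 else 0
  let J : Matrix V V (ZMod p) := Matrix.of fun _ _ => 1
  have hcard : ∀ v, ((Finset.univ.filter fun w => adj v w).card : ZMod p) = 1 := by
    intro v
    rw [← hd1, ← hd v, Nat.card_eq_fintype_card, Fintype.card_subtype]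
  have hMJ : M * J = J := by
    ext v w
    simp only [M, J, Matrix.mul_apply, Matrix.of_apply, mul_one]
    rw [Finset.sum_boole]
    exact hcard v
  have hMM : M * M = J := by
    ext v w
    simp only [M, J, Matrix.mul_apply, Matrix.of_apply]
    have : ∀ u, (if adj v u then (1 : ZMod p) else 0) * (if adj u w then 1 else 0) =
        if adj v u ∧ adj w u then 1 else 0 := by
      intro u
      by_cases h1 : adj v u <;> by_cases h2 : adj w u
      · simp [h1, h2, hsymm _ _ h2]
      · have : ¬ adj u w := fun h => h2 (hsymm _ _ h)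
        simp [h1, h2, this]
      · simp [h1]
      · simp [h1]
    simp only [this]
    rw [Finset.sum_boole]
    by_cases hvw : v = w
    · subst hvw
      simp only [and_self]
      exact hcard v
    · obtain ⟨u, hu, hu'⟩ := huniq v w hvw
      have : (Finset.univ.filter fun u => adj v u ∧ adj w u) = {u} := by
        ext x
        simp only [Finset.mem_filter, Finset.mem_univ, true_and, Finset.mem_singleton]
        exact ⟨fun h => hu' x h, fun h => h ▸ hu⟩
      rw [this]; simp
  have hpow : ∀ k, M ^ (k + 2) = J := by
    intro k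
    induction k with
    | zero => rw [zero_add, pow_two, hMM]
    | succ k ih => rw [add_right_comm, pow_succ', ih, hMJ]
  have hV : (Fintype.card V : ZMod p) = 1 := by
    have h1 : J * J = J := by
      calc J * J = M * M * J := by rw [hMM]
        _ = J := by rw [Matrix.mul_assoc, hMJ, hMJ]
    obtain ⟨v⟩ := ‹Nonempty V›
    have := congrFun (congrFun h1 v) v
    simpa [J, Matrix.mul_apply] using this
  have ht : trace (M ^ p) = trace M ^ p := ZMod.trace_pow_card M
  have h2 : 2 ≤ p := (Fact.out : p.Prime).two_le
  have e : p = (p - 2) + 2 := by omega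
  have hM0 : trace M = 0 := by
    simp [M, Matrix.trace, hirr]
  have hJ : trace J = 1 := by
    simp [J, Matrix.trace, hV]
  have hMp : M ^ p = J := by
    have := hpow (p - 2)
    rwa [← e] at this
  rw [hM0, zero_pow (by omega), hMp, hJ] at ht
  exact one_ne_zero ht

end CF.Fgs1
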