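/-
Spanning sets whose non-fixed members have norm in a given subspace: abelian groups.
-/
import Cfsg.Agent.Fgs1.HHFpf
set_option autoImplicit false
set_option linter.unusedSectionVars false

namespace CF.Fgs1
open Module Subgroup CF.BG Polynomial
open scoped commutatorElement

variable {Γ : Type*} [Group Γ] [Finite Γ] {k : Type*} [Field k] {W : Type*} [AddCommGroup W]
  [Module k W]

/-- the kernel of a representation -/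
abbrev Kr (H : Subgroup Γ) (ρ : Γ → End k W) : Subgroup Γ := Fixer H ρ Set.univ

/-- `Λ` is an `N`-invariant spanning set and the `A`-norm maps its non-fixed members into `Y` -/
structure Sp (ρ : Γ → End k W) (N A : Subgroup Γ) (Λ : Set W) (Y : Submodule k W) : Prop where
  span : Submodule.span k Λ = ⊤
  inv : ∀ n ∈ N, ∀ v ∈ Λ, ρ n v ∈ Λ
  hyp : ∀ v ∈ Λ, v ∉ FixV ρ A → nrm ρ A v ∈ Y

namespace Sp
variable {ρ : Γ → End k W} {N A B : Subgroup Γ} {Λ : Set W} {Y Y' : Submodule k W}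

theorem mono (s : Sp ρ N A Λ Y) (h : B ≤ N) : Sp ρ B A Λ Y :=
  ⟨s.span, fun n hn => s.inv n (h hn), s.hyp⟩

theorem mono' (s : Sp ρ N A Λ Y) (h : Y ≤ Y') : Sp ρ N A Λ Y' :=
  ⟨s.span, s.inv, fun v a b => h (s.hyp v a b)⟩

theorem forall_mem (s : Sp ρ N A Λ Y) {T : End k W} (h : ∀ v ∈ Λ, T v ∈ Y') (w : W) : T w ∈ Y' := by
  have : Submodule.span k Λ ≤ Y'.comap T := Submodule.span_le.mpr h
  exact this (s.span ▸ Submodule.mem_top)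

end Sp

theorem nrm_eq_proj (ρ : Γ → End k W) (B : Subgroup Γ) : nrm ρ B = proj ρ B fun _ => 1 := by
  simp [nrm, proj]

theorem isChar_one (B : Subgroup Γ) : IsChar B (fun _ => (1 : k)) := ⟨rfl, fun _ _ _ _ => by simp⟩

theorem IsChar.inf_stabCh {B A : Subgroup Γ} {ξ : Γ → k} (c : IsChar B ξ) (hA : (♯A).Prime)
    {b : Γ} (hb : b ∈ ⁅B, A⁆) (h1 : ξ b ≠ 1) : A ⊓ StabCh B ξ = ⊥ :=
  inf_eq_bot_of_prime_of_not_le hA fun e => h1 (c.eq_one_of_le_stabCh e hb)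

theorem mem_fixV_bot (ρ : Γ → End k W) (h : ρ 1 = 1) (w : W) : w ∈ FixV ρ ⊥ := fun g hg => by
  rw [mem_bot.mp hg, h]; rfl

theorem pow_card_eq_of_comm {g a : Γ} {F A S : Subgroup Γ} (hg : g ∈ F) (ha : a ∈ A)
    (c : (♯F).Coprime (♯A)) (e : a * g = g * a) (h : a * g ∈ S) : a ∈ S := by
  have h1 : (a * g) ^ ♯F = a ^ ♯F := by
    rw [Commute.mul_pow e, orderOf_dvd_iff_pow_eq_one.mp (orderOf_dvd_card' hg), mul_one]
  have h2 : a ∈ zpowers (a ^ ♯F) := mem_zpowers_pow_iff.mpr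
    (Nat.Coprime.coprime_dvd_right (orderOf_dvd_card' ha) c)
  exact zpowers_le.mpr (h1 ▸ S.pow_mem h _) h2

namespace RepOn
variable {H A B N F : Subgroup Γ} {ρ : Γ → End k W} {Λ : Set W} {Y : Submodule k W}

theorem le_kr (h : RepOn H ρ) (hB : B ≤ H) (e : ∀ g ∈ B, ρ g = 1) : B ≤ Kr H ρ :=
  fun g hg => h.mem_ker.mpr ⟨hB hg, e g hg⟩

theorem eq_one (h : RepOn H ρ) (hB : B ≤ Kr H ρ) {g : Γ} (hg : g ∈ B) : ρ g = 1 :=
  (h.mem_ker.mp (hB hg)).2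

theorem nrm_nrm (h : RepOn H ρ) (hB : B ≤ H) (hA : A ≤ H) (n : A ≤ 𝐍 B) (w : W) :
    nrm ρ A (nrm ρ B w) = nrm ρ B (nrm ρ A w) := by
  rw [nrm_apply ρ A w, map_sum, nrm_apply]
  exact sum_fs_congr fun a ha => h.apply_nrm hB (hA ha) (n ha) w

theorem nrm_proj (h : RepOn H ρ) (hB : B ≤ H) (hA : A ≤ H) {ξ : Γ → k} (n : A ≤ StabCh B ξ)
    (w : W) : nrm ρ A (proj ρ B ξ w) = proj ρ B ξ (nrm ρ A w) := by
  rw [nrm_apply ρ A w, map_sum, nrm_apply]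
  exact sum_fs_congr fun a ha => h.apply_proj_stab hB (hA ha) (n ha) w

/-- if `n u` and `u` are fixed by `A` then `n` is fixed by `A` modulo the stabilizer of `u` -/
theorem fix_conj (h : RepOn H ρ) (hA : A ≤ H) {u : W} (hu : u ∈ FixV ρ A) {b : Γ} (hb : b ∈ H)
    (e : ρ b u ∈ FixV ρ A) {a : Γ} (ha : a ∈ A) : ρ (b⁻¹ * (a * b * a⁻¹)) u = u := by
  have h1 := hA ha
  rw [h.mul_apply (H.inv_mem hb) (H.mul_mem (H.mul_mem h1 hb) (H.inv_mem h1)), h.conj h1 hb,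
    End.mul_apply, End.mul_apply, hu _ (A.inv_mem ha), e a ha, h.inv_apply hb]

theorem ab_step (h : RepOn H ρ) (hB : B ≤ H) (hA : A ≤ H) (n : A ≤ 𝐍 B) (hc : ⁅B, B⁆ ≤ Kr H ρ)
    (e : ⁅B, A⁆ = B) (c : (♯A).Coprime (♯B)) (kA : ((♯A : ℕ) : k) ≠ 0) (kB : ((♯B : ℕ) : k) ≠ 0)
    (s : Sp ρ B A Λ Y) (hY : ∀ y ∈ Y, nrm ρ B y ∈ Y) (w : W) :
    nrm ρ A (((♯B : ℕ) : k) • w - nrm ρ B w) ∈ Y := by
  refine s.forall_mem (T := nrm ρ A * (((♯B : ℕ) : k) • 1 - nrm ρ B)) (fun u hu => ?_) w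
  simp only [End.mul_apply, LinearMap.sub_apply, LinearMap.smul_apply, End.one_apply, map_sub,
    map_smul]
  rw [h.nrm_nrm hB hA n]
  by_cases hf : u ∈ FixV ρ A
  swap
  · exact Y.sub_mem (Y.smul_mem _ (s.hyp u hu hf)) (hY _ (s.hyp u hu hf))
  have hb := h.mono hB
  set S := Fixer B ρ {u} with hS
  have hSB : S ≤ B := fixer_le _ _ _
  have nS : A ≤ 𝐍 S := by
    rw [le_norm_iff]
    intro a ha g hg
    rw [hb.mem_fixer_single] at hg ⊢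
    refine ⟨conj_mem_of_norm (n ha) hg.1, ?_⟩
    rw [h.conj (hA ha) (hB hg.1), End.mul_apply, End.mul_apply, hf _ (A.inv_mem ha), hg.2, hf a ha]
  have dS : ⁅B, B⁆ ≤ S := fun g hg =>
    hb.mem_fixer_single.mpr ⟨BG.der_le B hg, by rw [h.eq_one hc hg]; rfl⟩
  have h1 : ∀ b ∈ B, b ∉ S → nrm ρ A (ρ b u) ∈ Y := fun b hb' hbS =>
    s.hyp _ (s.inv b hb' u hu) fun a => hbS (CF.Coprime.mem_of_mem_commutator_of_fixed A B S n nS dS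
      (c.coprime_dvd_right (relIndex_dvd_card S B)) (e.symm ▸ hb') fun g hg =>
        hb.mem_fixer_single.mpr ⟨B.mul_mem (B.inv_mem hb') (conj_mem_of_norm (n hg) hb'),
          h.fix_conj hA hf (hB hb') a hg⟩)
  have h2 : nrm ρ A (nrm ρ B u) - ((♯S : ℕ) : k) • nrm ρ A u ∈ Y := by
    classical
    rw [← Submodule.Quotient.mk_eq_zero, ← Submodule.mkQ_apply, map_sub, sub_eq_zero,
      nrm_apply ρ B, map_sum, map_sum, sum_fs_of_le hSB, sum_fs_congr (g := fun _ => Y.mkQ (nrm ρ A u)),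
      sum_fs_const, map_smul, Nat.cast_smul_eq_nsmul]
    · intro b hb'
      rw [(hb.mem_fixer_single.mp hb').2]
    · intro b hb' hbS
      exact (Submodule.Quotient.mk_eq_zero _).mpr (h1 b hb' hbS)
  rw [h.nrm_nrm hB hA n] at h2
  set y := nrm ρ A u
  have h3 := hY _ h2
  rw [map_sub, map_smul, nrm_of_fix (h.nrm_mem hB y)] at h3
  have kS := cast_card_ne_zero kB hSB
  rw [← Y.smul_mem_iff kS]
  convert Y.sub_mem h3 (Y.smul_mem ((♯B : ℕ) : k) h2) using 1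
  simp only [smul_sub, smul_smul, mul_comm]
  abel

theorem nrm_wt_eq_zero (h : RepOn H ρ) (hB : B ≤ H) {ξ : Γ → k} {w : W} (hw : w ∈ Wt ρ B ξ) {b : Γ}
    (hb : b ∈ B) (h1 : ξ b ≠ 1) : nrm ρ B w = 0 := by
  rw [nrm_eq_proj]
  exact h.proj_eq_zero hB (isChar_one B) hw hb h1.symm

theorem ab_wt (h : RepOn H ρ) (hB : B ≤ H) (hA : A ≤ H) (n : A ≤ 𝐍 B) (hc : ⁅B, B⁆ ≤ Kr H ρ)
    (e : ⁅B, A⁆ = B) (c : (♯A).Coprime (♯B)) (kA : ((♯A : ℕ) : k) ≠ 0) (kB : ((♯B : ℕ) : k) ≠ 0)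
    (s : Sp ρ B A Λ Y) (hY : ∀ y ∈ Y, nrm ρ B y ∈ Y) {ξ : Γ → k} {w : W} (hw : w ∈ Wt ρ B ξ)
    {b : Γ} (hb : b ∈ B) (h1 : ξ b ≠ 1) : nrm ρ A w ∈ Y := by
  have := h.ab_step hB hA n hc e c kA kB s hY w
  rwa [h.nrm_wt_eq_zero hB hw hb h1, sub_zero, map_smul, Y.smul_mem_iff kB] at this

theorem eq_zero_of_nrm (h : RepOn H ρ) (hB : B ≤ H) (hA : A ≤ H) (n : A ≤ 𝐍 B) (pA : (♯A).Prime)
    (kA : ((♯A : ℕ) : k) ≠ 0) (kB : ((♯B : ℕ) : k) ≠ 0) {ξ : Γ → k} {w : W} (hw : w ∈ Wt ρ B ξ)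
    {b : Γ} (hb : b ∈ ⁅B, A⁆) (h1 : ξ b ≠ 1) (e : nrm ρ A w = 0) : w = 0 := by
  by_contra h0
  refine h.nrm_ne_zero hB hA n kA kB hw h0 ?_ e
  rw [(h.isChar hB hw h0).inf_stabCh pA hb h1]
  exact mem_fixV_bot ρ h.one w

theorem comm_of_kr (h : RepOn H ρ) (hA : A ≤ H) (hB : B ≤ H) (hc : ⁅A, B⁆ ≤ Kr H ρ) :
    ∀ x ∈ A, ∀ y ∈ B, ρ x * ρ y = ρ y * ρ x := fun _ hx _ hy =>
  (h.comm_eq_one_iff (hA hx) (hB hy)).mp (h.eq_one hc (commutator_mem_commutator hx hy))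

theorem kr_of_comm (h : RepOn H ρ) (hA : A ≤ H) (hB : B ≤ H)
    (hc : ∀ x ∈ A, ∀ y ∈ B, ρ x * ρ y = ρ y * ρ x) : ⁅A, B⁆ ≤ Kr H ρ :=
  commutator_le.mpr fun _ hx _ hy => h.mem_ker.mpr
    ⟨h.comm_mem (hA hx) (hB hy), (h.comm_eq_one_iff (hA hx) (hB hy)).mpr (hc _ hx _ hy)⟩

theorem comm_rad (h : RepOn H ρ) (hN : N ≤ H) : ⁅Rad N ρ, N⁆ ≤ Kr H ρ :=
  h.kr_of_comm ((rad_le N ρ).trans hN) hN fun _ hx => ((h.mem_rad hN).mp hx).2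

theorem le_rad (h : RepOn H ρ) (hN : N ≤ H) (hB : B ≤ N) (e : ⁅B, N⁆ ≤ Kr H ρ) : B ≤ Rad N ρ :=
  h.le_rad_of_comm hN hB e fun _ hg => h.eq_one le_rfl hg

variable [IsAlgClosed k] [FiniteDimensional k W]

theorem le_kr_of_wt (h : RepOn H ρ) (hB : B ≤ H) (kB : ((♯B : ℕ) : k) ≠ 0) (hc : ⁅B, B⁆ ≤ Kr H ρ)
    (e : ∀ ξ : Γ → k, ∀ w ∈ Wt ρ B ξ, ∀ b ∈ B, ξ b ≠ 1 → w = 0) : B ≤ Kr H ρ := by
  have := h.wt_induction hB kB (h.comm_of_kr hB hB hc) (Y := FixV ρ B) fun ξ _ w hw b hb => by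
    by_cases h1 : ξ b = 1
    · rw [hw b hb, h1, one_smul]
    · rw [e ξ w hw b hb h1, map_zero]
  refine h.le_kr hB fun g hg => LinearMap.ext fun w => ?_
  have hw : w ∈ FixV ρ B := this ▸ Submodule.mem_top
  exact hw g hg

theorem ab_zero (h : RepOn H ρ) (hB : B ≤ H) (hA : A ≤ H) (n : A ≤ 𝐍 B) (hc : ⁅B, B⁆ ≤ Kr H ρ)
    (e : ⁅B, A⁆ = B) (c : (♯A).Coprime (♯B)) (pA : (♯A).Prime) (kA : ((♯A : ℕ) : k) ≠ 0)
    (kB : ((♯B : ℕ) : k) ≠ 0) (s : Sp ρ B A Λ ⊥) : B ≤ Kr H ρ :=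
  h.le_kr_of_wt hB kB hc fun _ _ hw _ hb h1 => h.eq_zero_of_nrm hB hA n pA kA kB hw (e.symm ▸ hb) h1
    (h.ab_wt hB hA n hc e c kA kB s (fun y hy => by rw [hy, map_zero]; rfl) hw hb h1)

omit [IsAlgClosed k] [FiniteDimensional k W] in
theorem ab_fix (h : RepOn H ρ) (hB : B ≤ H) (hA : A ≤ H) (n : A ≤ 𝐍 B) (hc : ⁅B, B⁆ ≤ Kr H ρ)
    (e : ⁅B, A⁆ = B) (c : (♯A).Coprime (♯B)) (pA : (♯A).Prime) (kA : ((♯A : ℕ) : k) ≠ 0)
    (kB : ((♯B : ℕ) : k) ≠ 0) (hF : F ≤ H) (nF : F ≤ 𝐍 B) (cF : F ≤ 𝐂 A) (c' : (♯F).Coprime (♯A))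
    (s : Sp ρ B A Λ (FixV ρ F)) {ξ : Γ → k} {b : Γ} (hb : b ∈ B) (h1 : ξ b ≠ 1) :
    Wt ρ B ξ ≤ FixV ρ F := by
  intro w hw g hg
  by_cases h0 : w = 0
  · rw [h0, map_zero]
  have ch := h.isChar hB hw h0
  have hb' : b ∈ ⁅B, A⁆ := e.symm ▸ hb
  have h2 := h.ab_wt hB hA n hc e c kA kB s (fun y hy f hf => by
    rw [h.apply_nrm hB (hF hf) (nF hf), hy f hf]) hw hb h1 g hg
  rw [h.apply_nrm hA (hF hg) (norm_of_cent cF hg)] at h2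
  have hS : g ∈ StabCh B ξ := by
    have h3 := h.proj_nrm hB hA n ch hw (by
      rw [ch.inf_stabCh pA hb' h1]; exact mem_fixV_bot ρ h.one w)
    rw [← h2, nrm_apply, map_sum] at h3
    have h4 := smul_ne_zero (mul_ne_zero (cast_card_ne_zero (R := A ⊓ StabCh B ξ) kA inf_le_left) kB) h0
    rw [← h3] at h4
    obtain ⟨a, ha, h5⟩ := Finset.exists_ne_zero_of_sum_ne_zero h4
    have ha := mem_fs.mp ha
    rw [← h.mul_apply (hA ha) (hF hg)] at h5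
    have h6 : a * g ∈ StabCh B ξ := by_contra fun x => h5 (h.proj_apply_eq_zero hB ch
      (H.mul_mem (hA ha) (hF hg)) ((𝐍 B).mul_mem (n ha) (nF hg)) x hw)
    have h7 := pow_card_eq_of_comm hg ha c' (mem_cent.mp (cF hg) a ha) h6
    exact ((StabCh B ξ).mul_mem_cancel_left h7).mp h6
  rw [← sub_eq_zero]
  refine h.eq_zero_of_nrm hB hA n pA kA kB
    ((Wt ρ B ξ).sub_mem (h.map_wt_stab hB (hF hg) hS hw) hw) hb' h1 ?_
  rw [map_sub, h2, sub_self]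

omit [IsAlgClosed k] [FiniteDimensional k W] in
/-- restriction to a weight space -/
theorem sp_restrict (h : RepOn H ρ) {M H₀ : Subgroup Γ} (hM : M ≤ H) (kM : ((♯M : ℕ) : k) ≠ 0)
    {ξ : Γ → k} (c : IsChar M ξ) (hH : H₀ ≤ H) (hS : H₀ ≤ StabCh M ξ) (hN : N ≤ H₀) (hA : A ≤ H₀)
    (hF : F ≤ H₀) (s : Sp ρ N A Λ (FixV ρ F)) :
    ∃ (σ : Γ → End k (Wt ρ M ξ)) (Λ' : Set (Wt ρ M ξ)), RepOn H₀ σ ∧
      (∀ g ∈ H₀, ∀ u, (σ g u : W) = ρ g u) ∧ Sp σ N A Λ' (FixV σ F) ∧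
      (FixV ρ F = ⊥ → FixV σ F = ⊥) := by
  obtain ⟨σ, hσ, e⟩ := (h.mono hH).restrict (h.stab_wt_of_le hM hH hS)
  let π : W →ₗ[k] Wt ρ M ξ := (proj ρ M ξ).codRestrict _ (h.proj_mem hM c)
  have hπ : ∀ w, (π w : W) = proj ρ M ξ w := fun _ => rfl
  have hc : ∀ g ∈ H₀, ∀ w, σ g (π w) = π (ρ g w) := fun g hg w =>
    Subtype.ext (by rw [e g hg, hπ, hπ, h.apply_proj_stab hM (hH hg) (hS hg)])
  refine ⟨σ, π '' Λ, hσ, e, ⟨?_, ?_, ?_⟩, fun a => ?_⟩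
  · rw [← Submodule.map_span, s.span, Submodule.map_top, LinearMap.range_eq_top]
    intro u
    refine ⟨((♯M : ℕ) : k)⁻¹ • u, Subtype.ext ?_⟩
    rw [hπ, map_smul, proj_of_mem c u.2, smul_smul, inv_mul_cancel₀ kM, one_smul]
  · rintro n hn _ ⟨v, hv, rfl⟩
    exact ⟨_, s.inv n hn v hv, (hc n (hN hn) v).symm⟩
  · rintro _ ⟨v, hv, rfl⟩ hv' f hf
    have : nrm σ A (π v) = π (nrm ρ A v) := by
      rw [nrm_apply, nrm_apply, map_sum]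
      exact sum_fs_congr fun a ha => hc a (hA ha) v
    rw [this, hc f (hF hf), s.hyp v hv (fun x => hv' fun a ha => by rw [hc a (hA ha), x a ha]) f hf]
  · rw [eq_bot_iff] at a ⊢
    intro u hu
    exact Subtype.ext (a fun f hf => by rw [← e f (hF hf), hu f hf])

end RepOn
end CF.Fgs1
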