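/-
Group-theoretic lemmas for the Hall-Higman-Shult reduction.
-/
import Cfsg.Agent.Fgs1.HHAB
import Cfsg.Agent.BG2.P3a
set_option autoImplicit false
set_option linter.unusedSectionVars false

namespace CF.Fgs1
open Subgroup CF.BG
open scoped commutatorElement

variable {Γ : Type*} [Group Γ] [Finite Γ]

theorem exists_not_mem_cover {ι : Type*} (s : Finset ι) (X : ι → Subgroup Γ) {N : Subgroup Γ}
    {r : ℕ} (hr : 0 < r) (hs : s.card ≤ r + 1) (h : ∀ i ∈ s, r + 1 ≤ (X i).relIndex N) :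
    ∃ n ∈ N, ∀ i ∈ s, n ∉ X i := by
  classical
  by_contra e
  push Not at e
  have h1 : (fs N).erase 1 ⊆ s.biUnion fun i => (fs (X i ⊓ N)).erase 1 := by
    intro n hn
    obtain ⟨hn1, hn⟩ := Finset.mem_erase.mp hn
    obtain ⟨i, hi, hX⟩ := e n (mem_fs.mp hn)
    exact Finset.mem_biUnion.mpr ⟨i, hi, Finset.mem_erase.mpr
      ⟨hn1, mem_fs.mpr (mem_inf.mpr ⟨hX, mem_fs.mp hn⟩)⟩⟩
  have h2 := (Finset.card_le_card h1).trans Finset.card_biUnion_le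
  have h3 : ∀ i ∈ s, (r + 1) * ((fs (X i ⊓ N)).erase 1).card ≤ ♯N - (r + 1) := by
    intro i hi
    rw [Finset.card_erase_of_mem (mem_fs.mpr (one_mem _)), card_fs, ← card_inf_mul_relIndex (X i) N,
      Nat.mul_sub, mul_one, mul_comm]
    exact Nat.sub_le_sub_right (Nat.mul_le_mul_left _ (h i hi)) _
  have h4 := Finset.sum_le_card_nsmul _ _ _ h3
  rw [← Finset.mul_sum, smul_eq_mul] at h4
  rw [Finset.card_erase_of_mem (mem_fs.mpr (one_mem _)), card_fs] at h2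
  have h5 := Nat.le_of_mul_le_mul_left
    ((Nat.mul_le_mul_left _ h2).trans (h4.trans (Nat.mul_le_mul_right _ hs))) (Nat.succ_pos r)
  obtain ⟨i, hi, -⟩ := e 1 N.one_mem
  have h6 := (h i hi).trans (Nat.le_of_dvd (card_pos' N) (relIndex_dvd_card (X i) N))
  omega

theorem lt_relIndex_of_comm {N A Y : Subgroup Γ} (n : A ≤ 𝐍 N) (e : ⁅N, A⁆ = N) (pA : (♯A).Prime)
    (c : (♯A).Coprime (♯N)) (hY : Y ≤ N) (hd : ⁅N, N⁆ ≤ Y) (nY : A ≤ 𝐍 Y) (hne : ¬ N ≤ Y) :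
    ♯A + 1 ≤ Y.relIndex N := by
  have nN := norm_of_der_le hY hd
  have e1 : ♯(qt Y A) = ♯A :=
    card_qt_of_inf_bot nY (BG.inf_eq_bot_of_coprime (coprime_mono c le_rfl hY).symm)
  rw [← card_qt nN, ← e1]
  refine Reg.card_lt (reg_of_prime (e1 ▸ pA) ?_) (qt_norm Y n) fun a => hne ((qt_eq_bot nN).mp a)
  have := ((abel_qt_iff nN).mpr hd).comm_inf_cent (qt_norm Y n) (coprime_qt Y c)
  rwa [← qt_comm nN nY, e] at this

/-- elements on which conjugation by `g` and by `a` agree modulo `X` -/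
def Agree {N X : Subgroup Γ} (nX : N ≤ 𝐍 X) {g a : Γ} (hg : g ∈ 𝐍 N) : Subgroup Γ where
  carrier := {n | n ∈ N ∧ (g * n * g⁻¹)⁻¹ * (a * n * a⁻¹) ∈ X}
  one_mem' := ⟨N.one_mem, by simp⟩
  mul_mem' := by
    rintro x y ⟨hx, hx'⟩ ⟨hy, hy'⟩
    refine ⟨N.mul_mem hx hy, ?_⟩
    have := X.mul_mem (conj_mem_of_norm' (nX (conj_mem_of_norm hg hy)) hx') hy'
    convert this using 1; group
  inv_mem' := by
    rintro x ⟨hx, hx'⟩
    refine ⟨N.inv_mem hx, ?_⟩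
    have := conj_mem_of_norm (nX (conj_mem_of_norm hg hx)) (X.inv_mem hx')
    convert this using 1; group

theorem exists_not_agree {N A X : Subgroup Γ} (n : A ≤ 𝐍 N) (e : ⁅N, A⁆ = N) (pA : (♯A).Prime)
    (c : (♯A).Coprime (♯N)) (hX : X ≤ N) (hd : ⁅N, N⁆ ≤ X) (nX : A ≤ 𝐍 X) {g : Γ} (hg : g ∈ 𝐍 N)
    (cg : g ∈ 𝐂 A) (c' : (orderOf g).Coprime (♯A)) (hne : ¬ ⁅N, zpowers g⁆ ≤ X) :
    ∃ m ∈ N, m ∉ X ∧ ∀ a ∈ A, (g * m * g⁻¹)⁻¹ * (a * m * a⁻¹) ∉ X := by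
  classical
  have nN := norm_of_der_le hX hd
  have hNX : ¬ N ≤ X := fun a => hne ((comm_le_left (zpowers_le.mpr hg)).trans a)
  obtain ⟨m, hm, h⟩ := exists_not_mem_cover (N := N) (Finset.insertNone (fs A))
    (fun i => i.elim X fun a => Agree nN (a := a) hg) pA.pos
    (by rw [Finset.card_insertNone, card_fs]) (by
    rintro (_ | a) ha
    · exact lt_relIndex_of_comm n e pA c hX hd nX hNX
    have ha : a ∈ A := mem_fs.mp (Finset.some_mem_insertNone.mp ha)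
    have nd := norm_der N
    refine lt_relIndex_of_comm n e pA c (fun _ h => h.1) (fun y hy => ⟨BG.der_le N hy, hd
      (mul_mem (inv_mem (conj_mem_of_norm (nd hg) hy)) (conj_mem_of_norm (nd (n ha)) hy))⟩) ?_ ?_
    · rw [le_norm_iff]
      rintro b hb y ⟨hy, hy'⟩
      refine ⟨conj_mem_of_norm (n hb) hy, ?_⟩
      have h1 := mem_cent.mp cg b hb
      have h2 := (cyc_of_prime pA).abel.mul_comm ha hb
      have := conj_mem_of_norm (nX hb) hy'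
      convert this using 1
      calc _ = ((g * b) * y * (g * b)⁻¹)⁻¹ * ((a * b) * y * (a * b)⁻¹) := by group
        _ = _ := by rw [← h1, h2]; group
    · intro hle
      have h1 : ∀ y ∈ N, (g * y * g⁻¹)⁻¹ * (a * y * a⁻¹) ∈ X := fun y hy => (hle hy).2
      have gX : g ∈ 𝐍 X := mem_norm_of_cj_le fun y hy => by
        obtain ⟨z, hz, rfl⟩ := mem_cj_iff.mp hy
        have := X.mul_mem (conj_mem_of_norm (nX ha) hz) (X.inv_mem (h1 z (hX hz)))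
        convert this using 1; group
      have h2 : a⁻¹ * g ∈ centMod N X := by
        refine mem_centMod.mpr ⟨mul_mem (inv_mem (nX ha)) gX, fun y hy => ?_⟩
        have h3 := conj_mem_of_norm' (nX ha) (h1 y⁻¹ (N.inv_mem hy))
        convert h3 using 1
        rw [commutatorElement_def]; group
      have h3 : a⁻¹ ∈ centMod N X := pow_card_eq_of_comm (mem_zpowers g) (A.inv_mem ha)
        (by rwa [Nat.card_zpowers]) (mem_cent.mp cg _ (A.inv_mem ha)) h2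
      have h4 : g ∈ centMod N X := ((centMod N X).mul_mem_cancel_left h3).mp h2
      apply hne
      rw [commutator_comm]
      exact (le_centMod.mp (zpowers_le.mpr h4)).2)
  exact ⟨m, hm, h none (by simp), fun a ha x => h (some a) (by simpa using ha) ⟨hm, x⟩⟩

theorem pow_mem_zpowers_of_not_dvd {f : Γ} {l e i : ℕ} (hl : l.Prime) (hf : PiElt {l} f)
    (hi : ¬ l ^ (e + 1) ∣ i) : f ^ l ^ e ∈ zpowers (f ^ i) := by
  obtain ⟨a, -, h⟩ := exists_period (zpowers (f ^ i)) f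
  obtain ⟨m, hm⟩ := PiNat.exists_pow hf (orderOf_pos f).ne'
  obtain ⟨s, -, rfl⟩ := (Nat.dvd_prime_pow hl).mp
    ((h (l ^ m)).mp (by rw [← hm, pow_orderOf_eq_one]; exact one_mem _))
  refine (h _).mpr (pow_dvd_pow l ?_)
  by_contra hlt
  exact hi ((pow_dvd_pow l (by omega)).trans ((h _).mp (mem_zpowers _)))

/-- semiregularity of a product of commuting elements -/
theorem semireg_mul {Q R A : Subgroup Γ} (nQ : A ≤ 𝐍 Q) (nR : A ≤ 𝐍 R) (hd : ⁅Q, Q⁆ ≤ R)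
    (e : ⁅Q, A⁆ = Q) (pA : (♯A).Prime) (c : (♯A).Coprime (♯Q)) {a f : Γ} (ha : a ∈ A) (ha1 : a ≠ 1)
    {l : ℕ} (hl : l.Prime) (hf : PiElt {l} f) (hlA : l ≠ ♯A) (hlQ : PiGrp {l}ᶜ Q) (fQ : f ∈ 𝐍 Q)
    (fR : f ∈ 𝐍 R) (cf : f ∈ 𝐂 A) {t : ℕ} {m : Γ} (hm : m ∈ ⁅Q, zpowers (f ^ l ^ t)⁆) (hmR : m ∉ R)
    {i : ℕ} (h0 : 0 < i) (h1 : i < ♯A * l ^ (t + 1)) :
    m⁻¹ * ((a * f) ^ i * m * ((a * f) ^ i)⁻¹) ∉ R := by
  intro h
  have cm : Commute a f := mem_cent.mp cf a ha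
  have nf : zpowers (f ^ l ^ t) ≤ 𝐍 Q := zpowers_le.mpr (pow_mem fQ _)
  have hg : (a * f) ^ i ∈ 𝐍 R := pow_mem (mul_mem (nR ha) fR) i
  have hoa : orderOf a = ♯A := by rw [← Nat.card_zpowers, zpowers_eq_of_prime pA ha ha1]
  by_cases hi : ♯A ∣ i
  · obtain ⟨j, rfl⟩ := hi
    refine hmR (mem_of_fpf nf (zpowers_le.mpr (pow_mem fR _)) hd ?_ hg ?_ hm h)
    · rw [Nat.card_zpowers]
      exact PiNat.coprime (PiNat.dvd hf (orderOf_pow_dvd _)) hlQ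
    · rw [zpowers_le, cm.mul_pow, pow_mul a, ← hoa, pow_orderOf_eq_one, one_pow, one_mul, hoa]
      refine pow_mem_zpowers_of_not_dvd hl hf fun d => ?_
      have d' := (Nat.Coprime.pow_left _ ((Nat.coprime_primes hl pA).mpr hlA)).dvd_of_dvd_mul_left d
      have := Nat.le_of_dvd (Nat.pos_of_mul_pos_left h0) d'
      exact absurd (Nat.lt_of_mul_lt_mul_left h1) (by omega)
  · refine hmR (mem_of_fpf nQ nR hd c hg ?_ (e.symm ▸ comm_le_left nf hm) h)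
    have h2 : a ^ i ≠ 1 := fun x => hi (hoa ▸ orderOf_dvd_of_pow_eq_one x)
    rw [← zpowers_eq_of_prime pA (pow_mem ha i) h2, zpowers_le]
    refine pow_card_eq_of_comm (F := zpowers f) (pow_mem (mem_zpowers f) i) (pow_mem ha i) ?_
      (cm.pow_pow i i) (cm.mul_pow i ▸ mem_zpowers _)
    rw [Nat.card_zpowers]
    exact PiNat.coprime hf ((piNat_prime pA).mpr hlA.symm)

/-- a Frobenius section -/
theorem exists_frob_section {S T A : Subgroup Γ} (aS : Abel S) (nT : Nil T) (tS : T ≤ 𝐍 S)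
    (aS' : A ≤ 𝐍 S) (aT : A ≤ 𝐍 T) (pA : (♯A).Prime) (c1 : (♯A).Coprime (♯S))
    (c2 : (♯A).Coprime (♯T)) (c3 : (♯T).Coprime (♯S)) (f : T ⊓ 𝐂 S = ⊥) (e : ⁅S, T⁆ = S)
    (h1 : ⁅S, A⁆ ≠ ⊥) (h2 : T ⊓ 𝐂 A ≤ 𝐂 ⁅S, A⁆) :
    ∃ T₀ c, T₀ ≤ T ∧ 1 < c ∧ ♯⁅S, T₀⁆ = c ^ ♯A ∧ c ^ (♯A - 1) ≤ ♯⁅S, A⁆ := by
  set K := ⁅T, A⁆ with hK
  have KT : K ≤ T := comm_le_left aT
  have aK : A ≤ 𝐍 K := norm_comm_right T A
  have K1 : K ≠ ⊥ := fun a => h1 (by
    have h3 := aS.comm_inf_cent tS c3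
    rw [e] at h3
    rw [inf_of_le_left (comm_eq_bot.mp a)] at h2
    exact eq_bot_mono h3 (le_inf (comm_le_left aS') (cent_symm h2)))
  have Z1 := (nT.mono KT).center_ne_bot K1
  have ZT : 𝐙 K ≤ T := inf_le_left.trans KT
  have aZ : A ≤ 𝐍 (𝐙 K) := aK.trans (norm_center K)
  have hZ : 𝐙 K ⊓ 𝐂 A = ⊥ := by
    set Z₀ := 𝐙 K ⊓ 𝐂 A
    have ZT' : Z₀ ≤ T := inf_le_left.trans ZT
    have h3 : ⁅S, A⁆ ≤ S ⊓ 𝐂 Z₀ :=
      le_inf (comm_le_left aS') (cent_symm ((inf_le_inf_right _ ZT).trans h2))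
    have n1 : K ≤ 𝐍 (S ⊓ 𝐂 Z₀) := norm_inf_cent (KT.trans tS)
      (norm_of_cent' (inf_le_left.trans inf_le_right))
    have h4 := three_subgroup (A := K) (B := A) (C := S) (N := S ⊓ 𝐂 Z₀) n1
      (norm_inf_cent aS' (norm_of_cent' inf_le_right)) (aS.le_norm inf_le_left)
      (by rw [commutator_comm A]; exact (commutator_mono h3 le_rfl).trans (comm_le_left n1))
      ((commutator_mono (comm_le_left (KT.trans tS)) le_rfl).trans h3)
    rw [hK, comm_comm_eq aT c2 (Or.inr nT.sol), commutator_comm] at h4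
    refine eq_bot_mono f (le_inf ZT' (cent_of_comm_le_cent (ZT'.trans tS)
      (coprime_mono c3 ZT' le_rfl) ?_))
    exact (commutator_mono le_rfl (inf_le_left.trans inf_le_left)).trans (h4.trans inf_le_right)
  set U := ⁅S, 𝐙 K⁆
  have US : U ≤ S := comm_le_left (ZT.trans tS)
  have aU : A ≤ 𝐍 U := norm_commutator aS' aZ
  have hw := CF.BG2.wielandt (V := U) (reg_of_prime pA hZ) aZ (center_abel K).sol (aS.mono US).sol
    (sup_le (norm_comm_right _ _) aU) (Nat.Coprime.coprime_dvd_left (card_sup_dvd (Or.inr aZ))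
      (Nat.Coprime.mul_left (coprime_mono c3 ZT US) (coprime_mono c1 le_rfl US)))
  have h5 : U ⊓ 𝐂 (𝐙 K) = ⊥ := aS.comm_inf_cent (ZT.trans tS) (coprime_mono c3 ZT le_rfl)
  rw [h5, eq_bot_mono h5 (inf_le_inf_left _ (cent_anti le_sup_left)), card_bot, one_pow, one_mul,
    mul_one] at hw
  have U1 : U ≠ ⊥ := fun a => Z1 (eq_bot_mono f (le_inf ZT (comm_eq_bot'.mp a)))
  have h6 := ((aS.mono US).dprod_cent_comm aU (coprime_mono c1 le_rfl US)).card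
  have h7 := card_pos' (U ⊓ 𝐂 A)
  refine ⟨𝐙 K, ♯(U ⊓ 𝐂 A), ZT, ?_, hw, ?_⟩
  · by_contra a
    have : ♯(U ⊓ 𝐂 A) = 1 := by omega
    rw [this, one_pow] at hw
    exact U1 (card_eq_one'.mp hw)
  · refine le_trans ?_ (card_le (commutator_mono US le_rfl))
    refine Nat.le_of_mul_le_mul_left (le_of_eq ?_) h7
    rw [h6, hw, ← pow_succ', Nat.sub_add_cancel pA.pos]

theorem frob_arith {q r c D E : ℕ} (hq : q.Prime) (hr : r.Prime) (hD : 1 < D) (h1 : D + 1 = r)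
    (hc : 1 < c) (hE : PiNat {q} (E ^ 2)) (h2 : E ^ 2 = c ^ r) (h3 : c ^ (r - 1) ≤ D ^ 2) :
    False := by
  have hE0 : E ≠ 0 := fun a => by
    rw [a] at h2; exact absurd h2.symm (pow_pos (by omega) r).ne'
  obtain ⟨e, rfl⟩ := (hE.dvd (dvd_pow_self E two_ne_zero)).exists_pow hE0
  obtain ⟨f, rfl⟩ := ((h2 ▸ hE).dvd (dvd_pow_self c hr.ne_zero)).exists_pow (by omega)
  rw [← pow_mul, ← pow_mul] at h2
  have h4 := Nat.pow_right_injective hq.two_le h2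
  have h5 : 2 ∣ f := (Nat.Coprime.dvd_of_dvd_mul_right
    ((Nat.coprime_primes Nat.prime_two hr).mpr (by omega)) (h4 ▸ dvd_mul_left 2 e))
  have h6 : f ≠ 0 := fun a => by simp [a] at hc
  have h7 : 2 ^ 2 ≤ q ^ f := (Nat.pow_le_pow_left hq.two_le 2).trans
    (Nat.pow_le_pow_right hq.pos (Nat.le_of_dvd (by omega) h5))
  have h8 := (Nat.pow_le_pow_left h7 _).trans h3
  rw [← h1, Nat.add_sub_cancel, ← pow_mul, mul_comm, pow_mul] at h8
  exact absurd (Nat.pow_lt_pow_left D.lt_two_pow_self two_ne_zero) (by omega)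

theorem mem_comm_invol {X : Subgroup Γ} (a : Abel X) (o : PiGrp {2}ᶜ X) {f : Γ} (n : f ∈ 𝐍 X)
    (h2 : f * f = 1) {s : Γ} : s ∈ ⁅X, zpowers f⁆ ↔ s ∈ X ∧ f * s * f⁻¹ = s⁻¹ := by
  have hi : f⁻¹ = f := inv_eq_of_mul_eq_one_right h2
  constructor
  · let I : Subgroup Γ :=
      { carrier := {s | s ∈ X ∧ f * s * f⁻¹ = s⁻¹}
        one_mem' := ⟨X.one_mem, by simp⟩
        mul_mem' := fun {x y} hx hy => ⟨X.mul_mem hx.1 hy.1, by
          rw [a.mul_comm hx.1 hy.1, mul_inv_rev, ← hx.2, ← hy.2, a.mul_comm hy.1 hx.1]; group⟩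
        inv_mem' := fun {x} hx => ⟨X.inv_mem hx.1, by rw [← congrArg (·⁻¹) hx.2]; group⟩ }
    suffices ⁅X, zpowers f⁆ ≤ I from fun h => this h
    rw [commutator_le]
    intro x hx g hg
    refine ⟨comm_le_left (zpowers_le.mpr n) (commutator_mem_commutator hx hg), ?_⟩
    have hg' : g = 1 ∨ g = f := by
      obtain ⟨i, rfl⟩ := mem_powers_iff_mem_zpowers.mpr hg
      simp only
      rw [pow_eq_pow_mod i (by rw [pow_two, h2] : f ^ 2 = 1)]
      rcases Nat.mod_two_eq_zero_or_one i with h | h <;> simp [h]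
    rcases hg' with rfl | rfl
    · simp
    · rw [commutatorElement_inv, commutatorElement_def, commutatorElement_def, hi]
      calc _ = g * x * g * x⁻¹ * (g * g) := by group
        _ = _ := by rw [h2, mul_one]
  · rintro ⟨hs, e⟩
    have h1 : s ^ 2 ∈ ⁅X, zpowers f⁆ := by
      have := commutator_mem_commutator hs (mem_zpowers f)
      rwa [commutatorElement_def, mul_assoc, mul_assoc, ← mul_assoc f, ← inv_inv (f * s⁻¹ * f⁻¹),
        show (f * s⁻¹ * f⁻¹)⁻¹ = f * s * f⁻¹ by group, e, inv_inv, ← pow_two] at this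
    refine zpowers_le.mpr h1 (mem_zpowers_pow_iff.mpr ?_)
    exact ((piNat_compl_single_iff_coprime Nat.prime_two).mp (o.elt hs)).symm

theorem card_eq_invol {S X : Subgroup Γ} (a : Abel S) (o : PiGrp {2}ᶜ S) {f : Γ} (n : f ∈ 𝐍 S)
    (h2 : f * f = 1) (hX : X ≤ S) (nX : f ∈ 𝐍 X) :
    ♯X = ♯(X ⊓ 𝐂₁ f) * ♯(X ⊓ ⁅S, zpowers f⁆) := by
  have := ((a.mono hX).dprod_cent_comm (zpowers_le.mpr nX) (PiNat.coprime
    (card_zpowers_pi (n := 1) Nat.prime_two (by rw [pow_one, pow_two, h2])) (o.le hX))).card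
  rw [← this, cent_zpowers]
  congr 3
  ext s
  rw [mem_inf, mem_comm_invol a o n h2, mem_comm_invol (a.mono hX) (o.le hX) nX h2]
  exact ⟨fun h => ⟨h.1, hX h.1, h.2⟩, fun h => ⟨h.1, h.2.2⟩⟩

theorem four_group_false {S P T A : Subgroup Γ} (a : Abel S) (o : PiGrp {2}ᶜ S) (nP : P ≤ 𝐍 S)
    (nA : A ≤ 𝐍 S) (cP : P ≤ 𝐂 A) (pA : (♯A).Prime) (h2 : ♯A ≠ 2) (f : S ⊓ 𝐂 A = ⊥)
    (nT : T ≤ 𝐍 P) (e : ⁅P, T⁆ = P) (P1 : P ≠ ⊥)
    (h : ∀ f ∈ P, f ≠ 1 → f * f = 1 ∧ ♯⁅S, zpowers f⁆ = (2 * ♯A - 1) ^ 2) : False := by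
  obtain ⟨x, hx, x1⟩ := exists_mem_ne_one P1
  have sq : ∀ f ∈ P, f * f = 1 := fun f hf => by
    by_cases h1 : f = 1
    · simp [h1]
    · exact (h f hf h1).1
  have iv : ∀ f ∈ P, f⁻¹ = f := fun f hf => inv_eq_of_mul_eq_one_right (sq f hf)
  have cm : ∀ f ∈ P, ∀ g ∈ P, f * g = g * f := fun f hf g hg => by
    rw [← iv _ (P.mul_mem hf hg), mul_inv_rev, iv f hf, iv g hg]
  by_cases hP : ∀ y ∈ P, y = 1 ∨ y = x
  · apply P1
    rw [← e, comm_eq_bot', cent_comm]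
    intro y hy
    rw [mem_cent]
    intro t ht
    rcases hP y hy with rfl | rfl
    · simp
    · rcases hP _ (conj_mem_of_norm (nT ht) hy) with b | b
      · exact absurd (by simpa using b) x1
      · exact mul_inv_eq_iff_eq_mul.mp b
  push Not at hP
  obtain ⟨y, hy, y1, yx⟩ := hP
  have xy1 : x * y ≠ 1 := fun b => yx (by rw [← iv x hx]; exact eq_inv_of_mul_eq_one_right b)
  have US : ∀ f ∈ P, ⁅S, zpowers f⁆ ≤ S := fun f hf => comm_le_left (zpowers_le.mpr (nP hf))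
  have nU : ∀ f ∈ P, ∀ g ∈ P, g ∈ 𝐍 ⁅S, zpowers f⁆ := fun f hf g hg =>
    norm_commutator nP ((abel_of_forall cm).le_norm (zpowers_le.mpr hf)) hg
  have mem := fun f (hf : f ∈ P) s => mem_comm_invol a o (nP hf) (sq f hf) (s := s)
  have e1 := card_eq_invol a o (nP hy) (sq y hy) (US x hx) (nU x hx y hy)
  have e2 := card_eq_invol a o (nP hx) (sq x hx) (US y hy) (nU y hy x hx)
  have e3 := card_eq_invol a o (nP hx) (sq x hx) (US _ (P.mul_mem hx hy)) (nU _ (P.mul_mem hx hy) x hx)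
  have e4 : ⁅S, zpowers (x * y)⁆ ⊓ 𝐂₁ x = ⁅S, zpowers y⁆ ⊓ 𝐂₁ x := by
    ext s
    rw [mem_inf, mem_inf, mem _ (P.mul_mem hx hy), mem y hy, mem_cent1, cm x hx y hy]
    refine and_congr_left fun c => and_congr_right fun _ => ?_
    rw [show y * x * s * (y * x)⁻¹ = y * (x * s) * x⁻¹ * y⁻¹ by group, ← c]
    simp [mul_assoc]
  have e5 : ⁅S, zpowers (x * y)⁆ ⊓ ⁅S, zpowers x⁆ = ⁅S, zpowers x⁆ ⊓ 𝐂₁ y := by
    ext s
    rw [mem_inf, mem_inf, mem _ (P.mul_mem hx hy), mem x hx, mem_cent1, cm x hx y hy, and_comm]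
    refine and_congr_right fun c => ?_
    rw [show y * x * s * (y * x)⁻¹ = y * (x * s * x⁻¹) * y⁻¹ by group, c.2,
      show y * s⁻¹ * y⁻¹ = (y * s * y⁻¹)⁻¹ by group, inv_inj, mul_inv_eq_iff_eq_mul]
    exact ⟨fun b => b.2.symm, fun b => ⟨c.1, b.symm⟩⟩
  rw [e4, e5, (h _ (P.mul_mem hx hy) xy1).2] at e3
  rw [(h x hx x1).2] at e1
  rw [(h y hy y1).2, inf_comm ⁅S, zpowers y⁆ ⁅S, zpowers x⁆] at e2
  have nz : ∀ f ∈ P, A ≤ 𝐍 ⁅S, zpowers f⁆ := fun f hf =>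
    norm_commutator nA (norm_of_cent' ((zpowers_le.mpr hf).trans cP))
  have hd := (reg_of_prime pA (eq_bot_mono f (inf_le_inf_right _
    (inf_le_left.trans (US x hx))))).card_dvd (norm_inf (nz x hx) (nz y hy))
  generalize ♯(⁅S, zpowers x⁆ ⊓ ⁅S, zpowers y⁆) = u at *
  generalize ♯(⁅S, zpowers x⁆ ⊓ 𝐂₁ y) = v at *
  generalize ♯(⁅S, zpowers y⁆ ⊓ 𝐂₁ x) = w at *
  have r2 := pA.two_le
  have hm : 0 < (2 * ♯A - 1) ^ 2 := pow_pos (by omega) 2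
  have hw : 0 < w := Nat.pos_of_mul_pos_right (e2 ▸ hm)
  have huv : u = v := Nat.eq_of_mul_eq_mul_left hw (e2.symm.trans e3)
  rw [← huv, ← pow_two] at e1
  have hu := Nat.pow_left_injective two_ne_zero e1
  rw [← hu, show 2 * ♯A - 1 - 1 = 2 * ♯A - 2 by omega] at hd
  have := (Nat.dvd_sub_iff_right (by omega) (dvd_mul_left _ 2)).mp hd
  exact h2 ((Nat.prime_dvd_prime_iff_eq pA Nat.prime_two).mp this)

end CF.Fgs1
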