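/-
The two core lemmas: class two groups with scalar commutators.
-/
import Cfsg.Agent.Fgs1.HHGrp
set_option autoImplicit false
set_option linter.unusedSectionVars false

namespace CF.Fgs1
open Module Subgroup CF.BG Polynomial
open scoped commutatorElement

variable {Γ : Type*} [Group Γ] [Finite Γ] {k : Type*} [Field k] {W : Type*} [AddCommGroup W]
  [Module k W]

namespace RepOn
variable {H A B N Q : Subgroup Γ} {ρ : Γ → End k W}

theorem comm_scalz (h : RepOn H ρ) (hN : N ≤ H) (hB : B ≤ H) : ⁅Scalz N ρ, B⁆ ≤ Kr H ρ :=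
  h.kr_of_comm ((scalz_le N ρ).trans hN) hB fun _ hx _ _ => ((h.mem_scalz hN).mp hx).2.comm _

theorem orth (h : RepOn H ρ) (hN : N ≤ H) (hB : B ≤ H)
    (sc : ∀ a ∈ N, ∀ b ∈ N, IsScal (ρ ⁅a, b⁆)) : ⁅⁅N, B⁆, N ⊓ 𝐂 B⁆ ≤ Kr H ρ :=
  three_subgroup (hN.trans h.norm_ker) (hB.trans h.norm_ker)
    (inf_le_left.trans (hN.trans h.norm_ker))
    (by rw [comm_eq_bot'.mpr inf_le_right, commutator_bot_left]; exact bot_le)
    ((commutator_mono ((commutator_mono inf_le_left le_rfl).trans (h.der_le_scalz hN sc))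
      le_rfl).trans (h.comm_scalz hN hB))

theorem rad_comm (h : RepOn H ρ) (hN : N ≤ H) (hB : B ≤ H) (n : B ≤ 𝐍 N) (c : (♯B).Coprime (♯N))
    (s : Sol N) (sc : ∀ a ∈ N, ∀ b ∈ N, IsScal (ρ ⁅a, b⁆)) :
    Rad ⁅N, B⁆ ρ = ⁅N, B⁆ ⊓ Rad N ρ := by
  have hle := comm_le_left n
  apply le_antisymm
  · refine le_inf (rad_le _ _) (h.le_rad hN ((rad_le _ _).trans hle) ?_)
    conv_lhs => arg 2; rw [← comm_sup_inf_cent n c (Or.inr s)]
    exact comm_sup_le' (h.comm_rad (hle.trans hN))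
      ((commutator_mono (rad_le _ _) le_rfl).trans (h.orth hN hB sc))
      (hle.trans (hN.trans h.norm_ker)) (inf_le_left.trans (hN.trans h.norm_ker))
  · exact h.le_rad (hle.trans hN) inf_le_left
      ((commutator_mono inf_le_right hle).trans (h.comm_rad hN))

theorem relIndex_rad_comm (h : RepOn H ρ) (hN : N ≤ H) (hB : B ≤ H) (n : B ≤ 𝐍 N)
    (c : (♯B).Coprime (♯N)) (s : Sol N) (sc : ∀ a ∈ N, ∀ b ∈ N, IsScal (ρ ⁅a, b⁆)) :
    (Rad ⁅N, B⁆ ρ).relIndex ⁅N, B⁆ = (Rad N ρ).relIndex ⁅N, B⁆ := by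
  rw [h.rad_comm hN hB n c s sc, inf_relIndex_left]

theorem rad_le_scalz (h : RepOn H ρ) (hN : N ≤ H) (hA : A ≤ H) (n : A ≤ 𝐍 N) (e : ⁅N, A⁆ = N)
    (c : (♯A).Coprime (♯N)) (s : Sol N) (sc : ∀ a ∈ N, ∀ b ∈ N, IsScal (ρ ⁅a, b⁆))
    (hR : ⁅Rad N ρ, A⁆ ≤ Kr H ρ) : Rad N ρ ≤ Scalz N ρ := by
  have nR := h.norm_rad hN hA n
  rw [← comm_sup_inf_cent nR (coprime_mono c le_rfl (rad_le N ρ)) (Or.inr (s.mono (rad_le N ρ)))]
  refine sup_le (fun g hg => (h.mem_scalz hN).mpr ⟨rad_le N ρ (comm_le_left nR hg), ?_⟩) ?_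
  · rw [h.eq_one hR hg]; exact IsScal.one
  · exact (inf_le_inf_right _ (rad_le N ρ)).trans
      ((CF.Coprime.inf_centralizer_le_commutator A N n c e).trans (h.der_le_scalz hN sc))

theorem sum_conj_nrm (h : RepOn H ρ) (hA : A ≤ H) {u : W} (hu : u ∈ FixV ρ A) {m n : Γ}
    (hm : m ∈ H) (hn : n ∈ H) : nrm ρ A (ρ m⁻¹ (nrm ρ A (ρ n u))) =
      ∑ a ∈ fs A, nrm ρ A (ρ (m⁻¹ * (a * n * a⁻¹)) u) := by
  rw [nrm_apply ρ A (ρ n u), map_sum, map_sum]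
  refine sum_fs_congr fun a ha => ?_
  have h1 := hA ha
  rw [h.mul_apply (H.inv_mem hm) (H.mul_mem (H.mul_mem h1 hn) (H.inv_mem h1)), h.conj h1 hn,
    End.mul_apply, End.mul_apply, hu _ (A.inv_mem ha)]

theorem fixV_of_comm (h : RepOn H ρ) (hN : N ≤ H) (hB : B ≤ H) (e : ⁅N, B⁆ = N)
    {U : Submodule k W} (s : Stab ρ N U) (f : U ≤ FixV ρ B) : U ≤ FixV ρ N := by
  intro w hw g hg
  refine (h.mem_fixer.mp ((?_ : N ≤ Fixer H ρ U) hg)).2 w hw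
  refine e.ge.trans (commutator_le.mpr fun x hx y hy => ?_)
  refine h.mem_fixer.mpr ⟨h.comm_mem (hN hx) (hB hy), fun u hu => ?_⟩
  rw [h.comm_apply (hN hx) (hB hy), f hu _ (B.inv_mem hy), f (s _ (N.inv_mem hx) u hu) y hy,
    h.apply_inv (hN hx)]

end RepOn

/-- the stabilizer of a line -/
abbrev Ln (N : Subgroup Γ) (ρ : Γ → End k W) (u : W) : Subgroup Γ := Stbz N ρ (k ∙ u)

theorem RepOn.mem_ln {N : Subgroup Γ} {ρ : Γ → End k W} (h : RepOn N ρ) {u : W} {g : Γ} :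
    g ∈ Ln N ρ u ↔ g ∈ N ∧ ∃ c : k, c • u = ρ g u := by
  rw [h.mem_stbz, ← Submodule.mem_span_singleton]
  refine and_congr_right fun _ => ⟨fun a => a u (Submodule.mem_span_singleton_self u), fun a w hw => ?_⟩
  obtain ⟨c, rfl⟩ := Submodule.mem_span_singleton.mp hw
  rw [map_smul]; exact Submodule.smul_mem _ _ a

/-- the standard setting -/
structure CS (H N A : Subgroup Γ) (ρ : Γ → End k W) : Prop where
  rep : RepOn H ρ
  hN : N ≤ H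
  hA : A ≤ H
  n : A ≤ 𝐍 N
  pA : (♯A).Prime
  kA : ((♯A : ℕ) : k) ≠ 0
  kN : ((♯N : ℕ) : k) ≠ 0
  c : (♯A).Coprime (♯N)
  sol : Sol N
  sc : ∀ a ∈ N, ∀ b ∈ N, IsScal (ρ ⁅a, b⁆)

namespace CS
variable {H A N N₁ P T : Subgroup Γ} {ρ : Γ → End k W} {Λ : Set W} {Y : Submodule k W} {u : W}

theorem mono (h : CS H N A ρ) (h1 : N₁ ≤ N) (n : A ≤ 𝐍 N₁) : CS H N₁ A ρ :=
  ⟨h.rep, h1.trans h.hN, h.hA, n, h.pA, h.kA, cast_card_ne_zero h.kN h1,
    coprime_mono h.c le_rfl h1, h.sol.mono h1, fun a ha b hb => h.sc a (h1 ha) b (h1 hb)⟩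

theorem comm (h : CS H N A ρ) : CS H ⁅N, A⁆ A ρ := h.mono (comm_le_left h.n) (norm_comm_right N A)

theorem comm_comm (h : CS H N A ρ) : ⁅⁅N, A⁆, A⁆ = ⁅N, A⁆ := comm_comm_eq h.n h.c (Or.inr h.sol)

theorem der_le_ln (h : CS H N A ρ) (u : W) : ⁅N, N⁆ ≤ Ln N ρ u := fun g hg => by
  obtain ⟨hg', c, hc⟩ := (h.rep.mem_scalz h.hN).mp (h.rep.der_le_scalz h.hN h.sc hg)
  exact (h.rep.mono h.hN).mem_ln.mpr ⟨hg', c, (hc u).symm⟩

theorem norm_ln (h : CS H N A ρ) (hu : u ∈ FixV ρ A) : A ≤ 𝐍 (Ln N ρ u) := by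
  rw [le_norm_iff]
  intro a ha g hg
  obtain ⟨hg, c, hc⟩ := (h.rep.mono h.hN).mem_ln.mp hg
  refine (h.rep.mono h.hN).mem_ln.mpr ⟨conj_mem_of_norm (h.n ha) hg, c, ?_⟩
  rw [h.rep.conj (h.hA ha) (h.hN hg), End.mul_apply, End.mul_apply, hu _ (A.inv_mem ha), ← hc,
    map_smul, hu a ha]

theorem der_ln (h : CS H N A ρ) (h0 : u ≠ 0) : ⁅Ln N ρ u, Ln N ρ u⁆ ≤ Kr H ρ := by
  rw [commutator_le]
  intro x hx y hy
  obtain ⟨hx, c, hc⟩ := (h.rep.mono h.hN).mem_ln.mp hx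
  obtain ⟨hy, d, hd⟩ := (h.rep.mono h.hN).mem_ln.mp hy
  refine h.rep.mem_ker.mpr ⟨h.rep.comm_mem (h.hN hx) (h.hN hy), (h.sc x hx y hy).eq_one
    (h.rep.ne_zero (h.hN hy) (h.rep.ne_zero (h.hN hx) h0)) ?_⟩
  have := congrArg (· u) (h.rep.mul_eq_comm (h.hN hx) (h.hN hy))
  simp only [End.mul_apply] at this
  rw [← this, ← hd, map_smul, ← hc, map_smul, ← hd, smul_comm]

theorem nrm_mem (h : CS H N A ρ) (e : ⁅N, A⁆ = N) (s : Sp ρ N A Λ Y) (hu : u ∈ Λ)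
    (hf : u ∈ FixV ρ A) {m : Γ} (hm : m ∈ N) (hX : m ∉ Ln N ρ u) : nrm ρ A (ρ m u) ∈ Y := by
  refine s.hyp _ (s.inv m hm u hu) fun a => hX ?_
  refine CF.Coprime.mem_of_mem_commutator_of_fixed A N _ h.n (h.norm_ln hf) (h.der_le_ln u)
    (h.c.coprime_dvd_right (relIndex_dvd_card _ N)) (e.symm ▸ hm) fun g hg => ?_
  exact (h.rep.mono h.hN).mem_ln.mpr ⟨N.mul_mem (N.inv_mem hm) (conj_mem_of_norm (h.n hg) hm), 1,
    by rw [h.rep.fix_conj h.hA hf (h.hN hm) a hg, one_smul]⟩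

theorem sub_mem (h : CS H N A ρ) (e : ⁅N, A⁆ = N) (s : Sp ρ N A Λ Y) (hu : u ∈ Λ)
    (hf : u ∈ FixV ρ A) {m : Γ} (hm : m ∈ N) (hX : m ∉ Ln N ρ u) :
    nrm ρ A (ρ m⁻¹ (nrm ρ A (ρ m u))) - ((♯A : ℕ) : k) • u ∈ Y := by
  classical
  rw [h.rep.sum_conj_nrm h.hA hf (h.hN hm) (h.hN hm),
    ← Finset.add_sum_erase _ _ (mem_fs.mpr A.one_mem)]
  simp only [one_mul, inv_one, mul_one, inv_mul_cancel, h.rep.one_apply, nrm_of_fix hf,
    add_sub_cancel_left]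
  refine Y.sum_mem fun a ha => ?_
  obtain ⟨a1, ha⟩ := Finset.mem_erase.mp ha
  have ha := mem_fs.mp ha
  refine h.nrm_mem e s hu hf (N.mul_mem (N.inv_mem hm) (conj_mem_of_norm (h.n ha) hm)) fun x => hX ?_
  exact mem_of_fpf h.n (h.norm_ln hf) (h.der_le_ln u) h.c (h.norm_ln hf ha)
    (zpowers_eq_of_prime h.pA ha a1).ge (e.symm ▸ hm) x

theorem fixV_eq_bot (h : CS H N A ρ) (e : ⁅N, A⁆ = N) (s : Sp ρ N A Λ ⊥)
    (hN : ¬ ⁅N, N⁆ ≤ Kr H ρ) : FixV ρ A = ⊥ := by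
  rw [eq_bot_iff]
  intro w hw
  rw [← Submodule.smul_mem_iff _ h.kA, ← nrm_of_fix hw]
  refine s.forall_mem (fun u hu => ?_) w
  by_cases hf : u ∈ FixV ρ A
  swap
  · exact s.hyp u hu hf
  by_cases h0 : u = 0
  · rw [h0, map_zero]; rfl
  obtain ⟨m, hm, hX⟩ := SetLike.not_le_iff_exists.mp fun a => hN ((der_mono a).trans (h.der_ln h0))
  have := h.sub_mem e s hu hf hm hX
  rw [(Submodule.mem_bot k).mp (h.nrm_mem e s hu hf hm hX), map_zero, map_zero, zero_sub,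
    neg_mem_iff] at this
  rwa [nrm_of_fix hf]

theorem fixV_le (h : CS H N A ρ) (e : ⁅N, A⁆ = N) (hP : P ≤ H) (nP : P ≤ 𝐍 N) (cP : P ≤ 𝐂 A)
    (c : (♯P).Coprime (♯A)) (eP : ⁅N, P⁆ = N) (s : Sp ρ N A Λ (FixV ρ P))
    (hN : ¬ ⁅N, N⁆ ≤ Kr H ρ) : FixV ρ A ≤ FixV ρ P := by
  intro w hw
  rw [← Submodule.smul_mem_iff _ h.kA, ← nrm_of_fix hw]
  refine s.forall_mem (fun u hu => ?_) w
  by_cases hf : u ∈ FixV ρ A
  swap
  · exact s.hyp u hu hf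
  by_cases h0 : u = 0
  · rw [h0, map_zero]; exact zero_mem _
  have h1 : ¬ N ≤ Ln N ρ u := fun a => hN ((der_mono a).trans (h.der_ln h0))
  obtain ⟨g, hg, h2⟩ : ∃ g ∈ P, ¬ ⁅N, zpowers g⁆ ≤ Ln N ρ u := by
    by_contra a
    push Not at a
    refine h1 (eP.ge.trans (commutator_le.mpr fun x hx g hg => ?_))
    exact a g hg (commutator_mem_commutator hx (mem_zpowers g))
  obtain ⟨m, hm, hX, h3⟩ := exists_not_agree h.n e h.pA h.c (stbz_le _ _ _) (h.der_le_ln u)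
    (h.norm_ln hf) (nP hg) (cP hg) (c.coprime_dvd_left (orderOf_dvd_card' hg)) h2
  have hm' := conj_mem_of_norm (nP hg) hm
  have h4 : nrm ρ A (ρ (g * m * g⁻¹)⁻¹ (nrm ρ A (ρ m u))) ∈ FixV ρ P := by
    rw [h.rep.sum_conj_nrm h.hA hf (h.hN hm') (h.hN hm)]
    exact Submodule.sum_mem _ fun a ha => h.nrm_mem e s hu hf
      (N.mul_mem (N.inv_mem hm') (conj_mem_of_norm (h.n (mem_fs.mp ha)) hm)) (h3 a (mem_fs.mp ha))
  have h5 : nrm ρ A (ρ m⁻¹ (nrm ρ A (ρ m u))) ∈ FixV ρ P := by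
    have := h.rep.stab_fixV hP hP (le_norm_self P) _ (P.inv_mem hg) _ h4
    rwa [h.rep.apply_nrm h.hA (hP (P.inv_mem hg)) (norm_of_cent cP (P.inv_mem hg)),
      ← h.nrm_mem e s hu hf hm hX g hg, show (g * m * g⁻¹)⁻¹ = g * m⁻¹ * g⁻¹ by group,
      h.rep.conj_apply (hP hg) (h.hN (N.inv_mem hm)), h.rep.inv_apply (hP hg)] at this
  have := (FixV ρ P).sub_mem h5 (h.sub_mem e s hu hf hm hX)
  rwa [sub_sub_cancel, ← nrm_of_fix hf] at this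

variable [IsAlgClosed k] [FiniteDimensional k W] [Nontrivial W]

/-- the Hall-Higman-Shult inequalities for a product of commuting elements -/
theorem semi (h : CS H N A ρ) (e : ⁅N, A⁆ = N) (hR : Rad N ρ ≤ Scalz N ρ) {a f : Γ} (ha : a ∈ A)
    (ha1 : a ≠ 1) {l : ℕ} (hl : l.Prime) (hf : PiElt {l} f) (hlA : l ≠ ♯A) (hlN : PiGrp {l}ᶜ N)
    (fH : f ∈ H) (fN : f ∈ 𝐍 N) (cf : f ∈ 𝐂 A) {t : ℕ}
    (hne : ¬ ⁅N, zpowers (f ^ l ^ t)⁆ ≤ Rad N ρ) :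
    ∃ D, 1 < D ∧ D ^ 2 = (Rad N ρ).relIndex ⁅N, zpowers (f ^ l ^ t)⁆ ∧ ♯A * l ^ (t + 1) ≤ D + 1 ∧
      ∀ g : k[X], g ≠ 0 → aeval (ρ (a * f)) g = 0 → ♯A * l ^ (t + 1) ≤ g.natDegree ∨
        (D + 1 = ♯A * l ^ (t + 1) ∧ g.natDegree + 1 = ♯A * l ^ (t + 1)) := by
  set B := zpowers (f ^ l ^ t)
  have BH : B ≤ H := zpowers_le.mpr (pow_mem fH _)
  have BN : B ≤ 𝐍 N := zpowers_le.mpr (pow_mem fN _)
  have cB : (♯B).Coprime (♯N) := by
    rw [Nat.card_zpowers]; exact PiNat.coprime (PiNat.dvd hf (orderOf_pow_dvd _)) hlN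
  have hle := comm_le_left BN
  have hr := h.rep.rad_comm h.hN BH BN cB h.sol h.sc
  rw [← h.rep.relIndex_rad_comm h.hN BH BN cB h.sol h.sc]
  refine h.rep.hh_semi (hle.trans h.hN) (cast_card_ne_zero h.kN hle)
    (fun x hx y hy => h.sc x (hle hx) y (hle hy))
    (fun z hz => ((h.rep.mem_scalz h.hN).mp (hR (hr.le.trans inf_le_right hz))).2)
    (H.mul_mem (h.hA ha) fH) (mul_mem ?_ ?_) _ (fun m hm hmR i h0 h1 x => ?_)
    (fun x => hne (x.ge.trans (hr.le.trans inf_le_right)))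
  · exact norm_commutator h.n (norm_of_cent' (zpowers_le.mpr (pow_mem cf _))) ha
  · exact norm_commutator (zpowers_le.mpr fN) ((abel_zpowers f).le_norm
      (zpowers_le.mpr (pow_mem (mem_zpowers f) _))) (mem_zpowers f)
  · rw [hr] at hmR x
    exact semireg_mul h.n (h.rep.norm_rad h.hN h.hA h.n) (h.rep.der_le_rad h.hN h.sc) e h.pA h.c ha
      ha1 hl hf hlA hlN fN (h.rep.norm_rad h.hN (zpowers_le.mpr fH) (zpowers_le.mpr fN)
      (mem_zpowers f)) cf hm (fun y => hmR ⟨hm, y⟩) h0 h1 x.2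

theorem index_of_fixV (h : CS H N A ρ) (e : ⁅N, A⁆ = N) (hR : Rad N ρ ≤ Scalz N ρ)
    (hne : Rad N ρ ≠ N) (hf : FixV ρ A = ⊥) :
    ∃ D, 1 < D ∧ D ^ 2 = (Rad N ρ).relIndex N ∧ D + 1 = ♯A := by
  obtain ⟨a, ha, a1⟩ := exists_mem_ne_one (ne_bot_of_prime_card h.pA)
  have hz := zpowers_eq_of_prime h.pA ha a1
  have ho : orderOf a = ♯A := by rw [← Nat.card_zpowers, hz]
  have nR := h.rep.norm_rad h.hN h.hA h.n
  obtain ⟨D, h1, h2, -, h4⟩ := h.rep.hh_semi h.hN h.kN h.sc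
    (fun z hz => ((h.rep.mem_scalz h.hN).mp (hR hz)).2) (h.hA ha) (h.n ha) (♯A)
    (fun m hm hmR i h0 h1 x => hmR (mem_of_fpf h.n nR (h.rep.der_le_rad h.hN h.sc) h.c
      (nR (pow_mem ha i)) (zpowers_eq_of_prime h.pA (pow_mem ha i)
        (pow_ne_one_of_lt_orderOf h0.ne' (ho ▸ h1))).ge (e.symm ▸ hm) x)) hne
  refine ⟨D, h1, h2, ?_⟩
  have h5 := natDegree_geom (k := k) (♯A)
  have h6 := h.pA.pos
  rcases h4 _ (geom_ne_zero h6) (aeval_geom_eq_zero h.rep (h.hA ha)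
    (by rw [← ho, pow_orderOf_eq_one]) (hz.symm ▸ hf)) with x | x
  · omega
  · exact x.1

end CS

/-- the quotient in which `T` acts faithfully on `N / R` -/
theorem faithful_quot {N R T : Subgroup Γ} (hR : R ≤ N) (hd : ⁅N, N⁆ ≤ R) (nT : T ≤ 𝐍 N)
    (nR : T ≤ 𝐍 R) (c : (♯T).Coprime (♯N)) :
    N ≤ 𝐍 (R ⊔ T ⊓ centMod N R) ∧ N ⊓ (R ⊔ T ⊓ centMod N R) = R ∧
      (∀ B, B ≤ 𝐍 N → B ≤ 𝐍 R → B ≤ 𝐍 T → B ≤ 𝐍 (R ⊔ T ⊓ centMod N R)) ∧
      Abel (qt (R ⊔ T ⊓ centMod N R) N) ∧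
      (∀ X, X ≤ T → ⁅N, X⁆ ≤ R ⊔ T ⊓ centMod N R → X ≤ R ⊔ T ⊓ centMod N R) ∧
      ∀ X, X ≤ N → ♯(qt (R ⊔ T ⊓ centMod N R) X) = R.relIndex X := by
  set Z := R ⊔ T ⊓ centMod N R
  have nN := norm_of_der_le hR hd
  have h1 : N ≤ 𝐍 Z := norm_of_comm_le (comm_sup_le ((comm_le_left nN).trans le_sup_left)
    (((commutator_mono inf_le_right le_rfl).trans (comm_centMod_le N R)).trans le_sup_left)
    (norm_of_le le_sup_left) (norm_of_le le_sup_right))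
  have h2 : N ⊓ Z = R := by
    rw [inf_sup_left hR (Or.inr (inf_le_left.trans nR)),
      BG.inf_eq_bot_of_coprime (coprime_mono c inf_le_left le_rfl).symm, sup_bot_eq]
  refine ⟨h1, h2, fun B a b d => norm_sup b (norm_inf d (norm_centMod a b)),
    (abel_qt_iff h1).mpr (hd.trans le_sup_left), fun X hX e => le_trans (le_inf hX ?_) le_sup_right,
    fun X hX => ?_⟩
  · rw [le_centMod, commutator_comm, ← h2]
    exact ⟨h2.symm ▸ hX.trans nR, le_inf (comm_le_left (hX.trans nT)) e⟩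
  · rw [card_qt (hX.trans h1), ← inf_relIndex_left X Z, ← inf_relIndex_left X R, ← h2, ← inf_assoc,
      inf_of_le_left hX]

namespace CS
variable {H A N P T : Subgroup Γ} {ρ : Γ → End k W} {Λ : Set W}
variable [IsAlgClosed k] [FiniteDimensional k W] [Nontrivial W]

theorem core_b (h : CS H N A ρ) {q t : ℕ} (pN : PiGrp {q} N) (hT : T ≤ H) (nT : T ≤ 𝐍 N)
    (aT : A ≤ 𝐍 T) (pT : PiGrp {t} T) (qT : PiGrp {q}ᶜ T) (cT : (♯A).Coprime (♯T))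
    (e : ⁅N, T⁆ = N) (hne : ¬ ⁅N, A⁆ ≤ Rad N ρ) (s : Sp ρ N A Λ ⊥) : False := by
  have h₁ := h.comm
  have e₁ := h.comm_comm
  have le₁ := comm_le_left h.n
  have hr := h.rep.rad_comm h.hN h.hA h.n h.c h.sol h.sc
  have hne₁ : ¬ ⁅N, A⁆ ≤ Rad ⁅N, A⁆ ρ := fun a => hne (a.trans (hr.le.trans inf_le_right))
  have hf := h₁.fixV_eq_bot e₁ (s.mono le₁) fun a => hne₁ (h.rep.le_rad h₁.hN le_rfl a)
  have r₁ := rad_le ⁅N, A⁆ ρ
  have nR₁ := h.rep.norm_rad h₁.hN h.hA h₁.n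
  have b₁ := comm_le_left nR₁
  have hsc := h.rep.rad_le_scalz h₁.hN h.hA h₁.n e₁ h₁.c h₁.sol h₁.sc
    (h.rep.ab_zero (b₁.trans (r₁.trans h₁.hN)) h.hA (norm_comm_right _ _)
      ((commutator_mono b₁ (b₁.trans r₁)).trans (h.rep.comm_rad h₁.hN))
      (comm_comm_eq nR₁ (coprime_mono h₁.c le_rfl r₁) (Or.inr (h₁.sol.mono r₁)))
      (coprime_mono h₁.c le_rfl (b₁.trans r₁)) h.pA h.kA (cast_card_ne_zero h₁.kN (b₁.trans r₁))
      (s.mono (b₁.trans (r₁.trans le₁))))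
  obtain ⟨D, hD, hD2, hD1⟩ := h₁.index_of_fixV e₁ hsc (fun a => hne₁ a.ge) hf
  have N1 : N ≠ ⊥ := fun a => hne (by simp [a])
  have T1 : T ≠ ⊥ := fun a => N1 (by rw [← e, a]; simp)
  have ht := pT.prime T1
  have hq := pN.prime N1
  have cTN : (♯T).Coprime (♯N) := PiNat.coprime' qT pN
  have tq : q ≠ t := fun a => T1 (pT.eq_bot (a ▸ qT))
  have tA : t ≠ ♯A := fun a => T1 (pT.eq_bot ((piNat_compl_single ht).mpr
    (a ▸ (Nat.Prime.coprime_iff_not_dvd h.pA).mp cT)))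
  obtain ⟨a, ha, a1⟩ := exists_mem_ne_one (ne_bot_of_prime_card h.pA)
  have c1 : ⁅⁅N, A⁆, T ⊓ 𝐂 A⁆ ≤ Rad N ρ := by
    rw [commutator_le]
    intro x hx c hc
    refine (hr.le.trans inf_le_right) (by_contra fun y => ?_)
    have nc : c ∈ 𝐍 ⁅N, A⁆ :=
      norm_commutator (inf_le_left.trans nT) (norm_of_cent inf_le_right) hc
    obtain ⟨E, -, hE2, hE1, -⟩ := h₁.semi e₁ hsc ha a1 ht (pT.elt hc.1) tA
      ((pN.le le₁).of_single_ne tq) (hT hc.1) nc hc.2 (t := 0)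
      (fun z => y (z (commutator_mem_commutator hx (by simp))))
    have h1 : E ^ 2 ≤ D ^ 2 := by
      rw [hE2, hD2]
      exact Nat.le_of_dvd (relIndex_pos _ _) (relIndex_dvd_of_norm
        (comm_le_left (zpowers_le.mpr (pow_mem nc _))) (h.rep.norm_rad h₁.hN h₁.hN (le_norm_self _)))
    have h2 := (Nat.pow_le_pow_iff_left two_ne_zero).mp h1
    have h3 := ht.two_le
    rw [zero_add, pow_one] at hE1
    nlinarith
  have nR := h.rep.norm_rad h.hN h.hA h.n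
  have nRT := h.rep.norm_rad h.hN hT nT
  obtain ⟨z1, z2, z3, z4, z5, z6⟩ := faithful_quot (rad_le N ρ) (h.rep.der_le_rad h.hN h.sc) nT nRT cTN
  set Z := Rad N ρ ⊔ T ⊓ centMod N (Rad N ρ)
  have zA := z3 A h.n nR aT
  have zT := z3 T nT nRT (le_norm_self T)
  have cZ : (♯A).Coprime (♯Z) := Nat.Coprime.coprime_dvd_right
    (card_sup_dvd (Or.inr (inf_le_left.trans nRT))) (Nat.Coprime.mul_right
      (coprime_mono h.c le_rfl (rad_le N ρ)) (coprime_mono cT le_rfl inf_le_left))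
  have eA : ♯(qt Z A) = ♯A := card_qt_of_inf_bot zA (BG.inf_eq_bot_of_coprime cZ.symm)
  obtain ⟨T₀, c, h1, h2, h3, h4⟩ := exists_frob_section z4 (pT.nil.qt Z) (qt_norm Z nT)
    (qt_norm Z h.n) (qt_norm Z aT) (eA ▸ h.pA) (coprime_qt Z h.c) (coprime_qt Z cT)
    (coprime_qt Z cTN) (by
      rw [← qt_qp (K := Z) (𝐂 (qt Z N)), ← qt_inf_right _ (le_qp _), qp_cent_eq z1]
      refine qt_of_le (z5 _ inf_le_left ?_)
      rw [commutator_comm]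
      exact (commutator_mono inf_le_right le_rfl).trans (comm_centMod_le N Z))
    (by rw [← qt_comm z1 zT, e])
    (by
      rw [← qt_comm z1 zA, Ne, qt_eq_bot (le₁.trans z1)]
      exact fun a => hne (z2 ▸ le_inf le₁ a))
    (by
      rw [← qt_comm z1 zA, ← qt_inf_cent' zA aT cZ (Or.inl (cyc_of_prime h.pA).sol),
        qt_cent_iff (inf_le_left.trans zT) (le₁.trans z1), commutator_comm]
      exact c1.trans le_sup_left)
  have h5 : qt Z (T ⊓ qp Z T₀) = T₀ := by rw [qt_inf_qp, inf_of_le_right h1]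
  have le₃ : ⁅N, T ⊓ qp Z T₀⁆ ≤ N := comm_le_left (inf_le_left.trans nT)
  rw [← h5, ← qt_comm z1 (inf_le_left.trans zT), z6 _ le₃, eA, ← h.rep.relIndex_rad_comm h.hN
    (inf_le_left.trans hT) (inf_le_left.trans nT) (coprime_mono cTN inf_le_left le_rfl) h.sol
    h.sc] at h3
  rw [← qt_comm z1 zA, z6 _ le₁, eA, ← h.rep.relIndex_rad_comm h.hN h.hA h.n h.c h.sol h.sc,
    ← hD2] at h4
  obtain ⟨E, hE⟩ := (h.rep.mono (le₃.trans h.hN)).relIndex_rad_sq (cast_card_ne_zero h.kN le₃)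
    fun x hx y hy => h.sc x (le₃ hx) y (le₃ hy)
  exact frob_arith hq h.pA hD hD1 h2 (hE ▸ (pN.le le₃).relIndex _) (hE.trans h3) h4

theorem aeval_core (h : CS H N A ρ) {a f : Γ} (ha : a ∈ A) (fH : f ∈ H)
    (cf : f ∈ 𝐂 A) {L : ℕ} (hL : ¬ ♯A ∣ L) (ha1 : a ≠ 1) {μ : k} (hμ : μ ≠ 0)
    (hf : ∀ w ∈ FixV ρ A, ρ f w = w) {w : W} (hw : ρ (f ^ L) w = μ • w) :
    aeval (ρ (a * f)) ((X - 1) * ∑ i ∈ Finset.range (♯A), C (μ⁻¹ ^ i) * X ^ (L * i) : k[X]) w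
      = 0 := by
  have cm : Commute a f := mem_cent.mp cf a ha
  have aH := h.hA ha
  have ho : orderOf a = ♯A := by rw [← Nat.card_zpowers, zpowers_eq_of_prime h.pA ha ha1]
  have h1 : ∀ i, ρ ((f ^ L) ^ i) w = μ ^ i • w := fun i => by
    induction i with
    | zero => rw [pow_zero, pow_zero, one_smul, h.rep.one_apply]
    | succ i ih =>
      rw [pow_succ, h.rep.mul_apply (pow_mem (pow_mem fH L) i) (pow_mem fH L), hw, map_smul, ih,
        smul_smul, pow_succ']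
  have h2 : aeval (ρ (a * f)) (∑ i ∈ Finset.range (♯A), C (μ⁻¹ ^ i) * X ^ (L * i) : k[X]) w =
      ∑ i ∈ Finset.range (♯A), ρ ((a ^ L) ^ i) w := by
    rw [map_sum, LinearMap.sum_apply]
    refine Finset.sum_congr rfl fun i _ => ?_
    rw [map_mul, aeval_C, map_pow (aeval _), aeval_X, End.mul_apply, Module.algebraMap_end_apply,
      ← h.rep.pow (mul_mem aH fH), cm.mul_pow, h.rep.mul_apply (pow_mem aH _) (pow_mem fH _),
      pow_mul f, h1, map_smul, smul_smul, ← mul_pow, inv_mul_cancel₀ hμ, one_pow, one_smul, pow_mul]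
  have h3 : (∑ i ∈ Finset.range (♯A), ρ ((a ^ L) ^ i) w) ∈ FixV ρ A := by
    have hb : a ^ L ≠ 1 := fun x => hL (ho ▸ orderOf_dvd_of_pow_eq_one x)
    intro g hg
    rw [← zpowers_eq_of_prime h.pA (pow_mem ha L) hb] at hg
    refine (h.rep.mem_fixer_single.mp ((zpowers_le (H := Fixer H ρ {_})).mpr ?_ hg)).2
    refine h.rep.mem_fixer_single.mpr ⟨pow_mem aH L, ?_⟩
    have e1 := Finset.sum_range_succ (fun i => ρ ((a ^ L) ^ i) w) (♯A)
    rw [Finset.sum_range_succ', pow_zero, ← pow_mul, mul_comm L, pow_mul, ← ho, pow_orderOf_eq_one,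
      one_pow, add_left_inj, ho] at e1
    rw [map_sum]
    refine Eq.trans (Finset.sum_congr rfl fun i _ => ?_) e1
    rw [pow_succ', h.rep.mul_apply (pow_mem aH L) (pow_mem (pow_mem aH L) i)]
  rw [map_mul, End.mul_apply, h2, map_sub, aeval_X, map_one, LinearMap.sub_apply,
    h.rep.mul_apply aH fH, hf _ h3, h3 a ha, End.one_apply, sub_self]

theorem core_elt (h : CS H N A ρ) (e : ⁅N, A⁆ = N) (hR : Rad N ρ ≤ Scalz N ρ) {f : Γ} {l : ℕ}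
    (hl : l.Prime) (hf : PiElt {l} f) (hlA : l ≠ ♯A) (hlN : PiGrp {l}ᶜ N) (fH : f ∈ H)
    (fN : f ∈ 𝐍 N) (cf : f ∈ 𝐂 A) (hfix : ∀ w ∈ FixV ρ A, ρ f w = w)
    (hne : ¬ ⁅N, zpowers f⁆ ≤ Rad N ρ) : l = 2 ∧ ⁅N, zpowers (f * f)⁆ ≤ Rad N ρ ∧
      (Rad N ρ).relIndex ⁅N, zpowers f⁆ = (2 * ♯A - 1) ^ 2 := by
  classical
  have hex : ∃ t, ⁅N, zpowers (f ^ l ^ t)⁆ ≤ Rad N ρ := by
    obtain ⟨m, hm⟩ := PiNat.exists_pow hf (orderOf_pos f).ne'
    exact ⟨m, by simp [← hm]⟩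
  obtain ⟨t, ht⟩ : ∃ t, Nat.find hex = t + 1 := Nat.exists_eq_succ_of_ne_zero fun a => hne (by
    have := Nat.find_spec hex
    rwa [a, pow_zero, pow_one] at this)
  have h1 := Nat.find_spec hex
  have h2 := Nat.find_min hex (show t < Nat.find hex by omega)
  rw [ht] at h1
  set L := l ^ (t + 1) with hL
  set B := zpowers (f ^ L)
  have BH : B ≤ H := zpowers_le.mpr (pow_mem fH _)
  have BN : B ≤ 𝐍 N := zpowers_le.mpr (pow_mem fN _)
  have h3 : ⁅N, B⁆ ≤ Kr H ρ := by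
    rw [← comm_comm_eq BN (by
      rw [Nat.card_zpowers]; exact PiNat.coprime (PiNat.dvd hf (orderOf_pow_dvd _)) hlN)
      (Or.inr h.sol)]
    exact (commutator_mono (h1.trans hR) le_rfl).trans (h.rep.comm_scalz h.hN BH)
  obtain ⟨w, -, w0, ξ, hw⟩ := h.rep.exists_wt BH (h.rep.comm_of_kr BH BH
    (by rw [der_eq_bot.mpr (abel_zpowers _)]; exact bot_le)) (U := ⊤) top_ne_bot
    fun _ _ _ _ => trivial
  have hst : ∀ X, X ≤ H → ⁅X, B⁆ ≤ Kr H ρ → X ≤ Stbz H ρ (Wt ρ B ξ) := fun X hX c =>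
    h.rep.le_stbz hX (RepOn.stab_wt_of_comm (h.rep.comm_of_kr hX BH c))
  have sN := hst N h.hN h3
  have sA := hst A h.hA (by
    rw [comm_eq_bot'.mpr (zpowers_le.mpr (pow_mem cf _))]; exact bot_le)
  have sf := hst (zpowers f) (zpowers_le.mpr fH) (by
    rw [comm_eq_bot.mpr ((abel_zpowers f).cent le_rfl (zpowers_le.mpr (pow_mem (mem_zpowers f) _)))]
    exact bot_le) (mem_zpowers f)
  obtain ⟨σ, hσ, eσ⟩ := (h.rep.mono (stbz_le H ρ _)).restrict (h.rep.stab_stbz (Wt ρ B ξ))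
  have U0 : Wt ρ B ξ ≠ ⊥ := fun a => w0 (by simpa [a] using hw)
  haveI : Nontrivial (Wt ρ B ξ) := Submodule.nontrivial_iff_ne_bot.mpr U0
  have hrad := h.rep.rad_restrict h.hN h.sc U0 (hσ.mono sN) fun g hg => eσ g (sN hg)
  have h' : CS (Stbz H ρ (Wt ρ B ξ)) N A σ := ⟨hσ, sN, sA, h.n, h.pA, h.kA, h.kN, h.c, h.sol,
    fun a ha b hb => (h.sc a ha b hb).restrict (eσ _ (hσ.comm_mem (sN ha) (sN hb)))⟩
  obtain ⟨a, ha, a1⟩ := exists_mem_ne_one (ne_bot_of_prime_card h.pA)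
  obtain ⟨D, -, hD2, -, hD⟩ := h'.semi e (fun z hz => (hσ.mem_scalz sN).mpr ⟨rad_le _ _ hz,
    ((h.rep.mem_scalz h.hN).mp (hR (hrad ▸ hz))).2.restrict (eσ z (sN (rad_le _ _ hz)))⟩) ha a1 hl
    hf hlA hlN sf fN cf (t := t) (by rwa [hrad])
  have hμ := (h.rep.isChar BH hw w0).ne_zero (mem_zpowers (f ^ L))
  have hAL : ¬ ♯A ∣ L := fun x => hlA
    ((Nat.prime_dvd_prime_iff_eq h.pA hl).mp (h.pA.dvd_of_dvd_pow x)).symm
  have r2 := h.pA.two_le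
  have L2 : l ≤ L := Nat.le_self_pow (Nat.succ_ne_zero t) l
  have l2 := hl.two_le
  set S : k[X] := ∑ i ∈ Finset.range (♯A), C ((ξ (f ^ L))⁻¹ ^ i) * X ^ (L * i) with hS
  have S0 : S ≠ 0 := fun x => by
    have := congrArg (eval 0) x
    rw [hS, eval_finset_sum, Finset.sum_eq_single 0] at this
    · simp at this
    · intro i _ hi
      simp [hi, show L ≠ 0 by omega]
    · intro x; exact absurd (Finset.mem_range.mpr (by omega)) x
  have dS : S.natDegree ≤ L * (♯A - 1) := natDegree_sum_le_of_forall_le _ _ fun i hi =>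
    (natDegree_C_mul_X_pow_le _ _).trans (Nat.mul_le_mul_left _ (by
      have := Finset.mem_range.mp hi; omega))
  have dg : ((X - 1) * S).natDegree ≤ 1 + L * (♯A - 1) :=
    natDegree_mul_le.trans (Nat.add_le_add (natDegree_X_sub_C_le 1) dS)
  obtain ⟨r, hr⟩ : ∃ r, ♯A = r + 1 := ⟨♯A - 1, by omega⟩
  have := hD _ (mul_ne_zero (X_sub_C_ne_zero 1) S0) (by
    ext u
    rw [aeval_restrict (eσ _ (mul_mem (sA ha) sf))]
    exact h.aeval_core ha fH cf hAL a1 hμ hfix (u.2 _ (mem_zpowers _)))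
  rw [← hL, hr] at this
  rw [hr, Nat.add_sub_cancel] at dg
  simp only [map_one] at this
  have hL2 : L = 2 := by rcases this with x | x <;> nlinarith
  have hl2 : l = 2 := by omega
  have ht0 : t = 0 := by
    rw [hL, hl2] at hL2
    simpa using Nat.pow_right_injective le_rfl (hL2.trans (pow_one 2).symm)
  refine ⟨hl2, by simpa [B, hL2, pow_two] using h1, ?_⟩
  rw [hrad, ht0, pow_zero, pow_one] at hD2
  rw [← hD2, hr]
  rw [hL2] at this dg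
  congr 1
  omega

theorem core_c (h : CS H N A ρ) (e : ⁅N, A⁆ = N) {l : ℕ} (hP : P ≤ H) (nP : P ≤ 𝐍 N)
    (cP : P ≤ 𝐂 A) (pP : PiGrp {l} P) (lN : PiGrp {l}ᶜ N) (c : (♯P).Coprime (♯A))
    (eP : ⁅N, P⁆ = N) (hT : T ≤ H) (tN : T ≤ 𝐍 N) (tP : T ≤ 𝐍 P) (eT : ⁅P, T⁆ = P)
    (hN : FixV ρ N = ⊥) (s : Sp ρ N A Λ (FixV ρ P)) : False := by
  have r₁ := rad_le N ρ
  have nR := h.rep.norm_rad h.hN h.hA h.n
  have nRP := h.rep.norm_rad h.hN hP nP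
  have b₁ := comm_le_left nR
  have bN := b₁.trans r₁
  have cB := (commutator_mono b₁ bN).trans (h.rep.comm_rad h.hN)
  have hB : ⁅Rad N ρ, A⁆ ≤ Kr H ρ := by
    refine h.rep.le_kr_of_wt (bN.trans h.hN) (cast_card_ne_zero h.kN bN) cB
      fun ξ w hw b hb h1 => ?_
    have h2 := h.rep.ab_fix (bN.trans h.hN) h.hA (norm_comm_right _ _) cB
      (comm_comm_eq nR (coprime_mono h.c le_rfl r₁) (Or.inr (h.sol.mono r₁)))
      (coprime_mono h.c le_rfl bN) h.pA h.kA (cast_card_ne_zero h.kN bN) hP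
      (norm_commutator nRP (norm_of_cent cP)) cP c (s.mono bN) hb h1
    have h3 : Stab ρ N (Wt ρ ⁅Rad N ρ, A⁆ ξ) := RepOn.stab_wt_of_comm fun x hx y hy =>
      (((h.rep.mem_rad h.hN).mp (b₁ hy)).2 x hx).symm
    exact (Submodule.eq_bot_iff _).mp hN w (h.rep.fixV_of_comm h.hN hP eP h3 h2 hw)
  have hsc := h.rep.rad_le_scalz h.hN h.hA h.n e h.c h.sol h.sc hB
  have hne : ¬ N ≤ Rad N ρ := fun a => by
    obtain ⟨z, hz, hz1⟩ := exists_ne_one_of_fixV hN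
    exact hz1 (h.rep.eq_one (e.ge.trans ((commutator_mono a le_rfl).trans hB)) hz)
  have hfix := h.fixV_le e hP nP cP c eP s fun a => hne (h.rep.le_rad h.hN le_rfl a)
  have P1 : P ≠ ⊥ := fun a => hne (by rw [← eP, a]; simp)
  have hl := pP.prime P1
  have lA : l ≠ ♯A := fun a => P1 (pP.eq_bot ((piNat_compl_single hl).mpr
    (a ▸ (Nat.Prime.coprime_iff_not_dvd h.pA).mp c.symm)))
  have key := fun f (hf : f ∈ P) => h.core_elt e hsc hl (pP.elt hf) lA lN (hP hf) (nP hf) (cP hf)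
    fun w hw => hfix hw f hf
  have cPN : (♯P).Coprime (♯N) := PiNat.coprime pP lN
  have hl2 : l = 2 := by
    by_contra a
    refine hne (eP.ge.trans (commutator_le.mpr fun x hx g hg => ?_))
    exact (by_contra fun y => a (key g hg y).1 : ⁅N, zpowers g⁆ ≤ Rad N ρ)
      (commutator_mem_commutator hx (mem_zpowers g))
  subst hl2
  obtain ⟨z1, z2, z3, z4, z5, z6⟩ := faithful_quot r₁ (h.rep.der_le_rad h.hN h.sc) nP nRP cPN
  set Z := Rad N ρ ⊔ P ⊓ centMod N (Rad N ρ)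
  have zA := z3 A h.n nR (norm_of_cent' cP)
  have zP := z3 P nP nRP (le_norm_self P)
  have zT := z3 T tN (h.rep.norm_rad h.hN hT tN) tP
  have cZ : (♯A).Coprime (♯Z) := Nat.Coprime.coprime_dvd_right
    (card_sup_dvd (Or.inr (inf_le_left.trans nRP))) (Nat.Coprime.mul_right
      (coprime_mono h.c le_rfl r₁) (coprime_mono c.symm le_rfl inf_le_left))
  have eA : ♯(qt Z A) = ♯A := card_qt_of_inf_bot zA (BG.inf_eq_bot_of_coprime cZ.symm)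
  refine four_group_false z4 (lN.qt Z) (qt_norm Z nP) (qt_norm Z h.n) (qt_cent Z cP) (eA ▸ h.pA)
    (eA ▸ lA.symm) ?_ (qt_norm Z tP) (by rw [← qt_comm zP zT, eT]) ?_ fun f hf f1 => ?_
  · have := z4.comm_inf_cent (qt_norm Z h.n) (coprime_qt Z h.c)
    rwa [← qt_comm z1 zA, e] at this
  · rw [Ne, qt_eq_bot zP]
    exact fun a => hne (z2 ▸ le_inf le_rfl
      (eP.ge.trans ((commutator_mono le_rfl a).trans (comm_le_right z1))))
  · replace hf := mem_qt.mp hf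
    obtain ⟨f, hf, hf', rfl⟩ := hf
    have lf := zpowers_le.mpr hf
    obtain ⟨-, k1, k2⟩ := key f hf fun a =>
      f1 (qe_of_mem (z5 _ lf (a.trans le_sup_left) (mem_zpowers f)))
    refine ⟨?_, ?_⟩
    · rw [← qe_mul hf' hf']
      exact qe_of_mem (z5 _ (zpowers_le.mpr (mul_mem hf hf)) (k1.trans le_sup_left) (mem_zpowers _))
    · rw [← qt_zpowers hf', ← qt_comm z1 (lf.trans zP), z6 _ (comm_le_left (lf.trans nP)), k2, eA]

end CS
end CF.Fgs1
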