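/-
Representations attached to consecutive levels of a tower.
-/
import Cfsg.Agent.Fgs1.HHCore
set_option autoImplicit false
set_option linter.unusedSectionVars false

namespace CF.Fgs1
open Module Subgroup CF.BG Polynomial
open scoped commutatorElement

variable {Γ : Type*} [Group Γ] [Finite Γ] {k : Type*} [Field k] {W : Type*} [AddCommGroup W]
  [Module k W]

theorem IsChar.le_stabCh {M X : Subgroup Γ} {ξ : Γ → k} (c : IsChar M ξ) (n : X ≤ 𝐍 M)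
    (h : ∀ b ∈ ⁅M, X⁆, ξ b = 1) : X ≤ StabCh M ξ := fun g hg =>
  c.mem_stabCh_of_comm (n hg) fun b hb => h _ (by
    rw [commutator_comm]; exact commutator_mem_commutator (X.inv_mem hg) hb)

theorem RepOn.le_stabCh {H M X : Subgroup Γ} {ρ : Γ → End k W} (h : RepOn H ρ) (hM : M ≤ H)
    (n : X ≤ 𝐍 M) (e : ⁅M, X⁆ ≤ Kr H ρ) {ξ : Γ → k} {w : W} (hw : w ∈ Wt ρ M ξ) (h0 : w ≠ 0) :
    X ≤ StabCh M ξ :=
  (h.isChar hM hw h0).le_stabCh n fun _ hb =>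
    wt_eq_one hw h0 (comm_le_left n hb) (by rw [h.eq_one e hb]; rfl)

theorem RepOn.comm_le_kr_of_sp [IsAlgClosed k] [FiniteDimensional k W] {H N A P M : Subgroup Γ}
    {ρ : Γ → End k W} {Λ : Set W} (h : RepOn H ρ) (hN : N ≤ H) (hA : A ≤ H) (hP : P ≤ H)
    (hM : M ≤ Rad N ρ) (nM : A ≤ 𝐍 M) (nMP : P ≤ 𝐍 M) (cP : P ≤ 𝐂 A) (pA : (♯A).Prime)
    (kA : ((♯A : ℕ) : k) ≠ 0) (kN : ((♯N : ℕ) : k) ≠ 0) (c : (♯A).Coprime (♯N)) (sol : Sol N)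
    (c' : (♯P).Coprime (♯A)) (eP : ⁅N, P⁆ = N) (f : FixV ρ N = ⊥) (s : Sp ρ N A Λ (FixV ρ P)) :
    ⁅M, A⁆ ≤ Kr H ρ := by
  have r₁ := hM.trans (rad_le N ρ)
  have b₁ := comm_le_left nM
  have bN := b₁.trans r₁
  have cB := (commutator_mono (b₁.trans hM) bN).trans (h.comm_rad hN)
  refine h.le_kr_of_wt (bN.trans hN) (cast_card_ne_zero kN bN) cB fun ξ w hw b hb h1 => ?_
  have h2 := h.ab_fix (bN.trans hN) hA (norm_comm_right _ _) cB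
    (comm_comm_eq nM (coprime_mono c le_rfl r₁) (Or.inr (sol.mono r₁)))
    (coprime_mono c le_rfl bN) pA kA (cast_card_ne_zero kN bN) hP
    (norm_commutator nMP (norm_of_cent cP)) cP c' (s.mono bN) hb h1
  have h3 : Stab ρ N (Wt ρ ⁅M, A⁆ ξ) := RepOn.stab_wt_of_comm fun x hx y hy =>
    (((h.mem_rad hN).mp (hM (b₁ hy))).2 x hx).symm
  exact (Submodule.eq_bot_iff _).mp f w (h.fixV_of_comm hN hP eP h3 h2 hw)

/-- a level together with a representation coming from the next level -/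
structure RS (K H T P : Subgroup Γ) (p : ℕ) (A : Subgroup Γ) (ρ : Γ → End k W) : Prop where
  lv : Lv K H T P p
  rep : RepOn (H ⊔ P) ρ
  kr : P ⊓ K ≤ Kr (H ⊔ P) ρ
  dich : ∀ Z, Z ≤ H ⊔ P → H ⊔ P ≤ 𝐍 Z → Z ≤ Kr (H ⊔ P) ρ ∨ FixV ρ Z = ⊥
  fix : FixV ρ P = ⊥
  hA : A ≤ H
  pA : (♯A).Prime
  kA : ((♯A : ℕ) : k) ≠ 0
  kP : ((♯P : ℕ) : k) ≠ 0
  c : (♯A).Coprime (♯P)

namespace RS
variable {K H T P A F : Subgroup Γ} {p : ℕ} {ρ : Γ → End k W} {Λ : Set W}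

theorem hA' (h : RS K H T P p A ρ) : A ≤ H ⊔ P := h.hA.trans le_sup_left
theorem hT (h : RS K H T P p A ρ) : T ≤ H ⊔ P := h.lv.TH.trans le_sup_left
theorem hM (h : RS K H T P p A ρ) : LM K T P ≤ H ⊔ P := (LM_le K T P).trans le_sup_right
theorem nA (h : RS K H T P p A ρ) : A ≤ 𝐍 P := h.hA.trans h.lv.nP
theorem nAM (h : RS K H T P p A ρ) : A ≤ 𝐍 (LM K T P) := h.hA.trans h.lv.nM
theorem kM (h : RS K H T P p A ρ) : ((♯(LM K T P) : ℕ) : k) ≠ 0 :=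
  cast_card_ne_zero h.kP (LM_le K T P)
theorem MP (h : RS K H T P p A ρ) : ⁅LM K T P, P⁆ ≤ Kr (H ⊔ P) ρ := h.lv.comm_LM_P.trans h.kr
theorem MT (h : RS K H T P p A ρ) : ⁅LM K T P, T⁆ ≤ Kr (H ⊔ P) ρ := h.lv.comm_LM_T.trans h.kr
theorem MM (h : RS K H T P p A ρ) : ⁅LM K T P, LM K T P⁆ ≤ Kr (H ⊔ P) ρ :=
  (commutator_mono le_rfl (LM_le K T P)).trans h.MP
theorem M_le_rad (h : RS K H T P p A ρ) : LM K T P ≤ Rad P ρ :=
  h.rep.le_rad le_sup_right (LM_le K T P) h.MP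

theorem inf_kr [Nontrivial W] (h : RS K H T P p A ρ) : P ⊓ Kr (H ⊔ P) ρ ≤ LM K T P := by
  refine h.lv.le_of_ne inf_le_left (norm_inf h.lv.nP (le_sup_left.trans h.rep.norm_ker)) fun e => ?_
  obtain ⟨z, hz, h1⟩ := exists_ne_one_of_fixV h.fix
  exact h1 (h.rep.eq_one (e.ge.trans inf_le_right) hz)

theorem P_le (h : RS K H T P p A ρ) {ξ : Γ → k} {w : W} (hw : w ∈ Wt ρ (LM K T P) ξ) (h0 : w ≠ 0) :
    P ≤ StabCh (LM K T P) ξ := h.rep.le_stabCh h.hM h.lv.nMP h.MP hw h0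

theorem T_le (h : RS K H T P p A ρ) {ξ : Γ → k} {w : W} (hw : w ∈ Wt ρ (LM K T P) ξ) (h0 : w ≠ 0) :
    T ≤ StabCh (LM K T P) ξ := h.rep.le_stabCh h.hM (h.lv.TH.trans h.lv.nM) h.MT hw h0

theorem restrict (h : RS K H T P p A ρ) {ξ : Γ → k} {w : W} (hw : w ∈ Wt ρ (LM K T P) ξ)
    (h0 : w ≠ 0) (hA : A ≤ StabCh (LM K T P) ξ) (hF : F ≤ (H ⊔ P) ⊓ StabCh (LM K T P) ξ)
    (s : Sp ρ P A Λ (FixV ρ F)) :
    ∃ (σ : Γ → End k (Wt ρ (LM K T P) ξ)) (Λ' : Set (Wt ρ (LM K T P) ξ)),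
      CS ((H ⊔ P) ⊓ StabCh (LM K T P) ξ) P A σ ∧ Sp σ P A Λ' (FixV σ F) ∧
      (FixV ρ F = ⊥ → FixV σ F = ⊥) ∧ FixV σ P = ⊥ ∧
      ∀ n, n ∈ Rad P σ ↔ n ∈ P ∧ ∀ m ∈ P, ξ ⁅n, m⁆ = 1 := by
  have hP := le_inf (le_sup_right : P ≤ H ⊔ P) (h.P_le hw h0)
  obtain ⟨σ, Λ', hσ, e, s', f⟩ := h.rep.sp_restrict h.hM h.kM (h.rep.isChar h.hM hw h0)
    inf_le_left inf_le_right hP (le_inf h.hA' hA) hF s
  have hsc : ∀ z ∈ LM K T P, ∀ v, σ z v = ξ z • v := fun z hz v =>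
    Subtype.ext (by rw [e z (hP (LM_le K T P hz)), v.2 z hz]; rfl)
  have hc : ∀ a ∈ P, ∀ b ∈ P, ⁅a, b⁆ ∈ LM K T P := fun a ha b hb =>
    h.lv.der_le (commutator_mem_commutator ha hb)
  refine ⟨σ, Λ', ⟨hσ, hP, le_inf h.hA' hA, h.nA, h.pA, h.kA, h.kP, h.c, h.lv.pi.sol,
    fun a ha b hb => ⟨_, hsc _ (hc a ha b hb)⟩⟩, s', f, ?_, fun n => ?_⟩
  · rw [eq_bot_iff]
    intro u hu
    exact Subtype.ext ((Submodule.eq_bot_iff _).mp h.fix _ fun g hg => by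
      rw [← e g (hP hg), hu g hg])
  · rw [hσ.mem_rad' hP]
    refine and_congr_right fun hn => forall₂_congr fun m hm => ⟨fun a => ?_, fun a => ?_⟩
    · refine wt_eq_one hw h0 (hc n hn m hm) ?_
      have := e _ (hP (LM_le K T P (hc n hn m hm))) ⟨w, hw⟩
      rw [a] at this; exact this.symm
    · ext v
      rw [hsc _ (hc n hn m hm), a, one_smul]; rfl

variable [IsAlgClosed k] [FiniteDimensional k W] [Nontrivial W]

theorem exists_wt_comm (h : RS K H T P p A ρ) {n m : Γ} (hn : n ∈ P) (hm : m ∈ P)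
    (h1 : ρ ⁅n, m⁆ ≠ 1) : ∃ ξ, ∃ w ∈ Wt ρ (LM K T P) ξ, w ≠ 0 ∧ ξ ⁅n, m⁆ ≠ 1 := by
  obtain ⟨ξ, -, w, hw, e⟩ := h.rep.exists_wt_moved h.hM h.kM (h.rep.comm_of_kr h.hM h.hM h.MM) h1
  refine ⟨ξ, w, hw, fun a => e (by rw [a, map_zero]), fun a => e ?_⟩
  rw [hw _ (h.lv.der_le (commutator_mem_commutator hn hm)), a, one_smul]

theorem ab_zero (h : RS K H T P p A ρ) {B : Subgroup Γ} (hB : B ≤ P) (n : A ≤ 𝐍 B)
    (hc : ⁅B, A⁆ ≤ Rad P ρ) (s : Sp ρ P A Λ ⊥) : ⁅B, A⁆ ≤ Kr (H ⊔ P) ρ :=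
  have b := (comm_le_left n).trans hB
  h.rep.ab_zero (b.trans le_sup_right) h.hA' (norm_comm_right _ _)
    ((commutator_mono hc b).trans (h.rep.comm_rad le_sup_right))
    (comm_comm_eq n (coprime_mono h.c le_rfl hB) (Or.inr (h.lv.pi.sol.mono hB)))
    (coprime_mono h.c le_rfl b) h.pA h.kA (cast_card_ne_zero h.kP b) (s.mono b)

theorem ab_fix (h : RS K H T P p A ρ) {B : Subgroup Γ} (hB : B ≤ P) (n : A ≤ 𝐍 B)
    (hc : ⁅B, A⁆ ≤ Rad P ρ) (hF : F ≤ P ⊓ 𝐂 A) (nF : F ≤ 𝐍 B) (s : Sp ρ P A Λ (FixV ρ F))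
    {ξ : Γ → k} {b : Γ} (hb : b ∈ ⁅B, A⁆) (h1 : ξ b ≠ 1) : Wt ρ B ξ ≤ FixV ρ F :=
  have b' := (comm_le_left n).trans hB
  (wt_anti ξ (comm_le_left n)).trans (h.rep.ab_fix (b'.trans le_sup_right) h.hA'
    (norm_comm_right _ _) ((commutator_mono hc b').trans (h.rep.comm_rad le_sup_right))
    (comm_comm_eq n (coprime_mono h.c le_rfl hB) (Or.inr (h.lv.pi.sol.mono hB)))
    (coprime_mono h.c le_rfl b') h.pA h.kA (cast_card_ne_zero h.kP b')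
    (hF.trans (inf_le_left.trans le_sup_right))
    (norm_commutator nF (norm_of_cent (hF.trans inf_le_right))) (hF.trans inf_le_right)
    (coprime_mono h.c le_rfl (hF.trans inf_le_left)).symm (s.mono b') hb h1)

theorem zero (h : RS K H T P p A ρ) {t : ℕ} (pT : PiGrp {t} T) (cT : (♯A).Coprime (♯T))
    (hne : ¬ ⁅P, A⁆ ≤ LM K T P) (s : Sp ρ P A Λ ⊥) : False := by
  by_cases hR : ⁅P, A⁆ ≤ Rad P ρ
  · exact hne ((le_inf (comm_le_left h.nA) (h.ab_zero le_rfl h.nA hR s)).trans h.inf_kr)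
  have hM := h.ab_zero (LM_le K T P) h.nAM ((comm_le_left h.nAM).trans h.M_le_rad) s
  obtain ⟨n, hn, hnR⟩ := SetLike.not_le_iff_exists.mp hR
  have hn' := comm_le_left h.nA hn
  rw [h.rep.mem_rad' le_sup_right] at hnR
  push Not at hnR
  obtain ⟨m, hm, h1⟩ := hnR hn'
  obtain ⟨ξ, w, hw, h0, h2⟩ := h.exists_wt_comm hn' hm h1
  obtain ⟨σ, Λ', cs, s', -, f, r⟩ := h.restrict hw h0 (h.rep.le_stabCh h.hM h.nAM hM hw h0)
    (le_inf le_sup_right (h.P_le hw h0)) (s.mono' bot_le)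
  haveI : Nontrivial (Wt ρ (LM K T P) ξ) :=
    Submodule.nontrivial_iff_ne_bot.mpr fun a => h0 (by simpa [a] using hw)
  exact cs.core_b h.lv.pi (le_inf h.hT (h.T_le hw h0)) h.lv.nTP (h.hA.trans h.lv.nT) pT h.lv.piT cT
    h.lv.comm_eq (fun a => h2 (((r n).mp (a hn)).2 m hm)) (f ▸ s')

end RS

/-- the inductive property -/
def Lam (K H T P A F : Subgroup Γ) : Prop :=
  ∀ 𝒯 : Set (Subgroup Γ), 𝒯.Nonempty → (∀ R ∈ 𝒯, LM K T P ≤ R ∧ R < P) →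
    (∀ g ∈ H, ∀ R ∈ 𝒯, cj g R ∈ 𝒯) → ∃ R ∈ 𝒯, ¬ ⁅P, A⁆ ≤ R ∧ ¬ F ≤ R

namespace RS
variable {K H T P A F : Subgroup Γ} {p : ℕ} {ρ : Γ → End k W} {Λ : Set W}
variable [IsAlgClosed k] [FiniteDimensional k W] [Nontrivial W]

theorem M_le_kr (h : RS K H T P p A ρ) (hc : ⁅P, P⁆ ≤ Kr (H ⊔ P) ρ) :
    LM K T P ≤ Kr (H ⊔ P) ρ := fun m hm =>
  CF.Coprime.mem_of_mem_commutator_of_fixed T P _ h.lv.nTP (h.hT.trans h.rep.norm_ker) hc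
    (h.lv.cop.coprime_dvd_right (relIndex_dvd_card _ P)) (h.lv.comm_eq.symm ▸ LM_le K T P hm)
    fun a ha => h.MT (by
      have := commutator_mem_commutator ((LM K T P).inv_mem hm) ha
      rwa [commutatorElement_def, inv_inv, mul_assoc, mul_assoc, ← mul_assoc a] at this)

theorem step_abel (h : RS K H T P p A ρ) (hc : ⁅P, P⁆ ≤ Kr (H ⊔ P) ρ) (l : Lam K H T P A F)
    (hF : F ≤ P ⊓ 𝐂 A) (s : Sp ρ P A Λ (FixV ρ F)) : False := by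
  have key : ∀ (ξ : Γ → k) (w : W) (hw : w ∈ Wt ρ P ξ) (h0 : w ≠ 0) (R : Subgroup Γ),
      (∀ n, n ∈ R ↔ n ∈ P ∧ ξ n = 1) → LM K T P ≤ R ∧ R < P := by
    intro ξ w hw h0 R hR
    refine ⟨fun m hm => (hR m).mpr ⟨LM_le K T P hm, wt_eq_one hw h0 (LM_le K T P hm) (by
      rw [h.rep.eq_one (h.M_le_kr hc) hm]; rfl)⟩,
      lt_of_le_of_ne (fun n hn => ((hR n).mp hn).1) fun e => h0 ?_⟩
    refine (Submodule.eq_bot_iff _).mp h.fix _ fun g hg => ?_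
    rw [hw g hg, ((hR g).mp (e ▸ hg)).2, one_smul]
  obtain ⟨R, ⟨ξ, w, hw, h0, hR⟩, h1, h2⟩ := l
    {R | ∃ ξ : Γ → k, ∃ w ∈ Wt ρ P ξ, w ≠ 0 ∧ ∀ n, n ∈ R ↔ n ∈ P ∧ ξ n = 1} (by
      obtain ⟨w, -, h0, ξ, hw⟩ := h.rep.exists_wt le_sup_right
        (h.rep.comm_of_kr le_sup_right le_sup_right hc) (U := ⊤) top_ne_bot fun _ _ _ _ => trivial
      exact ⟨(h.rep.isChar le_sup_right hw h0).ker, ξ, w, hw, h0, fun _ => Iff.rfl⟩)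
    (by rintro R ⟨ξ, w, hw, h0, hR⟩; exact key ξ w hw h0 R hR) (by
      rintro g hg R ⟨ξ, w, hw, h0, hR⟩
      have hg' : g ∈ H ⊔ P := mem_sup_left hg
      refine ⟨cjf g ξ, _, h.rep.map_wt le_sup_right hg' (h.lv.nP hg) hw, h.rep.ne_zero hg' h0,
        fun n => ?_⟩
      rw [mem_cj, hR, ← mem_cj, cj_of_norm (h.lv.nP hg)]; rfl)
  obtain ⟨b, hb, hbR⟩ := SetLike.not_le_iff_exists.mp h1
  have h3 := h.ab_fix le_rfl h.nA (h.rep.le_rad le_sup_right (comm_le_left h.nA)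
    ((commutator_mono (comm_le_left h.nA) le_rfl).trans hc)) hF (norm_of_le (hF.trans inf_le_left))
    s hb (fun a => hbR ((hR b).mpr ⟨comm_le_left h.nA hb, a⟩)) hw
  exact h2 fun f hf => (hR f).mpr ⟨(hF hf).1, wt_eq_one hw h0 (hF hf).1 (h3 f hf)⟩

theorem step (h : RS K H T P p A ρ) {t : ℕ} (pT : PiGrp {t} T) (cT : (♯A).Coprime (♯T))
    (l : Lam K H T P A F) (hF : F ≤ P ⊓ 𝐂 A) (nF : P ⊓ 𝐂 A ≤ 𝐍 F) (s : Sp ρ P A Λ (FixV ρ F)) :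
    False := by
  by_cases hc : ⁅P, P⁆ ≤ Kr (H ⊔ P) ρ
  · exact h.step_abel hc l hF s
  have hd : ∀ a ∈ P, ∀ b ∈ P, ⁅a, b⁆ ∈ LM K T P := fun a ha b hb =>
    h.lv.der_le (commutator_mem_commutator ha hb)
  obtain ⟨R, ⟨ξ, w, hw, h0, -, hR⟩, h1, h2⟩ := l
    {R | ∃ ξ : Γ → k, ∃ w ∈ Wt ρ (LM K T P) ξ, w ≠ 0 ∧ R ≠ P ∧
      ∀ n, n ∈ R ↔ n ∈ P ∧ ∀ m ∈ P, ξ ⁅n, m⁆ = 1} (by
      rw [commutator_le] at hc
      push Not at hc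
      obtain ⟨n, hn, m, hm, e⟩ := hc
      obtain ⟨ξ, w, hw, h0, e'⟩ := h.exists_wt_comm hn hm fun a => e (h.rep.mem_ker.mpr
        ⟨h.hM (hd n hn m hm), a⟩)
      have c := h.rep.isChar h.hM hw h0
      have hR : ∀ n, n ∈ P ⊓ centMod P c.ker ↔ n ∈ P ∧ ∀ m ∈ P, ξ ⁅n, m⁆ = 1 := fun n => by
        rw [mem_inf, mem_centMod]
        refine and_congr_right fun hn => ⟨fun a m hm => (a.2 m hm).2,
          fun a => ⟨mem_norm_of_cj_le fun y hy => ?_, fun m hm => ⟨hd n hn m hm, a m hm⟩⟩⟩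
        obtain ⟨z, hz, rfl⟩ := mem_cj_iff.mp hy
        refine ⟨conj_mem_of_norm (h.lv.nMP hn) hz.1, ?_⟩
        rw [← hz.2, ← (h.P_le hw h0 (P.inv_mem hn)).2 z hz.1, inv_inv]
      exact ⟨_, ξ, w, hw, h0, fun a => e' (((hR n).mp (a.ge hn)).2 m hm), hR⟩)
    (by
      rintro R ⟨ξ, w, hw, h0, hne, hR⟩
      refine ⟨fun z hz => (hR z).mpr ⟨LM_le K T P hz, fun m hm => wt_eq_one hw h0
        (hd _ (LM_le K T P hz) _ hm) ?_⟩, lt_of_le_of_ne (fun n hn => ((hR n).mp hn).1) hne⟩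
      rw [h.rep.eq_one h.MP (commutator_mem_commutator hz hm)]; rfl) (by
      rintro g hg R ⟨ξ, w, hw, h0, hne, hR⟩
      have hg' : g ∈ H ⊔ P := mem_sup_left hg
      have nP := h.lv.nP hg
      refine ⟨cjf g ξ, _, h.rep.map_wt h.hM hg' (h.lv.nM hg) hw, h.rep.ne_zero hg' h0,
        fun e => hne (by rw [cj_eq_iff.mp e, cj_of_norm (inv_mem nP)]), fun n => ?_⟩
      rw [mem_cj, hR, ← mem_cj, cj_of_norm nP]
      refine and_congr_right fun hn => ⟨fun a m hm => ?_, fun a m hm => ?_⟩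
      · rw [← a _ (conj_mem_of_norm' nP hm)]
        simp only [cjf, commutatorElement_def]
        congr 1; group
      · rw [← a _ (conj_mem_of_norm nP hm)]
        simp only [cjf, commutatorElement_def]
        congr 1; group)
  have FP := hF.trans inf_le_left
  have hP := le_inf (le_sup_right : P ≤ H ⊔ P) (h.P_le hw h0)
  by_cases hA : ∀ b ∈ ⁅LM K T P, A⁆, ξ b = 1
  swap
  · push Not at hA
    obtain ⟨b, hb, hb1⟩ := hA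
    have h3 := h.ab_fix (LM_le K T P) h.nAM ((comm_le_left h.nAM).trans h.M_le_rad) hF
      (FP.trans h.lv.nMP) s hb hb1
    refine h2 fun f hf => (hR f).mpr ⟨FP hf, fun m hm => wt_eq_one hw h0 (hd _ (FP hf) _ hm) ?_⟩
    have st := h.rep.stab_wt_of_le h.hM le_sup_right (h.P_le hw h0)
    rw [h.rep.comm_apply (mem_sup_right (FP hf)) (mem_sup_right hm),
      h3 (st _ (P.inv_mem hm) w hw) _ (F.inv_mem hf), h.rep.apply_inv (mem_sup_right hm), h3 hw f hf]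
  obtain ⟨σ, Λ', cs, s', -, -, r⟩ := h.restrict hw h0
    ((h.rep.isChar h.hM hw h0).le_stabCh h.nAM hA) (FP.trans hP) s
  haveI : Nontrivial (Wt ρ (LM K T P) ξ) :=
    Submodule.nontrivial_iff_ne_bot.mpr fun a => h0 (by simpa [a] using hw)
  have e : Rad P σ = R := Subgroup.ext fun n => (r n).trans (hR n).symm
  have f : FixV σ F = ⊥ := by
    by_contra a
    obtain ⟨u, hu, u0⟩ := (Submodule.ne_bot_iff _).mp a
    refine h2 (e ▸ cs.rep.le_rad cs.hN FP ?_)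
    conv_lhs => arg 2; rw [← comm_sup_inf_cent cs.n cs.c (Or.inr cs.sol)]
    refine comm_sup_le' ?_ (fun z hz => ?_) ((comm_le_left cs.n).trans (cs.hN.trans cs.rep.norm_ker))
      (inf_le_left.trans (cs.hN.trans cs.rep.norm_ker))
    · rw [commutator_comm]
      exact (commutator_mono le_rfl hF).trans (cs.rep.orth cs.hN cs.hA cs.sc)
    · have := (cs.rep.mem_scalz cs.hN).mp
        (cs.rep.der_le_scalz cs.hN cs.sc (commutator_mono FP inf_le_left hz))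
      exact cs.rep.mem_ker.mpr ⟨cs.hN this.1, this.2.eq_one u0 (hu z (comm_le_left nF hz))⟩
  exact cs.core_b h.lv.pi (le_inf h.hT (h.T_le hw h0)) h.lv.nTP (h.hA.trans h.lv.nT) pT h.lv.piT cT
    h.lv.comm_eq (e ▸ h1) (f ▸ s')

theorem base {N : Subgroup Γ} {q l : ℕ} {H₀ : Subgroup Γ} (h : RS K (H₀ ⊔ P) P N q A ρ)
    (e : ⁅N, A⁆ = N) (pP : PiGrp {l} P) (cP : P ≤ 𝐂 A) (c : (♯A).Coprime (♯P)) (hT : T ≤ H₀)
    (nT : H₀ ≤ 𝐍 T) (eT : ⁅P, T⁆ = P) (s : Sp ρ N A Λ (FixV ρ P))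
    (s' : Sp ρ N A Λ (FixV ρ ⁅N ⊓ 𝐂 A, T⁆)) : False := by
  set M := LM K P N with hMd
  have hT' : T ≤ H₀ ⊔ P := hT.trans le_sup_left
  have hT'' : T ≤ H₀ ⊔ P ⊔ N := hT'.trans le_sup_left
  have nTM : T ≤ 𝐍 M := hT'.trans h.lv.nM
  have h1 := h.rep.comm_le_kr_of_sp le_sup_right h.hA' h.hT h.M_le_rad h.nAM
    (h.lv.TH.trans h.lv.nM) cP h.pA h.kA h.kP h.c h.lv.pi.sol c.symm h.lv.comm_eq h.fix s
  have N1 := h.lv.ne_bot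
  have lq : q ≠ l := fun a => N1 (by
    rw [← h.lv.comm_eq, pP.eq_bot (a ▸ h.lv.piT)]; simp)
  by_cases h2 : ⁅M, T⁆ ≤ Kr (H₀ ⊔ P ⊔ N) ρ
  · obtain ⟨w, -, h0, ξ, hw⟩ := h.rep.exists_wt h.hM (h.rep.comm_of_kr h.hM h.hM h.MM) (U := ⊤)
      top_ne_bot fun _ _ _ _ => trivial
    have hP := le_inf h.hT (h.T_le hw h0)
    obtain ⟨σ, Λ', cs, s₁, -, f, -⟩ := h.restrict hw h0 (h.rep.le_stabCh h.hM h.nAM h1 hw h0) hP s
    haveI : Nontrivial (Wt ρ M ξ) :=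
      Submodule.nontrivial_iff_ne_bot.mpr fun a => h0 ((Submodule.eq_bot_iff _).mp a w hw)
    exact cs.core_c e hP h.lv.nTP cP pP (h.lv.pi.of_single_ne lq) c.symm h.lv.comm_eq
      (le_inf hT'' (h.rep.le_stabCh h.hM nTM h2 hw h0)) (hT'.trans h.lv.nP) (hT'.trans h.lv.nT) eT f s₁
  have ZM : ⁅M, T⁆ ⊔ N ⊓ K ≤ M := sup_le (comm_le_left nTM) h.lv.inf_le_LM
  have nZ : H₀ ⊔ P ⊔ N ≤ 𝐍 (⁅M, T⁆ ⊔ N ⊓ K) := sup_le (sup_le
    (norm_sup (norm_commutator (le_sup_left.trans h.lv.nM) nT)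
      (le_sup_left.trans (norm_inf h.lv.nP h.lv.nK)))
    (norm_of_comm_le ((commutator_mono ZM le_rfl).trans (h.lv.comm_LM_T.trans le_sup_right))))
    (norm_of_comm_le ((commutator_mono ZM le_rfl).trans (h.lv.comm_LM_P.trans le_sup_right)))
  have f := (h.dich _ (ZM.trans h.hM) nZ).resolve_left fun a => h2 (le_sup_left.trans a)
  refine h.zero pP c (e.symm ▸ h.lv.not_le_LM) (s'.mono' (f ▸ fun w hw g hg => ?_))
  have EH : ⁅N ⊓ 𝐂 A, T⁆ ≤ H₀ ⊔ P ⊔ N :=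
    (commutator_mono (inf_le_left.trans le_sup_right) hT'').trans (BG.der_le _)
  have h3 : ⁅N ⊓ 𝐂 A, T⁆ ⊔ Kr (H₀ ⊔ P ⊔ N) ρ ≤ Fixer (H₀ ⊔ P ⊔ N) ρ {w} :=
    sup_le (fun x hx => h.rep.mem_fixer_single.mpr ⟨EH hx, hw x hx⟩)
      fun x hx => h.rep.mem_fixer_single.mpr ⟨fixer_le _ _ _ hx, by rw [h.rep.eq_one le_rfl hx]; rfl⟩
  refine (h.rep.mem_fixer_single.mp (h3 (sup_le ?_ (h.kr.trans le_sup_right) hg))).2
  refine (commutator_mono (comm_sup_inf_cent h.nAM (coprime_mono h.c le_rfl (LM_le _ _ _))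
    (Or.inr (h.lv.pi.sol.mono (LM_le _ _ _)))).ge le_rfl).trans ?_
  have MN : M ⊓ 𝐂 A ≤ N ⊓ 𝐂 A := inf_le_inf_right _ (LM_le _ _ _)
  exact comm_sup_le (((commutator_mono h1 le_rfl).trans
    (comm_le_left (hT''.trans h.rep.norm_ker))).trans le_sup_right)
    ((commutator_mono MN le_rfl).trans le_sup_left) (norm_of_le (h1.trans le_sup_right))
    (norm_sup (MN.trans (norm_comm_left _ _)) (inf_le_left.trans (h.hM.trans h.rep.norm_ker)))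

end RS

theorem Lv2.exists_rs {K H T P K' P' A : Subgroup Γ} {p p' : ℕ} (l : Lv2 K H T P K' P' p p')
    (k : Type*) [Field k] [CharP k p'] (hA : A ≤ H) (pA : (♯A).Prime) (c : (♯A).Coprime (♯P))
    (c' : (♯A).Coprime (♯P')) (𝒯 : Set (Subgroup Γ)) (h0 : 𝒯.Nonempty)
    (h1 : ∀ R ∈ 𝒯, LM K' P P' ≤ R ∧ R < P') (h2 : ∀ g ∈ H ⊔ P, ∀ R ∈ 𝒯, cj g R ∈ 𝒯) :
    ∃ (U : Submodule k (Γ → k)) (ρ : Γ → End k U) (Λ : Set U), RS K H T P p A ρ ∧ Nontrivial U ∧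
      DualMod (H ⊔ P) P' 𝒯 ρ Λ U.subtype := by
  obtain ⟨U, ρ, Λ, d, hU, hk, hd⟩ := l.bot.exists_dualMod k 𝒯 h0 h1 h2
  refine ⟨U, ρ, Λ, ⟨l.top, d.rep, d.rep.le_kr (inf_le_left.trans le_sup_right)
    (hk _ (inf_le_left.trans le_sup_right) l.ker), fun Z a b => (hd Z a b).imp_left (d.rep.le_kr a),
    d.fixV_eq_bot le_sup_right l.bot.comm_eq, hA, pA, ?_,
    cast_ne_zero_of_pi k l.bot.prime l.bot.piT, c⟩, hU, d⟩
  refine cast_ne_zero_of_pi k l.bot.prime ((piNat_compl_single l.bot.prime).mpr fun a => ?_)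
  exact not_dvd_of_coprime c' l.bot.prime a (l.bot.pi.dvd_card l.bot.ne_bot)

theorem DualMod.sp_zero {H P A N : Subgroup Γ} {𝒯 : Set (Subgroup Γ)} {ρ : Γ → End k W} {Λ : Set W}
    {ev : W →ₗ[k] (Γ → k)} (d : DualMod H P 𝒯 ρ Λ ev) (hA : A ≤ H) (hN : N ≤ H)
    (c : (♯A).Coprime (♯P)) (s : Sol P) (h : ∀ R ∈ 𝒯, ⁅P, A⁆ ≤ R ∨ P ⊓ 𝐂 A ≤ R) : Sp ρ N A Λ ⊥ :=
  ⟨d.span, fun n hn => d.inv n (hN hn), d.nrm_eq_zero hA c s h⟩

theorem DualMod.sp_fix {H P A N F : Subgroup Γ} {𝒯 : Set (Subgroup Γ)} {ρ : Γ → End k W}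
    {Λ : Set W} {ev : W →ₗ[k] (Γ → k)} (d : DualMod H P 𝒯 ρ Λ ev) (hA : A ≤ H) (hN : N ≤ H)
    (hF : F ≤ H) (cF : F ≤ 𝐂 A) (c : (♯A).Coprime (♯P)) (s : Sol P)
    (h : ∀ R ∈ 𝒯, ⁅P, A⁆ ≤ R ∨ ⁅P ⊓ 𝐂 A, F⁆ ≤ R) : Sp ρ N A Λ (FixV ρ F) :=
  ⟨d.span, fun n hn => d.inv n (hN hn), d.nrm_mem_fixV hA hF cF c s h⟩

namespace Lv2
variable {K H T P K' P' A F : Subgroup Γ} {p p' t : ℕ}

theorem lam_zero (l : Lv2 K H T P K' P' p p') (hA : A ≤ H) (pA : (♯A).Prime)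
    (c : (♯A).Coprime (♯P)) (c' : (♯A).Coprime (♯P')) (pT : PiGrp {t} T) (cT : (♯A).Coprime (♯T))
    (hne : ¬ ⁅P, A⁆ ≤ LM K T P) : Lam K' (H ⊔ P) P P' A (P' ⊓ 𝐂 A) := by
  intro 𝒯 h0 h1 h2
  by_contra e
  haveI := Fact.mk l.bot.prime
  obtain ⟨U, ρ, Λ, r, _, d⟩ := l.exists_rs (AlgebraicClosure (ZMod p')) hA pA c c' 𝒯 h0 h1 h2
  exact r.zero pT cT hne (d.sp_zero r.hA' le_sup_right c' l.bot.pi.sol fun R hR =>
    by_contra fun a => e ⟨R, hR, not_or.mp a⟩)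

theorem lam_step (l : Lv2 K H T P K' P' p p') (hA : A ≤ H) (pA : (♯A).Prime)
    (c : (♯A).Coprime (♯P)) (c' : (♯A).Coprime (♯P')) (pT : PiGrp {t} T) (cT : (♯A).Coprime (♯T))
    (h : Lam K H T P A F) (hF : F ≤ P ⊓ 𝐂 A) (nF : P ⊓ 𝐂 A ≤ 𝐍 F) :
    Lam K' (H ⊔ P) P P' A ⁅P' ⊓ 𝐂 A, F⁆ := by
  intro 𝒯 h0 h1 h2
  by_contra e
  haveI := Fact.mk l.bot.prime
  obtain ⟨U, ρ, Λ, r, _, d⟩ := l.exists_rs (AlgebraicClosure (ZMod p')) hA pA c c' 𝒯 h0 h1 h2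
  exact r.step pT cT h hF nF (d.sp_fix r.hA' le_sup_right (hF.trans (inf_le_left.trans le_sup_right))
    (hF.trans inf_le_right) c' l.bot.pi.sol fun R hR => by_contra fun a => e ⟨R, hR, not_or.mp a⟩)

theorem lam_base {N V : Subgroup Γ} {q : ℕ} (l : Lv2 K (H ⊔ P) P N K' V q p') (hA : A ≤ H ⊔ P)
    (pA : (♯A).Prime) (c : (♯A).Coprime (♯N)) (c' : (♯A).Coprime (♯V)) (e : ⁅N, A⁆ = N)
    (pP : PiGrp {p} P) (cP : P ≤ 𝐂 A) (cA : (♯A).Coprime (♯P)) (hT : T ≤ H) (nT : H ≤ 𝐍 T)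
    (cT : T ≤ 𝐂 A) (eT : ⁅P, T⁆ = P) :
    Lam K' (H ⊔ P ⊔ N) N V A (⁅V ⊓ 𝐂 A, P⁆ ⊔ ⁅V ⊓ 𝐂 A, ⁅N ⊓ 𝐂 A, T⁆⁆) := by
  intro 𝒯 h0 h1 h2
  by_contra a
  haveI := Fact.mk l.bot.prime
  obtain ⟨U, ρ, Λ, r, _, d⟩ := l.exists_rs (AlgebraicClosure (ZMod p')) hA pA c c' 𝒯 h0 h1 h2
  have b : ∀ R ∈ 𝒯, ⁅V, A⁆ ≤ R ∨ ⁅V ⊓ 𝐂 A, P⁆ ⊔ ⁅V ⊓ 𝐂 A, ⁅N ⊓ 𝐂 A, T⁆⁆ ≤ R :=
    fun R hR => by_contra fun b => a ⟨R, hR, not_or.mp b⟩
  exact r.base e pP cP cA hT nT eT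
    (d.sp_fix r.hA' le_sup_right r.hT cP c' l.bot.pi.sol fun R hR =>
      (b R hR).imp_right le_sup_left.trans)
    (d.sp_fix r.hA' le_sup_right ((commutator_mono (inf_le_left.trans le_sup_right)
      (hT.trans (le_sup_left.trans le_sup_left))).trans (BG.der_le _))
      ((commutator_mono inf_le_right cT).trans (BG.der_le _)) c' l.bot.pi.sol fun R hR =>
      (b R hR).imp_right le_sup_right.trans)

theorem not_le (l : Lv2 K H T P K' P' p p') (hA : A ≤ H) (hne : ¬ ⁅P, A⁆ ≤ LM K T P) :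
    ¬ ⁅P', A⁆ ≤ LM K' P P' := fun e => by
  have nM := l.bot.nM
  have h1 : P ⊓ centMod P' (LM K' P P') ≤ LM K T P :=
    l.top.le_of_ne inf_le_left (norm_inf l.top.nP
      (le_sup_left.trans (norm_centMod l.bot.nP nM))) fun a => l.bot.not_le_LM (by
        have := (le_centMod.mp (a.ge.trans inf_le_right)).2
        rwa [commutator_comm, l.bot.comm_eq] at this)
  refine hne (le_trans (le_inf (comm_le_left (hA.trans l.top.nP)) ?_) h1)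
  refine (commutator_mono le_rfl (le_centMod.mpr ⟨hA.trans (le_sup_left.trans nM), ?_⟩)).trans
    (comm_le_right (le_sup_right.trans (norm_centMod l.bot.nP nM)))
  rwa [commutator_comm]

end Lv2
end CF.Fgs1
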