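/-
The Fitting height of a solvable group with a coprime automorphism of prime order.
-/
import Cfsg.Agent.Fgs1.HHTow
set_option autoImplicit false
set_option linter.unusedSectionVars false

namespace CF.Fgs1
open Subgroup CF.BG
open scoped commutatorElement

variable {Γ : Type*} [Group Γ] [Finite Γ]

/-- the data of the problem -/
structure TS (G A : Subgroup Γ) (L Y : ℕ → Subgroup Γ) (n : ℕ) : Prop where
  ch : Chain G A L
  pA : (♯A).Prime
  c : (♯A).Coprime (♯G)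
  s : Sol G
  Y0 : Y 0 = G ⊓ 𝐂 A
  Yn : ∀ m, n ≤ m → Y m = ⊥
  nY : ∀ m, Y m ⊴ G ⊓ 𝐂 A
  nil : ∀ m, Nil (qt (Y (m + 1)) (Y m))

theorem le_of_FS {G P X : Subgroup Γ} {i : ℕ} (h : P ≤ X ⊓ FS G i) : P ≤ G :=
  h.trans (inf_le_right.trans (FS_le G i))

theorem Lam.ne_bot {K H T P A F : Subgroup Γ} {p : ℕ} (h : Lam K H T P A F) (l : Lv K H T P p) :
    F ≠ ⊥ := fun e => by
  obtain ⟨R, -, -, a⟩ := h {LM K T P} ⟨_, rfl⟩ (by rintro R rfl; exact ⟨le_rfl, l.LM_lt⟩)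
    (by rintro g hg R rfl; exact cj_of_norm (l.nM hg))
  exact a (e ▸ bot_le)

namespace TS
variable {G A : Subgroup Γ} {L Y : ℕ → Subgroup Γ} {n : ℕ}

theorem cop (h : TS G A L Y n) {X : Subgroup Γ} (hX : X ≤ G) : (♯A).Coprime (♯X) :=
  coprime_mono h.c le_rfl hX

theorem comm_le (h : TS G A L Y n) {X E : Subgroup Γ} {m : ℕ} (hX : X ≤ G ⊓ 𝐂 A) (hE : E ≤ Y m) :
    ⁅X, E⁆ ≤ Y m := (commutator_mono le_rfl hE).trans (comm_le_right (hX.trans (h.nY m).norm))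

theorem comm_le_succ (h : TS G A L Y n) {X E : Subgroup Γ} {m : ℕ} (hX : X ≤ G ⊓ 𝐂 A)
    (hE : E ≤ Y m) (nX : E ≤ 𝐍 X) (c : (♯E).Coprime (♯X)) : ⁅X, E⁆ ≤ Y (m + 1) := by
  have h1 := h.comm_le hX hE
  have h2 : Y m ≤ 𝐍 (Y (m + 1)) := (h.nY m).le.trans (h.nY _).norm
  rw [← comm_comm_eq nX c (Or.inr (h.s.mono (hX.trans inf_le_left))),
    ← qt_cent_iff (h1.trans h2) (hE.trans h2)]
  exact (h.nil m).cent_of_coprime (qt_mono _ h1) (qt_mono _ hE)
    (coprime_qt _ (coprime_mono c le_rfl (comm_le_left nX)).symm)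

theorem s2 (h : TS G A L Y n) (i : ℕ) : ∀ (m : ℕ) (H T P F : Subgroup Γ) (p t : ℕ), n ≤ i + m →
    H ≤ L i → A ≤ H → P ≤ L i ⊓ FS G (i + 1) → Lv (FS G i) H T P p → PiGrp {t} T → T ≤ G →
    Lam (FS G i) H T P A F → F ≤ P ⊓ 𝐂 A → P ⊓ 𝐂 A ≤ 𝐍 F → F ≤ Y m → False := by
  induction i with
  | zero =>
    intro m H T P F p t hm _ _ _ l _ _ la _ _ hY
    exact la.ne_bot l (eq_bot_mono (h.Yn m (by omega)) hY)
  | succ i ih =>
    intro m H T P F p t hm hH hA hP l pT hT la hF nF hY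
    obtain ⟨P', p', -, hH', hP', l2⟩ := h.ch.exists_lv2 hH hP l
    have PG := le_of_FS hP
    have PG' := le_of_FS hP'
    have nF' : F ≤ 𝐍 (P' ⊓ 𝐂 A) := norm_inf_cent ((hF.trans inf_le_left).trans l2.bot.nTP)
      (norm_of_cent (hF.trans inf_le_right))
    exact ih (m + 1) _ P P' _ p' p (by omega) hH' (hA.trans le_sup_left) hP' l2.bot l.pi PG
      (l2.lam_step hA h.pA (h.cop PG) (h.cop PG') pT (h.cop hT) la hF nF) (comm_le_left nF')
      (norm_comm_left _ _) (h.comm_le_succ (inf_le_inf_right _ PG') hY nF'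
        (coprime_mono l2.bot.cop (hF.trans inf_le_left) inf_le_left))

theorem s0 (h : TS G A L Y n) {H T P : Subgroup Γ} {p t : ℕ} (hH : H ≤ L (n + 1)) (hA : A ≤ H)
    (hP : P ≤ L (n + 1) ⊓ FS G (n + 2)) (l : Lv (FS G (n + 1)) H T P p) (pT : PiGrp {t} T)
    (hT : T ≤ G) (hne : ¬ ⁅P, A⁆ ≤ LM (FS G (n + 1)) T P) : False := by
  obtain ⟨P', p', -, hH', hP', l2⟩ := h.ch.exists_lv2 hH hP l
  have PG := le_of_FS hP
  have PG' := le_of_FS hP'
  exact h.s2 n 0 _ P P' _ p' p le_rfl hH' (hA.trans le_sup_left) hP' l2.bot l.pi PG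
    (l2.lam_zero hA h.pA (h.cop PG) (h.cop PG') pT (h.cop hT) hne) le_rfl (le_norm_self _)
    (h.Y0 ▸ inf_le_inf_right _ PG')

theorem s1 (h : TS G A L Y n) (i : ℕ) : ∀ (m : ℕ) (H T P : Subgroup Γ) (p : ℕ), n + 1 ≤ i + m →
    H ≤ L i → A ≤ H → H ≤ 𝐍 A → P ≤ L i ⊓ FS G (i + 1) → Lv (FS G i) H T P p → P ≤ 𝐂 A →
    T ≤ Y m → P ≤ Y (m + 1) → False := by
  induction i with
  | zero =>
    intro m H T P p hm _ _ _ _ l _ _ hY
    exact l.ne_bot (eq_bot_mono (h.Yn _ (by omega)) hY)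
  | succ i ih =>
    intro m H T P p hm hH hA nA hP l cP hT hY
    obtain ⟨N, q, -, hH', hN, l2⟩ := h.ch.exists_lv2 hH hP l
    have PG := le_of_FS hP
    have NG := le_of_FS hN
    have hA' : A ≤ H ⊔ P := hA.trans le_sup_left
    have nA' : H ⊔ P ≤ 𝐍 A := sup_le nA (norm_of_cent cP)
    rcases l2.bot.comm_eq_or_cent (hA'.trans l2.bot.nP) (h.cop NG) nA' with e | e
    swap
    · exact ih (m + 1) _ P N q (by omega) hH' hA' nA' hN l2.bot e hY (l2.bot.comm_eq ▸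
        h.comm_le_succ (le_inf NG e) hY l2.bot.nTP l2.bot.cop)
    cases i with
    | zero => exact l.ne_bot (eq_bot_mono (h.Yn _ (by omega)) hY)
    | succ i =>
    obtain ⟨V, p', -, hH'', hV, l3⟩ := h.ch.exists_lv2 hH' hN l2.bot
    have VG := le_of_FS hV
    have TC := hT.trans (h.nY m).le
    have TH : T ≤ H ⊔ P := l.TH.trans le_sup_left
    have nE : T ≤ 𝐍 (N ⊓ 𝐂 A) :=
      norm_inf_cent (TH.trans l2.bot.nP) (norm_of_cent (TC.trans inf_le_right))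
    have EN := comm_le_left nE
    have n1 : P ≤ 𝐍 (V ⊓ 𝐂 A) :=
      norm_inf_cent ((le_sup_right.trans le_sup_left).trans l3.bot.nP) (norm_of_cent cP)
    have n2 : ⁅N ⊓ 𝐂 A, T⁆ ≤ 𝐍 (V ⊓ 𝐂 A) := norm_inf_cent
      ((EN.trans inf_le_left).trans l3.bot.nTP) (norm_of_cent (EN.trans inf_le_right))
    have VC : V ⊓ 𝐂 A ≤ G ⊓ 𝐂 A := inf_le_inf_right _ VG
    exact h.s2 i (m + 1) _ N V _ p' q (by omega) hH'' (hA'.trans le_sup_left) hV l3.bot l2.bot.pi NG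
      (l3.lam_base hA' h.pA (h.cop NG) (h.cop VG) e l.pi cP (h.cop PG) l.TH l.nT
        (TC.trans inf_le_right) l.comm_eq) (sup_le (comm_le_left n1) (comm_le_left n2))
      (norm_sup (norm_comm_left _ _) (norm_comm_left _ _))
      (sup_le (h.comm_le VC hY) (h.comm_le_succ VC (h.comm_le (inf_le_inf_right _ NG) hT) n2
        (coprime_mono l3.bot.cop (EN.trans inf_le_left) inf_le_left)))

end TS

theorem Chain.exists_top {G A : Subgroup Γ} {L : ℕ → Subgroup Γ} (h : Chain G A L) (s : Sol G)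
    {i : ℕ} (hne : FS G i ≠ G) :
    ∃ q X, PiGrp {q} X ∧ X ≤ L i ⊓ FS G (i + 1) ∧ L i ≤ 𝐍 X ∧ ¬ X ≤ FS G i := by
  by_contra e
  push Not at e
  refine (FS_lt_succ s hne).not_ge ?_
  rw [← qt_eq_bot (le_norm_FS (FS_le G _) i), qt_FS_succ, eq_bot_iff]
  refine F_le_of_forall fun q _ _ => ?_
  have := (h.cov i q).trans (sup_le le_rfl (e q _ (O_pi _ _) (O_le _ _)
    (le_norm_O _ (norm_inf (le_norm_self _) (norm_FS (h.nG i) _)))))
  rw [← qt_eq_bot (le_norm_FS ((OS_le G i q).trans (FS_le G _)) i), OS, qt_qp] at this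
  exact this.le

/-- Turull's bound for an operator group of prime order -/
theorem fitT_add_two {G A : Subgroup Γ} (nA : A ≤ 𝐍 G) (pA : (♯A).Prime) (c : (♯A).Coprime (♯G))
    (s : Sol G) {n : ℕ} (h : FitT (G ⊓ 𝐂 A : Subgroup Γ) n) : FitT G (n + 2) := by
  refine fitT_of_FS (by_contra fun hne => ?_)
  obtain ⟨Y, y0, y1, y2, y3⟩ := h.exists_desc
  obtain ⟨L, hL⟩ := exists_chain nA c s
  have ts : TS G A L Y n := ⟨hL, pA, c, s, y0, y1, y2, y3⟩
  obtain ⟨q, X, pX, hX, nX, hXF⟩ := hL.exists_top s hne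
  have XG := le_of_FS hX
  have aX := (hL.le_A _).trans nX
  have cX := ts.cop XG
  by_cases h1 : ⁅X, A⁆ ≤ FS G (n + 2)
  · have h2 : ¬ X ⊓ 𝐂 A ≤ FS G (n + 2) := fun a =>
      hXF ((comm_sup_inf_cent aX cX (Or.inr pX.sol)).ge.trans (sup_le h1 a))
    have hH : A ⊔ X ⊓ 𝐂 A ≤ L (n + 1) :=
      sup_le (hL.le_A _) (inf_le_left.trans (hX.trans (inf_le_left.trans (hL.anti _))))
    have nH : A ⊔ X ⊓ 𝐂 A ≤ 𝐍 A := sup_le (le_norm_self A) (norm_of_cent inf_le_right)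
    obtain ⟨P, p, -, hP, l⟩ := hL.exists_next hH le_sup_right
      (sup_le (norm_of_cent' inf_le_right) (le_norm_self _)) pX.inf_left
      (inf_le_left.trans (hX.trans inf_le_right)) h2
    have PG := le_of_FS hP
    have hT : X ⊓ 𝐂 A ≤ Y 0 := y0 ▸ inf_le_inf_right _ XG
    rcases l.comm_eq_or_cent (le_sup_left.trans l.nP) (ts.cop PG) nH with e | e
    · exact ts.s0 hH le_sup_left hP l pX.inf_left (inf_le_left.trans XG) (e.symm ▸ l.not_le_LM)
    · exact ts.s1 (n + 1) 0 _ _ P p le_rfl hH le_sup_left nH hP l e hT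
        (l.comm_eq ▸ ts.comm_le_succ (le_inf PG e) hT l.nTP l.cop)
  · have X1 : X ≠ ⊥ := fun a => hXF (a ▸ bot_le)
    obtain ⟨P, hP, l⟩ := exists_lv (K := FS G (n + 2)) pX ((piNat_compl_single (pX.prime X1)).mpr
      fun a => not_dvd_of_coprime cX (pX.prime X1) a (pX.dvd_card X1)) aX le_rfl (le_norm_self A)
      (norm_FS nA _) (le_norm_FS XG _) h1
    obtain ⟨P', p', -, hH', hP', l2⟩ := hL.exists_lv2 (hL.le_A _) (hP.trans hX) l
    exact ts.s0 hH' le_sup_left hP' l2.bot l.pi (hP.trans XG)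
      (l2.not_le le_rfl (l.comm_eq.symm ▸ l.not_le_LM))

theorem FitT.mono {G : Type*} [Group G] {n m : ℕ} (h : FitT G n) (e : n ≤ m) : FitT G m := by
  induction e with
  | refl => exact h
  | step _ ih => exact ih.succ_of_ker (MonoidHom.id G) (by rw [MonoidHom.ker_id]; exact nil_bot)

theorem fitT_of_fpf_two.{u} (l : ℕ) :
    ∀ {Γ : Type u} [Group Γ] [Finite Γ] {G : Subgroup Γ} {x : Γ}, x ∈ 𝐍 G → x ^ 2 ^ (l + 2) = 1 →
      G ⊓ 𝐂 (zpowers x) = ⊥ → Sol G → FitT G (2 * l + 2) := by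
  induction l with
  | zero =>
    intro Γ _ _ G x n ho hf s
    refine fitT_two_of_commutator ((nil_map_iff G.subtype_injective).mp ?_)
    rw [commutator_def, map_commutator, map_top_subtype]
    exact nil_der_of_fpf_four n ho hf s
  | succ l ih =>
    intro Γ _ _ G x n ho hf s
    by_cases h1 : x ^ 2 ^ (l + 2) = 1
    · exact (ih n h1 hf s).mono (by omega)
    set Y := zpowers (x ^ 2 ^ (l + 2))
    have pA := card_zpowers_pi Nat.prime_two ho
    have nA : zpowers x ≤ 𝐍 G := zpowers_le.mpr n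
    have hG := pi'_of_fpf Nat.prime_two pA nA hf
    have YA : Y ≤ zpowers x := zpowers_le.mpr (pow_mem (mem_zpowers x) _)
    have nY : zpowers x ≤ 𝐍 Y := (abel_zpowers x).le_norm YA
    have hx := nY (mem_zpowers x)
    have nC : zpowers x ≤ 𝐍 (G ⊓ 𝐂 Y) := norm_inf_cent nA nY
    have cY : G ⊓ 𝐂 Y ≤ 𝐍 Y := norm_of_cent inf_le_right
    refine fitT_add_two (A := Y) (YA.trans nA) ?_ (PiNat.coprime (pA.le YA) hG) s
      (FitT.of_qt cY (ih (x := qe Y x) (qt_norm _ nC (qe_mem_qt (mem_zpowers x) hx)) ?_ ?_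
        ((s.mono inf_le_left).qt Y)) ((pA.le YA).inf_eq_bot hG.inf_left))
    · rw [Nat.card_zpowers, orderOf_eq_of_pow Nat.prime_two (by rw [← pow_mul, ← pow_succ, ho]) h1]
      exact Nat.prime_two
    · rw [← qe_pow hx]; exact qe_of_mem (mem_zpowers _)
    · rw [← qt_zpowers hx, ← qt_inf_cent nY nC (PiNat.coprime pA hG.inf_left.inf_left)
        (Or.inl (abel_zpowers x).sol)]
      exact qt_of_le ((inf_le_inf_right _ inf_le_left).trans (hf.le.trans bot_le))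

end CF.Fgs1
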