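/-
Fixed-point-free operator groups of order a product of two primes.
-/
import Cfsg.Agent.Fgs1.HHTurull
set_option autoImplicit false
set_option linter.unusedSectionVars false

namespace CF.Fgs1
open Module Subgroup CF.BG Polynomial
open scoped commutatorElement

variable {Γ : Type*} [Group Γ] [Finite Γ]

/-- proper nontrivial subgroups have prime order and a supplement of prime order -/
def PQ (A : Subgroup Γ) : Prop := ∀ B, B ≤ A → B ≠ ⊥ → B ≠ A →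
  (♯B).Prime ∧ ∃ Y, Y ≤ A ∧ (♯Y).Prime ∧ B ⊔ Y = A ∧ (A ≤ 𝐍 B ∨ A ≤ 𝐍 Y)

theorem norm_iSup_cj (A X : Subgroup Γ) : A ≤ 𝐍 (⨆ g : A, cj (g : Γ) X) :=
  le_norm_of_cj_le fun a ha => cj_le_iff.mpr (iSup_le fun g => cj_le_iff.mp (by
    rw [cj_cj]; exact le_iSup (fun g : A => cj (g : Γ) X) ⟨a * g, mul_mem ha g.2⟩))

theorem kc_aux {S T B Y : Subgroup Γ} (aS : Abel S) (aT : Abel T) (tS : T ≤ 𝐍 S)
    (nS : B ⊔ Y ≤ 𝐍 S) (nT : B ⊔ Y ≤ 𝐍 T) (pY : (♯Y).Prime) (c1 : (♯B).Coprime (♯S))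
    (c1' : (♯Y).Coprime (♯S)) (c2 : (♯B).Coprime (♯T)) (c2' : (♯Y).Coprime (♯T))
    (c3 : (♯T).Coprime (♯S)) (f : T ⊓ 𝐂 S = ⊥) (fS : S ⊓ 𝐂 (B ⊔ Y) = ⊥) (fT : T ⊓ 𝐂 (B ⊔ Y) = ⊥)
    (e : ⁅S, T⁆ = S) (T1 : T ≠ ⊥)
    (iS : ∀ X, X ≤ S → T ≤ 𝐍 X → B ⊔ Y ≤ 𝐍 X → X = ⊥ ∨ X = S)
    (iT : ∀ X, X ≤ T → B ⊔ Y ≤ 𝐍 X → X = ⊥ ∨ X = T) (h : B ⊔ Y ≤ 𝐍 B ∨ B ⊔ Y ≤ 𝐍 Y) :
    S ⊓ 𝐂 (⁅T, B⁆ ⊔ B) = ⊥ := by
  by_contra S1
  have bS := le_sup_left.trans nS
  have bT := le_sup_left.trans nT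
  have yS := le_sup_right.trans nS
  have yT := le_sup_right.trans nT
  have nJ : T ≤ 𝐍 (⁅T, B⁆ ⊔ B) := norm_of_comm_le' (comm_sup_le'
    ((comm_le_right (norm_comm_left T B)).trans le_sup_left) le_sup_left
    (norm_of_le le_sup_left) (norm_of_le le_sup_right))
  have fin : T ⊓ 𝐂 Y = ⊥ → S ⊓ 𝐂 Y = ⊥ → False := fun a b =>
    T1 (eq_bot_mono f (le_inf le_rfl ((reg_of_prime pY a).cent_of_fpf_abel yT aS yS tS c3 b)))
  rw [cent_sup] at fS fT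
  rcases h with h | h
  · have h1 := (iS _ inf_le_left (norm_inf_cent tS nJ)
      (norm_inf_cent nS (norm_sup (norm_commutator nT h) h))).resolve_left S1
    have h2 : S ≤ 𝐂 (⁅T, B⁆ ⊔ B) := h1 ▸ inf_le_right
    have h3 : T ≤ 𝐂 B := comm_eq_bot.mp (eq_bot_mono f
      (le_inf (comm_le_left bT) (cent_symm (h2.trans (cent_anti le_sup_left)))))
    exact fin (eq_bot_mono fT (le_inf inf_le_left (inf_le_inf_right _ h3)))
      (eq_bot_mono fS (le_inf inf_le_left (inf_le_inf_right _ (h2.trans (cent_anti le_sup_right)))))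
  · have d := (aS.dprod_cent_comm yS c1').inf_cent (norm_inf_cent bS (le_sup_left.trans h))
      (norm_commutator bS (le_sup_left.trans h))
    have h1 : S ⊓ 𝐂 (⁅T, B⁆ ⊔ B) ≤ ⁅S, Y⁆ := by
      refine (inf_le_inf_left _ (cent_anti le_sup_right)).trans (d.sup.ge.trans (sup_le ?_ inf_le_left))
      rw [inf_assoc, inf_comm (𝐂 Y), fS]; exact bot_le
    have nSY := norm_commutator nS h
    have h2 : (⨆ g : (B ⊔ Y : Subgroup Γ), cj (g : Γ) (S ⊓ 𝐂 (⁅T, B⁆ ⊔ B))) ≤ ⁅S, Y⁆ :=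
      iSup_le fun g => cj_le_of_norm (nSY g.2) h1
    have h3 := (iS _ (h2.trans (comm_le_left yS)) (norm_iSup fun g => by
      have := cj_mono (g : Γ) (norm_inf_cent tS nJ)
      rwa [cj_norm, cj_of_norm (nT g.2)] at this) (norm_iSup_cj _ _)).resolve_left fun a =>
      S1 (eq_bot_mono a (le_trans (cj_of_mem (one_mem _)).ge
        (le_iSup (fun g : (B ⊔ Y : Subgroup Γ) => cj (g : Γ) (S ⊓ 𝐂 (⁅T, B⁆ ⊔ B))) 1)))
    have h4 : S ⊓ 𝐂 Y = ⊥ :=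
      BG.eq_bot_mono (aS.comm_inf_cent yS c1') (inf_le_inf_right _ (h3.ge.trans h2))
    rcases iT _ (comm_le_left yT) (norm_commutator nT h) with a | a
    · have h5 := comm_sup_inf_cent bT c2 (Or.inr aT.sol)
      rw [eq_bot_mono fT (le_inf inf_le_left (le_inf inf_le_right
        (inf_le_left.trans (comm_eq_bot.mp a)))), sup_bot_eq] at h5
      have h6 := aS.comm_inf_cent tS c3
      rw [e] at h6
      exact S1 (eq_bot_mono h6 (inf_le_inf_left _ (cent_anti (h5.ge.trans le_sup_left))))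
    · have h5 := aT.comm_inf_cent yT c2'
      rw [a] at h5
      exact fin h5 h4

/-- the top of the tower -/
structure Top (K A T N : Subgroup Γ) (q t : ℕ) : Prop where
  lv : Lv K (A ⊔ T) T N q
  pT : PiGrp {t} T
  min : ∀ X, X < T → A ≤ 𝐍 X → ⁅N, X⁆ ≤ LM K T N
  cN : (♯A).Coprime (♯N)
  cT : (♯A).Coprime (♯T)
  fN : N ⊓ 𝐂 A = ⊥
  fT : T ⊓ 𝐂 A = ⊥

theorem Top.kc {K A T N B : Subgroup Γ} {q t : ℕ} (h : Top K A T N q t) (pq : PQ A) (hB : B ≤ A)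
    (B1 : B ≠ ⊥) (BA : B ≠ A) : N ≤ LM K T N ⊔ ⁅N, ⁅T, B⁆ ⊔ B⁆ := by
  obtain ⟨-, Y, hY, pY, e, n⟩ := pq B hB B1 BA
  have l := h.lv
  have aN : A ≤ 𝐍 N := le_sup_left.trans l.nP
  have aT : A ≤ 𝐍 T := le_sup_left.trans l.nT
  have aM : A ≤ 𝐍 (LM K T N) := le_sup_left.trans l.nM
  have tM : T ≤ 𝐍 (LM K T N) := le_sup_right.trans l.nM
  obtain ⟨z1, z2, z3, z4, z5, -⟩ := faithful_quot (LM_le K T N) l.der_le l.nTP tM l.cop
  set Z := LM K T N ⊔ T ⊓ centMod N (LM K T N) with hZ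
  have zA := z3 A aN aM aT
  have zT := z3 T l.nTP tM (le_norm_self T)
  have cZ : (♯A).Coprime (♯Z) := Nat.Coprime.coprime_dvd_right
    (card_sup_dvd (Or.inr (inf_le_left.trans tM))) (Nat.Coprime.mul_right
      (coprime_mono h.cN le_rfl (LM_le _ _ _)) (coprime_mono h.cT le_rfl inf_le_left))
  have mT : ∀ X, X < T → A ≤ 𝐍 X → X ≤ Z := fun X a b =>
    z5 X a.le ((h.min X a b).trans le_sup_left)
  have T1 : ¬ T ≤ Z := fun a => l.not_le_LM (z2 ▸ le_inf le_rfl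
    (l.comm_eq.ge.trans ((commutator_mono le_rfl a).trans (comm_le_right z1))))
  have T0 : T ≠ ⊥ := fun a => T1 (a ▸ bot_le)
  have JA : ⁅T, B⁆ ⊔ B ≤ A ⊔ T := sup_le ((comm_le_left (hB.trans aT)).trans le_sup_right)
    (hB.trans le_sup_left)
  have eq : qt Z B ⊔ qt Z Y = qt Z A := by rw [← qt_sup (hB.trans zA) (hY.trans zA), e]
  have eY : ♯(qt Z Y) = ♯Y := card_qt_of_inf_bot (hY.trans zA)
    (BG.inf_eq_bot_of_coprime (coprime_mono cZ hY le_rfl).symm)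
  have := kc_aux (B := qt Z B) (Y := qt Z Y) z4
    ((abel_qt_iff zT).mpr (mT _ (h.pT.sol.der_lt T0) (aT.trans (norm_der T)))) (qt_norm Z l.nTP)
    (eq ▸ qt_norm Z aN) (eq ▸ qt_norm Z aT) (eY ▸ pY) (coprime_qt Z (coprime_mono h.cN hB le_rfl))
    (coprime_qt Z (coprime_mono h.cN hY le_rfl)) (coprime_qt Z (coprime_mono h.cT hB le_rfl))
    (coprime_qt Z (coprime_mono h.cT hY le_rfl)) (coprime_qt Z l.cop) (by
      rw [← qt_qp (K := Z) (𝐂 (qt Z N)), ← qt_inf_right _ (le_qp _), qp_cent_eq z1]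
      refine qt_of_le (z5 _ inf_le_left ?_)
      rw [commutator_comm]
      exact (commutator_mono inf_le_right le_rfl).trans (comm_centMod_le N Z))
    (by rw [eq, ← qt_inf_cent zA aN (coprime_mono h.cN le_rfl inf_le_left)
      (Or.inr (l.pi.sol.mono inf_le_left)), h.fN, qt_of_le bot_le])
    (by rw [eq, ← qt_inf_cent zA aT (coprime_mono h.cT le_rfl inf_le_left)
      (Or.inr (h.pT.sol.mono inf_le_left)), h.fT, qt_of_le bot_le])
    (by rw [← qt_comm z1 zT, l.comm_eq]) (by rwa [Ne, qt_eq_bot zT])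
    (fun X a b c => by
      have e1 : qt Z (N ⊓ qp Z X) = X := by rw [qt_inf_qp, inf_of_le_right a]
      rw [← e1]
      refine (l.le_or_eq inf_le_left (norm_inf l.nP
        (sup_le (norm_qp zA (eq ▸ c)) (norm_qp zT b)))).imp (fun d => ?_) fun d => by rw [d]
      exact qt_of_le (d.trans le_sup_left))
    (fun X a c => by
      have e1 : qt Z (T ⊓ qp Z X) = X := by rw [qt_inf_qp, inf_of_le_right a]
      rw [← e1]
      refine ((inf_le_left : T ⊓ qp Z X ≤ T).lt_or_eq).imp (fun d => ?_) fun d => by rw [d]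
      exact qt_of_le (mT _ d (norm_inf aT (norm_qp zA (eq ▸ c)))))
    (by rw [eq]; exact n.imp (qt_norm Z) (qt_norm Z))
  have zJ : ⁅T, B⁆ ⊔ B ≤ 𝐍 Z := JA.trans (sup_le zA zT)
  rw [← qt_comm zT (hB.trans zA), ← qt_sup (le_sup_left.trans zJ) (hB.trans zA)] at this
  have h2 := comm_sup_inf_cent (qt_norm Z (JA.trans l.nP)) (coprime_qt Z
    (Nat.Coprime.coprime_dvd_left ((card_dvd JA).trans (card_sup_dvd (Or.inl aT)))
      (Nat.Coprime.mul_left h.cN l.cop))) (Or.inr z4.sol)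
  have h3 := comm_le_left (JA.trans l.nP)
  rw [this, sup_bot_eq, ← qt_comm z1 zJ] at h2
  have h4 := le_inf le_rfl ((qt_le_qt_iff z1 (h3.trans z1)).mp h2.ge)
  rwa [inf_sup_right h3 (Or.inr (h3.trans z1)), z2] at h4

variable {k : Type*} [Field k] {W : Type*} [AddCommGroup W] [Module k W]

theorem RepOn.wt_fix {H A B : Subgroup Γ} {ρ : Γ → End k W} (h : RepOn H ρ) (hB : B ≤ H)
    (hA : A ≤ H) (n : A ≤ 𝐍 B) (kA : ((♯A : ℕ) : k) ≠ 0) (kB : ((♯B : ℕ) : k) ≠ 0)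
    (f : FixV ρ A = ⊥) {ξ : Γ → k} {w : W} (hw : w ∈ Wt ρ B ξ)
    (hf : w ∈ FixV ρ (A ⊓ StabCh B ξ)) : w = 0 := by_contra fun h0 =>
  h.nrm_ne_zero hB hA n kA kB hw h0 hf ((Submodule.eq_bot_iff _).mp f _ (h.nrm_mem hA w))

theorem RepOn.stab_ne_bot {H A B : Subgroup Γ} {ρ : Γ → End k W} (h : RepOn H ρ) (hB : B ≤ H)
    (hA : A ≤ H) (n : A ≤ 𝐍 B) (kA : ((♯A : ℕ) : k) ≠ 0) (kB : ((♯B : ℕ) : k) ≠ 0)
    (f : FixV ρ A = ⊥) {ξ : Γ → k} {w : W} (hw : w ∈ Wt ρ B ξ) (h0 : w ≠ 0) :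
    A ⊓ StabCh B ξ ≠ ⊥ := fun e =>
  h0 (h.wt_fix hB hA n kA kB f hw (e ▸ mem_fixV_bot ρ h.one w))

theorem mem_stabCh_cjf {B : Subgroup Γ} {ξ : Γ → k} {g t : Γ} (ht : t ∈ 𝐍 B)
    (h : g ∈ StabCh B (cjf t ξ)) : t⁻¹ * g * t ∈ StabCh B ξ := by
  refine ⟨mul_mem (mul_mem (inv_mem ht) h.1) ht, fun b hb => ?_⟩
  have := h.2 _ (conj_mem_of_norm ht hb)
  simp only [cjf] at this
  convert this using 2 <;> group

theorem mem_stabCh_cjf' {B : Subgroup Γ} {ξ : Γ → k} {g t : Γ} (ht : t ∈ 𝐍 B)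
    (h : t⁻¹ * g * t ∈ StabCh B ξ) : g ∈ StabCh B (cjf t ξ) := by
  refine ⟨by simpa [mul_assoc] using mul_mem (mul_mem ht h.1) (inv_mem ht), fun b hb => ?_⟩
  have := h.2 _ (conj_mem_of_norm' ht hb)
  simp only [cjf]
  convert this using 2; group

theorem comm_eq_of_fpf {X A : Subgroup Γ} (n : A ≤ 𝐍 X) (c : (♯A).Coprime (♯X)) (s : Sol X)
    (f : X ⊓ 𝐂 A = ⊥) : ⁅X, A⁆ = X := by
  have := comm_sup_inf_cent n c (Or.inr s)
  rwa [f, sup_bot_eq] at this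

theorem RS.restrict' {K H T P A : Subgroup Γ} {p : ℕ} {ρ : Γ → End k W} (h : RS K H T P p A ρ)
    {ξ : Γ → k} {w : W} (hw : w ∈ Wt ρ (LM K T P) ξ) (h0 : w ≠ 0) (hA : A ≤ StabCh (LM K T P) ξ) :
    ∃ σ : Γ → End k (Wt ρ (LM K T P) ξ), CS ((H ⊔ P) ⊓ StabCh (LM K T P) ξ) P A σ ∧
      (∀ g ∈ (H ⊔ P) ⊓ StabCh (LM K T P) ξ, ∀ u, (σ g u : W) = ρ g u) ∧
      ∀ n, n ∈ Rad P σ ↔ n ∈ P ∧ ∀ m ∈ P, ξ ⁅n, m⁆ = 1 := by
  have hP := le_inf (le_sup_right : P ≤ H ⊔ P) (h.P_le hw h0)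
  obtain ⟨σ, hσ, e⟩ := (h.rep.mono inf_le_left).restrict
    (h.rep.stab_wt_of_le h.hM inf_le_left (inf_le_right : _ ≤ StabCh (LM K T P) ξ))
  have hsc : ∀ z ∈ LM K T P, ∀ v, σ z v = ξ z • v := fun z hz v =>
    Subtype.ext (by rw [e z (hP (LM_le K T P hz)), v.2 z hz]; rfl)
  have hc : ∀ a ∈ P, ∀ b ∈ P, ⁅a, b⁆ ∈ LM K T P := fun a ha b hb =>
    h.lv.der_le (commutator_mem_commutator ha hb)
  refine ⟨σ, ⟨hσ, hP, le_inf h.hA' hA, h.nA, h.pA, h.kA, h.kP, h.c, h.lv.pi.sol,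
    fun a ha b hb => ⟨_, hsc _ (hc a ha b hb)⟩⟩, e, fun n => ?_⟩
  rw [hσ.mem_rad' hP]
  refine and_congr_right fun hn => forall₂_congr fun m hm => ⟨fun a => ?_, fun a => ?_⟩
  · refine wt_eq_one hw h0 (hc n hn m hm) ?_
    have := e _ (hP (LM_le K T P (hc n hn m hm))) ⟨w, hw⟩
    rw [a] at this; exact this.symm
  · ext v
    rw [hsc _ (hc n hn m hm), a, one_smul]; rfl

theorem Top.false [IsAlgClosed k] [FiniteDimensional k W] [Nontrivial W] {K A T N : Subgroup Γ}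
    {q t : ℕ} (h : Top K A T N q t) (pq : PQ A) {ρ : Γ → End k W}
    (rs : ∀ B, B ≤ A → (♯B).Prime → RS K (A ⊔ T) T N q B ρ) (rep : RepOn (A ⊔ T ⊔ N) ρ)
    (kA : ((♯A : ℕ) : k) ≠ 0) (kN : ((♯N : ℕ) : k) ≠ 0) (fN : FixV ρ N = ⊥) (f : FixV ρ A = ⊥) :
    False := by
  have l := h.lv
  have hA : A ≤ A ⊔ T ⊔ N := le_sup_left.trans le_sup_left
  have hT : T ≤ A ⊔ T ⊔ N := le_sup_right.trans le_sup_left
  have aN : A ≤ 𝐍 N := le_sup_left.trans l.nP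
  have aT : A ≤ 𝐍 T := le_sup_left.trans l.nT
  have aM : A ≤ 𝐍 (LM K T N) := le_sup_left.trans l.nM
  have ML := LM_le K T N
  have eN := comm_eq_of_fpf aN h.cN l.pi.sol h.fN
  by_cases hc : ⁅N, N⁆ ≤ Kr (A ⊔ T ⊔ N) ρ
  · obtain ⟨w, -, h0, ξ, hw⟩ := rep.exists_wt le_sup_right
      (rep.comm_of_kr le_sup_right le_sup_right hc) (U := ⊤) top_ne_bot fun _ _ _ _ => trivial
    have nt : ∀ (ξ : Γ → k) (w : W), w ∈ Wt ρ N ξ → w ≠ 0 → ¬ ∀ n ∈ N, ξ n = 1 :=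
      fun ξ w hw h0 a => h0 ((Submodule.eq_bot_iff _).mp fN _ fun g hg => by
        rw [hw g hg, a g hg, one_smul])
    have hw' := fun t (ht : t ∈ T) => rep.map_wt le_sup_right (hT ht) (l.nTP ht) hw
    have h0' := fun t (ht : t ∈ T) => rep.ne_zero (hT ht) h0
    set S := (A ⊔ T) ⊓ StabCh N ξ
    set B := A ⊓ (T ⊔ S)
    have BA : B ≠ A := fun e => by
      obtain ⟨t, ht, e'⟩ := exists_cj_le_of_le_sup (inf_le_left.trans l.nT : S ≤ 𝐍 T)
        (e.ge.trans inf_le_right) h.cT (Or.inr h.pT.sol)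
      have ht' := T.inv_mem ht
      refine nt _ _ (hw' _ ht') (h0' _ ht') fun n hn =>
        (rep.isChar le_sup_right (hw' _ ht') (h0' _ ht')).eq_one_of_le_stabCh (A := A)
          (fun a ha => mem_stabCh_cjf' (l.nTP ht') ?_) (eN.symm ▸ hn)
      rw [inv_inv]
      exact (e' (conj_mem_cj.mpr ha)).2
    have hle : ∀ t ∈ T, A ⊓ StabCh N (cjf t ξ) ≤ B := fun t ht a ha => by
      refine ⟨ha.1, ?_⟩
      have h1 : t⁻¹ * a * t ∈ S := mem_inf.mpr ⟨mul_mem (mul_mem (inv_mem (mem_sup_right ht))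
        (mem_sup_left ha.1)) (mem_sup_right ht), mem_stabCh_cjf (l.nTP ht) ha.2⟩
      have := conj_mem_of_norm ((norm_of_le (le_sup_left : T ≤ T ⊔ S)) ht) (mem_sup_right h1)
      simpa [mul_assoc] using this
    have hne := fun t (ht : t ∈ T) =>
      rep.stab_ne_bot le_sup_right hA aN kA kN f (hw' t ht) (h0' t ht)
    have B1 : B ≠ ⊥ := ne_bot_mono (hne 1 T.one_mem) (hle 1 T.one_mem)
    have pB := (pq B inf_le_left B1 BA).1
    have hB : ∀ t ∈ T, ∀ b ∈ B, t⁻¹ * b * t ∈ StabCh N ξ := fun t ht b hb =>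
      mem_stabCh_cjf (l.nTP ht) ((eq_of_prime_of_ne_bot pB (hle t ht) (hne t ht)).ge hb).2
    have hB1 : B ≤ StabCh N ξ := fun b hb => by simpa using hB 1 T.one_mem b hb
    have hJ : ⁅T, B⁆ ⊔ B ≤ StabCh N ξ := sup_le (commutator_le.mpr fun t ht b hb => by
      have := mul_mem (hB _ (T.inv_mem ht) b hb) (inv_mem (hB1 hb))
      rwa [inv_inv] at this) hB1
    have c := rep.isChar le_sup_right hw h0
    suffices N ≤ c.ker from nt ξ w hw h0 fun n hn => (this hn).2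
    refine (h.kc pq inf_le_left B1 BA).trans (sup_le
      (fun m hm => ⟨ML hm, wt_eq_one hw h0 (ML hm) ?_⟩)
      fun m hm => ⟨comm_le_left (hJ.trans (stabCh_le _ _)) hm, c.eq_one_of_le_stabCh hJ hm⟩)
    rw [rep.eq_one ((rs B inf_le_left pB).M_le_kr hc) hm]; rfl
  have hM : LM K T N ≤ A ⊔ T ⊔ N := ML.trans le_sup_right
  have kM := cast_card_ne_zero kN ML
  have A1 : A ≠ ⊥ := fun a => l.ne_bot (by rw [← eN, a]; simp)
  obtain ⟨B₀, hB₀, pB₀⟩ := exists_prime_card_le A1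
  rw [commutator_le] at hc
  push Not at hc
  obtain ⟨n, hn, m, hm, e⟩ := hc
  have hnm := l.der_le (commutator_mem_commutator hn hm)
  obtain ⟨ξ, w, hw, h0, e'⟩ := (rs B₀ hB₀ pB₀).exists_wt_comm hn hm fun a =>
    e (rep.mem_ker.mpr ⟨hM hnm, a⟩)
  have c := rep.isChar hM hw h0
  set B := A ⊓ StabCh (LM K T N) ξ
  have B1 : B ≠ ⊥ := rep.stab_ne_bot hM hA aM kA kM f hw h0
  have BA : B ≠ A := fun a => e' (c.eq_one_of_le_stabCh (a.ge.trans inf_le_right)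
    ((comm_eq_of_fpf aM (coprime_mono h.cN le_rfl ML) (l.pi.sol.mono ML)
      (eq_bot_mono h.fN (inf_le_inf_right _ ML))).symm ▸ hnm))
  have pB := (pq B inf_le_left B1 BA).1
  have r := rs B inf_le_left pB
  obtain ⟨σ, cs, eσ, hr⟩ := r.restrict' hw h0 inf_le_right
  haveI : Nontrivial (Wt ρ (LM K T N) ξ) :=
    Submodule.nontrivial_iff_ne_bot.mpr fun a => h0 ((Submodule.eq_bot_iff _).mp a w hw)
  have hT' := le_inf r.hT (r.T_le hw h0)
  refine cs.core_b (Λ := Set.univ) l.pi hT' l.nTP (inf_le_left.trans aT) h.pT l.piT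
    (coprime_mono h.cT inf_le_left le_rfl) l.comm_eq (fun a => e' (((hr n).mp ?_).2 m hm))
    ⟨Submodule.span_univ, fun _ _ _ _ => trivial, fun v _ _ => Subtype.ext
      (rep.wt_fix hM hA aM kA kM f (nrm σ B v).2 fun g hg => by
        rw [← eσ g (cs.hA hg), cs.rep.nrm_mem cs.hA v g hg])⟩
  have nR := cs.rep.norm_rad cs.hN hT' l.nTP
  have h1 : B ≤ centMod N (Rad N σ) := le_centMod.mpr
    ⟨cs.rep.norm_rad cs.hN cs.hA cs.n, by rwa [commutator_comm]⟩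
  have h2 : ⁅T, B⁆ ⊔ B ≤ centMod N (Rad N σ) := sup_le
    ((commutator_mono le_rfl h1).trans (comm_le_right (norm_centMod l.nTP nR))) h1
  refine (h.kc pq inf_le_left B1 BA).trans (sup_le (fun z hz => (hr z).mpr ⟨ML hz, fun y hy =>
    wt_eq_one hw h0 (l.der_le (commutator_mem_commutator (ML hz) hy)) ?_⟩) ?_) hn
  · rw [rep.eq_one r.MP (commutator_mem_commutator hz hy)]; rfl
  · rw [commutator_comm]; exact (le_centMod.mp h2).2

theorem cast_ne_zero_of_coprime (k : Type*) [Field k] {p : ℕ} [CharP k p] {A V : Subgroup Γ}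
    (pV : PiGrp {p} V) (V1 : V ≠ ⊥) (c : (♯A).Coprime (♯V)) : ((♯A : ℕ) : k) ≠ 0 :=
  cast_ne_zero_of_pi k (pV.prime V1) ((piNat_compl_single (pV.prime V1)).mpr fun a =>
    not_dvd_of_coprime c (pV.prime V1) a (pV.dvd_card V1))

theorem FS_two_of_pq {G A : Subgroup Γ} (nA : A ≤ 𝐍 G) (pq : PQ A) (c : (♯A).Coprime (♯G))
    (s : Sol G) (f : G ⊓ 𝐂 A = ⊥) : FS G 2 = G := by
  by_contra hne
  obtain ⟨L, hL⟩ := exists_chain nA c s
  obtain ⟨t, X, pX, hX, nX, hXF⟩ := hL.exists_top s hne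
  obtain ⟨T, hT, ⟨aT, hTF⟩, hmin⟩ := exists_minimal (P := fun T => A ≤ 𝐍 T ∧ ¬ T ≤ FS G 2)
    ⟨(hL.le_A _).trans nX, hXF⟩
  have hT' := hT.trans hX
  have hH : A ⊔ T ≤ L 1 := sup_le (hL.le_A _) (hT'.trans (inf_le_left.trans (hL.anti _)))
  obtain ⟨N, q, -, hN, l⟩ := hL.exists_next hH le_sup_right (sup_le aT (le_norm_self _)) (pX.le hT)
    (hT'.trans inf_le_right) hTF
  obtain ⟨V, p, -, -, hV, l2⟩ := hL.exists_lv2 hH hN l
  have NG := le_of_FS hN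
  have TG := le_of_FS hT'
  have VG := le_of_FS hV
  have top : Top (FS G 1) A T N q t := ⟨l, pX.le hT, fun Y hY aY => le_trans (le_inf
    (comm_le_left (hY.le.trans l.nTP)) (comm_le_FS_of_coprime (hN.trans inf_le_right)
      (by_contra fun a => hY.ne (hmin Y ⟨aY, a⟩ hY.le)) (coprime_mono l.cop hY.le le_rfl).symm))
    l.inf_le_LM, coprime_mono c le_rfl NG, coprime_mono c le_rfl TG,
    eq_bot_mono f (inf_le_inf_right _ NG), eq_bot_mono f (inf_le_inf_right _ TG)⟩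
  haveI := Fact.mk l2.bot.prime
  obtain ⟨U, ρ, Λ, d, hU, hk, hd⟩ := l2.bot.exists_dualMod (AlgebraicClosure (ZMod p))
    {LM (FS G 0) N V} ⟨_, rfl⟩ (by rintro R rfl; exact ⟨le_rfl, l2.bot.LM_lt⟩)
    (by rintro g hg R rfl; exact cj_of_norm (l2.bot.nM hg))
  have kA := cast_ne_zero_of_coprime (AlgebraicClosure (ZMod p)) l2.bot.pi l2.bot.ne_bot
    (coprime_mono c le_rfl VG)
  have kN := cast_ne_zero_of_pi (AlgebraicClosure (ZMod p)) l2.bot.prime l2.bot.piT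
  have fN := d.fixV_eq_bot le_sup_right l2.bot.comm_eq
  have hA : A ≤ A ⊔ T ⊔ N := le_sup_left.trans le_sup_left
  exact top.false pq (fun B hB pB => ⟨l, d.rep, d.rep.le_kr (inf_le_left.trans le_sup_right)
    (hk _ (inf_le_left.trans le_sup_right) l2.ker),
    fun Z a b => (hd Z a b).imp_left (d.rep.le_kr a), fN, hB.trans le_sup_left, pB,
    cast_card_ne_zero kA hB, kN, coprime_mono c hB NG⟩) d.rep kA kN fN (d.fixV_eq_bot hA
      (comm_eq_of_fpf (hA.trans l2.bot.nP) (coprime_mono c le_rfl VG) l2.bot.pi.sol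
        (eq_bot_mono f (inf_le_inf_right _ VG))))

theorem pq_of_card {A : Subgroup Γ} {p q : ℕ} (hp : p.Prime) (hq : q.Prime) (e : ♯A = p * q)
    (h : p = q → Abelem p A) : PQ A := by
  intro B hB B1 BA
  have key : ∀ {p q : ℕ}, p.Prime → q.Prime → ♯A = p * q → (p = q → Abelem p A) → ♯B = p →
      ∃ Y, Y ≤ A ∧ (♯Y).Prime ∧ B ⊔ Y = A ∧ (A ≤ 𝐍 B ∨ A ≤ 𝐍 Y) := by
    intro p q hp hq e h eB
    by_cases hpq : p = q
    · obtain ⟨Y, d⟩ := (h hpq).exists_compl hB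
      have := d.card
      rw [eB, e] at this
      exact ⟨Y, d.right_le, Nat.eq_of_mul_eq_mul_left hp.pos this ▸ hq, d.sup,
        Or.inl d.normal_left.norm⟩
    obtain ⟨Y, hY, eY⟩ := exists_card_eq_prime hq (e ▸ dvd_mul_left q p)
    have nn : ∀ {X : Subgroup Γ} {r s : ℕ}, X ≤ A → ♯X = r → r.Prime → s.Prime → ♯A = r * s →
        s ≤ r → A ≤ 𝐍 X := by
      intro X r s hX eX hr hs eA le
      have h1 := card_mul_relIndex hX
      rw [eX, eA] at h1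
      have h2 : (X.subgroupOf A).Normal := normal_of_index_eq_minFac_card (by
        rw [show (X.subgroupOf A).index = s from Nat.eq_of_mul_eq_mul_left hr.pos h1, eA]
        refine le_antisymm ?_ (Nat.minFac_le_of_dvd hs.two_le (dvd_mul_left s r))
        have h3 := Nat.minFac_prime (n := r * s) (by nlinarith [hr.two_le, hs.two_le])
        rcases (Nat.Prime.dvd_mul h3).mp (Nat.minFac_dvd _) with a | a
        · exact le.trans ((Nat.prime_dvd_prime_iff_eq h3 hr).mp a).ge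
        · exact ((Nat.prime_dvd_prime_iff_eq h3 hs).mp a).ge)
      have := (normal_iff_map_subtype.mp h2).norm
      rwa [map_subgroupOf hX] at this
    have n : A ≤ 𝐍 B ∨ A ≤ 𝐍 Y := (le_total q p).imp (nn hB eB hp hq e)
      (nn hY eY hq hp (e.trans (mul_comm p q)))
    refine ⟨Y, hY, eY ▸ hq, eq_of_card_eq (sup_le hB hY) ?_, n⟩
    rw [card_sup_of_inf_bot (n.symm.imp hB.trans hY.trans) (BG.inf_eq_bot_of_coprime (by
      rw [eB, eY]; exact (Nat.coprime_primes hp hq).mpr hpq)), eB, eY, e]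
  have hd := card_dvd hB
  rw [e] at hd
  have h1 : ♯B ≠ 1 := fun a => B1 (card_eq_one'.mp a)
  have h2 : ♯B ≠ p * q := fun a => BA (eq_of_card_eq hB (a.trans e.symm))
  obtain ⟨a, b, ha, hb, e'⟩ := (Nat.dvd_mul).mp hd
  rcases (Nat.dvd_prime hp).mp ha with rfl | rfl <;> rcases (Nat.dvd_prime hq).mp hb with rfl | rfl
  · exact absurd e'.symm h1
  · rw [one_mul] at e'
    exact ⟨e' ▸ hq, key hq hp (e.trans (mul_comm _ _)) (fun x => x ▸ h x.symm) e'.symm⟩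
  · rw [mul_one] at e'
    exact ⟨e' ▸ hp, key hp hq e h e'.symm⟩
  · exact absurd e'.symm h2

open CF.Coprime in
/-- passing from an operator group to the ambient setting -/
theorem exists_ambient' {G A : Type*} [Group G] [Finite G] [Group A] [Finite A]
    (φ : A →* MulAut G) (hf : ∀ g : G, (∀ a, φ a g = g) → g = 1) :
    (sdR φ ⊤ ≤ 𝐍 (sdL φ ⊤)) ∧ sdL φ ⊤ ⊓ 𝐂 (sdR φ ⊤) = ⊥ ∧ ♯(sdL φ ⊤) = Nat.card G ∧
      ♯(sdR φ ⊤) = Nat.card A ∧ ∀ n, FitT (sdL φ ⊤) n → FitT G n := by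
  refine ⟨le_normalizer_of_normal, ?_, by rw [card_sdL, card_top], by rw [card_sdR, card_top],
    fun n h => h.of_injective (Subgroup.topEquiv.symm.trans (sdLEquiv φ ⊤)).toMonoidHom
      (Subgroup.topEquiv.symm.trans (sdLEquiv φ ⊤)).injective⟩
  rw [sdL_inf_centralizer, sdL_eq_bot_iff, eq_bot_iff]
  exact fun g hg => mem_bot.mpr (hf g fun a => hg.2 a (mem_top a))

end CF.Fgs1
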