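/-
A doubly transitive group of degree `|V|` acting faithfully on the `2`-group `V`, with point stabilizer of odd order
containing a normal cyclic subgroup transitive on the other points and on `V#`.
-/
import Cfsg.Agent.Fgs1.IcA
import Cfsg.Agent.S0200
import Cfsg.Agent.S0885
set_option autoImplicit false
set_option linter.unusedSectionVars false

namespace CF.KI
open Subgroup Cfsg CF.BG CF.Sig CF.GW CF.Ab2 MulAction
open scoped commutatorElement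

variable {M Γ Ω : Type*} [Group M] [Finite M] [Group Γ] [Finite Γ] [MulAction M Ω] [Finite Ω]
variable {ρ : M →* Γ} {U V : Subgroup Γ} {K R : Subgroup M} {ω a b c d e : Ω} {f g h k s φ ψ : M} {v w : Γ}

structure BS (ρ : M →* Γ) (V : Subgroup Γ) (ω : Ω) (h : M) : Prop where
  k : P2 V
  four : 4 ≤ ♯V
  nV : ∀ g, ρ g ∈ 𝐍 V
  fa : ∀ g, ρ g ∈ 𝐂 V → g = 1
  od : Od (stabilizer M ω)
  card : Nat.card Ω = ♯V
  pt : ∀ a, ∃ g : M, g • ω = a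
  hB : h • ω = ω
  nH : stabilizer M ω ≤ 𝐍 (zpowers h)
  tr : Tr ((zpowers h).map ρ) V
  two : ∀ a b, a ≠ ω → b ≠ ω → ∃ k ∈ zpowers h, k • a = b

namespace BS
variable (H : BS ρ V ω h)
include H

theorem inj : Function.Injective ρ := (injective_iff_map_eq_one ρ).2 fun g e => H.fa g (e ▸ one_mem _)
theorem HB : zpowers h ≤ stabilizer M ω := zpowers_le.2 H.hB

theorem eq_one (hv : v ∈ V) (v1 : v ≠ 1) (c : ρ g ∈ 𝐂₁ v) (e : g ∈ 𝐂₁ h) : g = 1 :=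
  H.fa g (mem_cent.2 fun w hw => by
    by_cases w1 : w = 1
    · simp [w1]
    obtain ⟨_, ⟨j, hj, rfl⟩, rfl⟩ := H.tr v hv v1 w hw w1
    have : ρ j * ρ g = ρ g * ρ j := by
      rw [← map_mul, ← map_mul, mem_cent.1 (cent_zpowers h ▸ e) j hj]
    rw [show ρ j * v * (ρ j)⁻¹ * ρ g = ρ j * v * ((ρ j)⁻¹ * ρ g * ρ j) * (ρ j)⁻¹ by group, mul_assoc (ρ j)⁻¹, ← this,
      inv_mul_cancel_left, mul_assoc _ v, ← mem_cent1.1 c, ← mul_assoc, ← mul_assoc, this]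
    simp only [mul_assoc])

theorem regV (hk : k ∈ zpowers h) (hv : v ∈ V) (v1 : v ≠ 1) (c : ρ k ∈ 𝐂₁ v) : k = 1 :=
  H.eq_one hv v1 c (mem_cent1.2 ((abel_zpowers h).mul_comm hk (mem_zpowers h)))

theorem exv : ∃ v ∈ V, v ≠ 1 := exists_mem_ne_one (one_lt_card.1 (by have := H.four; omega))

theorem cardH : ♯(zpowers h) + 1 = ♯V := by
  obtain ⟨v, hv, v1⟩ := H.exv
  rw [← H.tr.card (fun _ ⟨g, _, e⟩ => e ▸ H.nV g) hv v1, relIndex_of_inf_bot, card_map H.inj]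
  refine eq_bot_of_forall ?_
  rintro _ ⟨c, k, hk, rfl⟩
  rw [H.regV hk hv v1 c, map_one]

theorem reg (hk : k ∈ zpowers h) (n : a ≠ ω) (e : k • a = a) : k = 1 := by
  have h1 := CF.ZD.ncard_of_trans (P := zpowers h) (ω := a) (S := {ω}ᶜ) (fun g hg (e : g • a = ω) =>
    n ((smul_left_cancel_iff g).1 (e.trans (H.HB hg).symm))) fun y hy => H.two a y n hy
  have h2 := Set.ncard_add_ncard_compl {ω}
  have h3 := card_inf_mul_relIndex (stabilizer M a) (zpowers h)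
  have := H.cardH
  have := card_pos' (zpowers h)
  rw [Set.ncard_singleton, H.card, h1] at h2
  rw [show (stabilizer M a).relIndex (zpowers h) = ♯(zpowers h) by omega, Nat.mul_eq_right (by omega), card_eq_one'] at h3
  exact eq_one_of_mem_bot h3 ⟨e, hk⟩

theorem cenH (e : g ∈ 𝐂₁ h) : g ∈ zpowers h := by
  obtain ⟨v, hv, v1⟩ := H.exv
  obtain ⟨_, ⟨k, hk, rfl⟩, f⟩ := H.tr v hv v1 _ (conj_mem_of_norm (H.nV g) hv) (conj_ne_one v1 _)
  have := H.eq_one (g := k⁻¹ * g) hv v1 (by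
    rw [mem_cent1, map_mul, map_inv, ← mul_inv_eq_iff_eq_mul,
      show (ρ k)⁻¹ * ρ g * v * ((ρ k)⁻¹ * ρ g)⁻¹ = (ρ k)⁻¹ * (ρ g * v * (ρ g)⁻¹) * ρ k by group, ← f]
    group) (mul_mem (inv_mem (mem_cent1.2 ((abel_zpowers h).mul_comm hk (mem_zpowers h)))) e)
  exact inv_mul_eq_one.1 this ▸ hk

theorem comm (n : a ≠ ω) (hf : f ∈ stabilizer M ω ⊓ stabilizer M a) (hg : g ∈ stabilizer M ω ⊓ stabilizer M a) :
    f * g = g * f := by
  have := commutator_mem_commutator hf hg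
  exact commutatorElement_eq_one_iff_mul_comm.1 (H.reg (H.cenH (cent_zpowers h ▸ (cyc_zpowers h).der_le_cent
    (inf_le_left.trans H.nH) this)) n (der_le _ this).2)

/-- an element of `⟨h⟩` between two fixed points of `ψ` commutes with `ψ` -/
theorem cen_of (hψ : ψ • ω = ω) (hk : k ∈ zpowers h) (n : a ≠ ω) (e : ψ • a = a) (e' : ψ • k • a = k • a) :
    k ∈ 𝐂₁ ψ := by
  have := H.reg (mul_mem (inv_mem hk) (conj_mem_of_norm (H.nH hψ) hk)) n (by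
    rw [mul_smul, mul_smul, mul_smul, inv_smul_eq_iff.2 e.symm, e', inv_smul_smul])
  exact mem_cent1.2 (mul_inv_eq_iff_eq_mul.1 (inv_mul_eq_one.1 this).symm).symm

theorem loc (hc : ψ • c = c) (hd : ψ • d = d) (he : ψ • e = e) (n : d ≠ c) (n' : e ≠ c) :
    ∃ k ∈ 𝐂₁ ψ, k • c = c ∧ k • d = e := by
  obtain ⟨g, rfl⟩ := H.pt c
  have f : ∀ x : Ω, ψ • x = x → (g⁻¹ * ψ * g) • g⁻¹ • x = g⁻¹ • x := fun x e => by
    rw [mul_smul, mul_smul, smul_inv_smul, e]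
  have m : g⁻¹ • d ≠ ω := fun e => n (inv_smul_eq_iff.1 e)
  obtain ⟨k, hk, e⟩ := H.two (g⁻¹ • d) (g⁻¹ • e) m fun e => n' (inv_smul_eq_iff.1 e)
  have := H.cen_of (by simpa using f _ hc) hk m (f d hd) (e ▸ f _ he)
  refine ⟨g * k * g⁻¹, ?_, by rw [mul_smul, mul_smul, inv_smul_smul, H.HB hk], by
    rw [mul_smul, mul_smul, e, smul_inv_smul]⟩
  rw [mem_cent1] at this ⊢
  rw [show g * k * g⁻¹ * ψ = g * (k * (g⁻¹ * ψ * g)) * g⁻¹ by group, this]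
  group

theorem two' {a b c d : Ω} (n : a ≠ b) (n' : c ≠ d) : ∃ g : M, g • a = c ∧ g • b = d := by
  obtain ⟨x, rfl⟩ := H.pt a
  obtain ⟨y, rfl⟩ := H.pt c
  obtain ⟨k, hk, e⟩ := H.two (x⁻¹ • b) (y⁻¹ • d) (fun e => n (inv_smul_eq_iff.1 e).symm)
    fun e => n' (inv_smul_eq_iff.1 e).symm
  exact ⟨y * k * x⁻¹, by rw [mul_smul, mul_smul, inv_smul_smul, H.HB hk], by rw [mul_smul, mul_smul, e, smul_inv_smul]⟩

theorem odd_of (e : g • c = c) : Odd (orderOf g) := by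
  obtain ⟨x, rfl⟩ := H.pt c
  rw [← CF.Invol.orderOf_conj' x g]
  exact eo_iff.2 (H.od.elt (show (x⁻¹ * g * x) • ω = ω by rw [mul_smul, mul_smul, e, inv_smul_smul]))

theorem move (i : Iv s) (c : Ω) : s • c ≠ c := fun e => by
  have := H.odd_of e
  rw [i] at this
  exact absurd this (by decide)

theorem isConj (i : Iv s) (j : Iv g) : IsConj s g := by
  obtain ⟨x, e, e'⟩ := H.two' (H.move i ω) (H.move j ω)
  refine (isConj_iff.2 ⟨x, rfl⟩).trans (CF.Invol.isConj_of_odd (i.conj x).sq j.sq (H.odd_of (c := ω) ?_))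
  rw [mul_smul, mul_smul, mul_smul, ← e, inv_smul_smul, smul_smul s, i.sq, one_smul, e']

theorem wiel (l : K ≤ zpowers h) (k1 : K ≠ ⊥) (r : Reg K R) (n : R ≤ 𝐍 K) (b : R ≤ stabilizer M ω) (lU : U ≤ V)
    (nU : (K ⊔ R).map ρ ≤ 𝐍 U) : ♯U = ♯(U ⊓ 𝐂 (R.map ρ) : Subgroup Γ) ^ ♯R := by
  have e : U ⊓ 𝐂 (K.map ρ) = ⊥ := eq_bot_of_forall fun v hv => by_contra fun v1 => k1 (eq_bot_of_forall
    fun k hk => H.regV (l hk) (lU hv.1) v1 (mem_cent1.2 (mem_cent.1 hv.2 _ (mem_map_of_mem ρ hk))))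
  have := CF.BG2.wielandt (r.map n ρ) (map_norm n ρ) (((abel_zpowers h).sol.mono l).map ρ) (H.k.le lU).sol
    (Subgroup.map_sup K R ρ ▸ nU) (cop2' (Subgroup.map_sup K R ρ ▸ (H.od.le (sup_le (l.trans H.HB) b)).map ρ) (H.k.le lU))
  rw [e, BG.eq_bot_mono e (inf_le_inf_left U (cent_anti le_sup_left)), card_map H.inj] at this
  simpa using this

theorem fixV (r : zpowers h ⊓ 𝐂₁ ψ = ⊥) (b : ψ • ω = ω) (hv : v ∈ V ⊓ 𝐂₁ (ρ ψ)) (v1 : v ≠ 1)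
    (hw : w ∈ V ⊓ 𝐂₁ (ρ ψ)) (w1 : w ≠ 1) : w = v := by
  obtain ⟨_, ⟨k, hk, rfl⟩, rfl⟩ := H.tr v hv.1 v1 w hw.1 w1
  have := H.regV (mul_mem (inv_mem hk) (conj_mem_of_norm (H.nH b) hk)) hv.1 v1 (by
    have h1 := mem_cent1.1 hv.2
    have h2 := mem_cent1.1 hw.2
    simp only [mem_cent1, map_mul, map_inv]
    rw [← mul_inv_eq_iff_eq_mul, show (ρ k)⁻¹ * (ρ ψ * ρ k * (ρ ψ)⁻¹) * v * ((ρ k)⁻¹ * (ρ ψ * ρ k * (ρ ψ)⁻¹))⁻¹ =
      (ρ k)⁻¹ * (ρ ψ * (ρ k * ((ρ ψ)⁻¹ * (v * ρ ψ)) * (ρ k)⁻¹)) * (ρ ψ)⁻¹ * ρ k by group, h1, inv_mul_cancel_left, ← h2]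
    group)
  rw [eq_one_of_mem_bot r ⟨hk, mem_cent1.2 (mul_inv_eq_iff_eq_mul.1 (inv_mul_eq_one.1 this).symm).symm⟩, map_one,
    one_mul, inv_one, mul_one]

theorem eight (h0 : ∀ N : Subgroup M, N.Normal → P2 N → N = ⊥) : ♯V = 8 := by
  have h4 := H.four
  obtain ⟨m, hm⟩ := H.k.card_pow
  have d2 : 2 ∣ ♯V := H.k.dvd_card (one_lt_card.1 (by omega))
  haveI : IsPretransitive M Ω := ⟨fun a b => by
    obtain ⟨x, rfl⟩ := H.pt a
    obtain ⟨y, rfl⟩ := H.pt b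
    exact ⟨y * x⁻¹, by rw [mul_smul, inv_smul_smul]⟩⟩
  obtain ⟨s0, -, i0⟩ := BG.exists_mem_orderOf_eq (H := (⊤ : Subgroup M)) p2 (by
    rw [card_top', ← (stabilizer M ω).card_mul_index, index_stabilizer_of_transitive, H.card]
    exact d2.mul_left _)
  obtain ⟨y, y1, o, e⟩ := Cfsg.Agent.S0200.result s0 i0 fun N n k m => Iv.ne_one i0 (eq_one_of_mem_bot
    (h0 N n (piGrp_of_isPGroup p2 k)) m)
  obtain ⟨p, hp, d⟩ := exists_prime_dvd_card (H := zpowers y) (by simpa using y1)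
  obtain ⟨φ0, m0, o0⟩ := BG.exists_mem_orderOf_eq hp d
  have po : Odd p := o0 ▸ eo_iff.2 ((eo_iff.1 o).of_mem_zpowers m0)
  haveI := Fact.mk hp
  obtain ⟨c, hc⟩ := (IsPGroup.of_card (G := zpowers φ0) (n := 1) (by rw [Nat.card_zpowers, o0, pow_one])
    ).nonempty_fixed_point_of_prime_not_dvd_card Ω (by
      rw [H.card, hm]
      exact fun d => absurd ((Nat.prime_dvd_prime_iff_eq hp p2).1 (hp.dvd_of_dvd_pow d) ▸ po) (by decide))
  obtain ⟨g, rfl⟩ := H.pt c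
  obtain ⟨s, φ, i, oφ, inv, b⟩ : ∃ s φ : M, Iv s ∧ orderOf φ = p ∧ s * φ * s⁻¹ = φ⁻¹ ∧ φ • ω = ω :=
    ⟨g⁻¹ * s0 * g, g⁻¹ * φ0 * g, Iv.conj' i0 g, by rw [CF.Invol.orderOf_conj', o0], by
      rw [show g⁻¹ * s0 * g * (g⁻¹ * φ0 * g) * (g⁻¹ * s0 * g)⁻¹ = g⁻¹ * (s0 * φ0 * s0⁻¹) * g by group,
        CF.Invol.inverts_of_mem_zpowers e m0]; group, by
      rw [mul_smul, mul_smul, show φ0 • g • ω = g • ω from hc ⟨φ0, mem_zpowers _⟩, inv_smul_smul]⟩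
  have n := H.move i ω
  have ss : s • s • ω = ω := by rw [smul_smul, i.sq, one_smul]
  have b' : φ • s • ω = s • ω := by
    rw [← inv_inv φ, ← inv, inv_smul_eq_iff, mul_smul, mul_smul, inv_smul_smul, b]
  have r : zpowers h ⊓ 𝐂₁ φ = ⊥ := eq_bot_of_forall fun k hk => by_contra fun k1 => by
    have f : φ • k • s • ω = k • s • ω := by rw [smul_smul, ← mem_cent1.1 hk.2, mul_smul, b']
    have n1 : k • s • ω ≠ ω := fun e => n ((smul_left_cancel_iff k).1 (e.trans (H.HB hk.1).symm))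
    obtain ⟨x, cx, -, ex⟩ := H.loc f b b' n1.symm fun e => k1 (H.reg hk.1 n e.symm)
    obtain ⟨y, cy, fy, ey⟩ := H.loc (d := x • s • ω) b' (by rw [smul_smul, ← mem_cent1.1 cx, mul_smul, b']) b
      (fun e => n ((smul_left_cancel_iff x).1 (e.trans ex.symm))) n.symm
    have := H.comm n (f := s * (y * x)) (mem_inf.2 ⟨by rw [mem_stabilizer_iff, mul_smul, mul_smul, ex, fy, ss], by
      rw [mem_stabilizer_iff, mul_smul, mul_smul, ey]⟩) ⟨b, b'⟩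
    have c : s ∈ 𝐂₁ φ := (mul_mem_cancel_right (mul_mem cy cx)).1 (mem_cent1.2 this)
    rw [mem_cent1.1 c, mul_inv_cancel_right, eq_inv_iff_mul_eq_one, ← pow_two, ← orderOf_dvd_iff_pow_eq_one, oφ,
      Nat.prime_dvd_prime_iff_eq hp p2] at inv
    exact absurd (inv ▸ po) (by decide)
  have cφ : ♯(zpowers φ) = p := by rw [Nat.card_zpowers, oφ]
  have r' : Reg (zpowers h) (zpowers φ) := reg_of_prime (cφ ▸ hp) (by rwa [cent_zpowers])
  have H1 : zpowers h ≠ ⊥ := one_lt_card.1 (by have := H.cardH; omega)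
  have nn : ∀ K : Subgroup M, K.map ρ ≤ 𝐍 V := fun K _ ⟨g, _, e⟩ => e ▸ H.nV g
  have w1 := H.wiel le_rfl H1 r' (zpowers_le.2 (H.nH b)) (zpowers_le.2 b) le_rfl (nn _)
  rw [cφ, MonoidHom.map_zpowers, cent_zpowers] at w1
  obtain ⟨v, hv, v1⟩ := exists_mem_ne_one (H := V ⊓ 𝐂₁ (ρ φ)) fun e => by
    rw [e, Subgroup.card_bot, one_pow] at w1
    omega
  have c2 : ♯(V ⊓ 𝐂₁ (ρ φ) : Subgroup Γ) ≤ 2 := by
    rw [← CF.ZD.ncard_coe, ← Set.ncard_pair v1]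
    refine Set.ncard_le_ncard (fun w hw => ?_) (Set.toFinite _)
    by_cases w1 : w = 1
    · exact .inr w1
    · exact .inl (H.fixV r b hv v1 hw w1)
  have vF : ∀ ψ ∈ stabilizer M ω ⊓ stabilizer M (s • ω), v ∈ 𝐂₁ (ρ ψ) := fun ψ hψ => by
    have e : ρ ψ * ρ φ = ρ φ * ρ ψ := by rw [← map_mul, ← map_mul, H.comm n hψ ⟨b, b'⟩]
    refine mem_cent1_comm.1 (mem_cent1.2 (mul_inv_eq_iff_eq_mul.1 (H.fixV r b hv v1 (mem_inf.2 ⟨conj_mem_of_norm (H.nV ψ) hv.1, ?_⟩)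
      (conj_ne_one v1 _))))
    rw [mem_cent1, show ρ ψ * v * (ρ ψ)⁻¹ * ρ φ = ρ ψ * (v * ((ρ ψ)⁻¹ * (ρ φ * ρ ψ))) * (ρ ψ)⁻¹ by group, ← e,
      inv_mul_cancel_left, mem_cent1.1 hv.2, ← mul_assoc, e]
    simp only [mul_assoc]
  have rF : Reg (zpowers h) (stabilizer M ω ⊓ stabilizer M (s • ω)) := reg_of_forall fun ψ hψ ψ1 k hk c =>
    by_contra fun k1 => by
      have cψ : φ ∈ 𝐂₁ ψ := mem_cent1.2 (H.comm n ⟨b, b'⟩ hψ)
      have w2 := H.wiel (K := zpowers h ⊓ 𝐂₁ ψ) (U := V ⊓ 𝐂₁ (ρ ψ)) inf_le_left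
        (ne_bot_of_mem ⟨hk, mem_cent1.2 c.symm⟩ k1) (r'.mono inf_le_left le_rfl)
        (norm_inf (zpowers_le.2 (H.nH b)) (norm_of_le (zpowers_le.2 cψ))) (zpowers_le.2 b) inf_le_left
        (norm_inf (nn _) (norm_of_le fun _ ⟨g, hg, e⟩ => e ▸ mem_cent1.2 (by
          rw [← map_mul, ← map_mul, mem_cent1.1 (sup_le inf_le_right (zpowers_le.2 cψ) hg)])))
      rw [cφ, MonoidHom.map_zpowers, cent_zpowers] at w2
      have : 1 < ♯(V ⊓ 𝐂₁ (ρ ψ) ⊓ 𝐂₁ (ρ φ) : Subgroup Γ) := one_lt_card.2 (ne_bot_of_mem ⟨⟨hv.1, vF ψ hψ⟩, hv.2⟩ v1)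
      have := eq_of_card_le (inf_le_left : V ⊓ 𝐂₁ (ρ ψ) ≤ V) (by
        rw [w1, w2]
        exact Nat.pow_le_pow_left (by omega) p)
      exact ψ1 (H.fa ψ (le_cent1_iff.1 (inf_eq_left.1 this)))
  have w3 := H.wiel le_rfl H1 rF (inf_le_left.trans H.nH) inf_le_left le_rfl (nn _)
  have z3 : ∀ g : M, ∀ a b c : Ω, a ≠ b → b ≠ c → a ≠ c → g • a = a → g • b = b → g • c = c → g = 1 := by
    intro g a b c ab bc ac ea eb ec
    obtain ⟨x, xa, xb⟩ := H.two' ab n.symm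
    have f : ∀ y : Ω, g • y = y → (x * g * x⁻¹) • x • y = x • y := fun y e => by
      rw [mul_smul, mul_smul, inv_smul_smul, e]
    obtain ⟨k, hk, e⟩ := H.two (s • ω) (x • c) n fun e => ac ((smul_left_cancel_iff x).1 (xa.trans e.symm))
    have := H.cen_of (xa ▸ f a ea) hk n (xb ▸ f b eb) (e ▸ f c ec)
    rcases rF.eq_one (x := x * g * x⁻¹) ⟨show _ • ω = ω from xa ▸ f a ea, show _ • s • ω = s • ω from xb ▸ f b eb⟩ hk
      (mem_cent1.1 this).symm with e' | rfl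
    · exact conj_eq_one_iff.1 e'
    · exact absurd ((smul_left_cancel_iff x).1 (xb.trans ((one_smul M _).symm.trans e))) bc
  haveI := Fintype.ofFinite Ω
  have cΩ : ♯(zpowers h) + 1 = Fintype.card Ω := by rw [H.cardH, ← H.card, Nat.card_eq_fintype_card]
  obtain ⟨k, hk, k1⟩ := exists_mem_ne_one H1
  have φ1 : φ ≠ 1 := fun e => hp.one_lt.ne' (by rw [← oφ, e, orderOf_one])
  rcases Cfsg.Agent.S0885.result (G := M) (Ω := Ω) ⟨⟨fun {x y} e => by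
      refine (inv_mul_eq_one.1 (z3 (y⁻¹ * x) ω (s • ω) (k • s • ω) n.symm (fun e => k1 (H.reg hk n e.symm))
        (fun e => n ((smul_left_cancel_iff k).1 (e.symm.trans (H.HB hk).symm))) ?_ ?_ ?_)).symm <;>
      rw [mul_smul, e, inv_smul_smul]⟩, is_two_pretransitive_iff.2 H.two', z3, ⟨φ, φ1, _, _, n.symm, b, b'⟩,
      fun N nN tN => by_contra fun c => by
        push Not at c
        have := (stabilizer N ω).card_mul_index
        rw [index_stabilizer_of_transitive, c, Subgroup.card_bot, one_mul, H.card] at this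
        have e := h0 N nN (show PiNat {2} (♯N) from this ▸ H.k)
        rw [e, Subgroup.card_bot] at this
        omega⟩ n.symm _ _ cΩ.symm rfl (od_iff.2 (H.od.le inf_le_left)) (zpowers h) H.HB cΩ
      (fun u hu u1 c e => by_contra fun f => u1 (H.reg hu f e)) with l | ⟨-, ⟨u, w, l⟩, -⟩
  swap
  · exact absurd (Subtype.ext ((abel_zpowers h).mul_comm u.2 w.2)) l
  have h1 : 1 < ♯(V ⊓ 𝐂 ((stabilizer M ω ⊓ stabilizer M (s • ω)).map ρ) : Subgroup Γ) := one_lt_card.2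
    (ne_bot_of_mem ⟨hv.1, mem_cent.2 fun _ ⟨g, hg, e⟩ => e ▸ (mem_cent1.1 (vF g hg)).symm⟩ v1)
  have h2 : 2 ^ _ ≤ _ := Nat.pow_le_pow_left h1 (♯(stabilizer M ω ⊓ stabilizer M (s • ω) : Subgroup M))
  have h3 := H.cardH
  have h5 := Nat.pow_le_pow_right two_pos (three_le_of_odd (K := zpowers φ) (cφ ▸ po) hp (cφ ▸ dvd_rfl))
  have h6 : ♯(V ⊓ 𝐂₁ (ρ φ) : Subgroup Γ) = 2 := le_antisymm c2 (one_lt_card.2 (ne_bot_of_mem hv v1))
  rw [h6] at w1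
  generalize ♯(stabilizer M ω ⊓ stabilizer M (s • ω) : Subgroup M) = j at *
  have h7 : j ≤ 3 := by
    by_contra! h7
    obtain ⟨j, rfl⟩ := Nat.exists_eq_add_of_le h7
    have := Nat.lt_two_pow_self (n := j)
    rw [pow_add] at h2
    omega
  omega

end BS

open SemidirectProduct in
theorem base {G : Type*} [Group G] [Finite G] {V N B : Subgroup G} {h : G} (kV : P2 V) (four : 4 ≤ ♯V) (nV : N ≤ 𝐍 V)
    (BN : B ≤ N) (DB : N ⊓ 𝐂 V ≤ B) (od : PiNat {2}ᶜ ((𝐂 V).relIndex B)) (idx : B.relIndex N = ♯V) (hB : h ∈ B)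
    (nrm : ∀ g ∈ B, ∃ k ∈ zpowers h, k⁻¹ * (g * h * g⁻¹) ∈ 𝐂 V) (tr : Tr (zpowers h) V)
    (two : ∀ g ∈ N, g ∉ B → ∀ g' ∈ N, g' ∉ B → ∃ k ∈ zpowers h, g'⁻¹ * (k * g) ∈ B) :
    (∃ W, W ⊴ N ∧ N ⊓ 𝐂 V < W ∧ PiNat {2} ((𝐂 V).relIndex W)) ∨ ♯V = 8 ∧ ∀ a ∈ N, ∀ b ∈ N, a ∉ 𝐂 V → b ∉ 𝐂 V →
      a * a ∈ 𝐂 V → b * b ∈ 𝐂 V → ∃ g ∈ N, (g * a * g⁻¹)⁻¹ * b ∈ 𝐂 V := by
  let σ : N →* MulAut V := V.normalizerMonoidHom.comp (inclusion nV)
  have hσ : ∀ (g : N) (v : V), (σ g v : G) = g * v * g⁻¹ := fun g v => rfl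
  have ker : σ.ker = (𝐂 V).subgroupOf N := by
    ext g
    rw [MonoidHom.mem_ker, mem_subgroupOf, mem_cent, MulEquiv.ext_iff]
    exact ⟨fun e v hv => (mul_inv_eq_iff_eq_mul.1 ((hσ g ⟨v, hv⟩).symm.trans (congrArg Subtype.val (e _)))).symm,
      fun e v => Subtype.ext ((hσ g v).trans (mul_inv_eq_iff_eq_mul.2 (e v v.2).symm))⟩
  let π := QuotientGroup.mk' σ.ker
  have sπ : Function.Surjective π := QuotientGroup.mk'_surjective _
  have kπ : π.ker = (𝐂 V).subgroupOf N := (QuotientGroup.ker_mk' _).trans ker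
  have π1 : ∀ g : N, π g = 1 ↔ (g : G) ∈ 𝐂 V := fun g => by rw [← MonoidHom.mem_ker, kπ, mem_subgroupOf]
  let Γ := V ⋊[MonoidHom.id _] MulAut V
  haveI : Finite Γ := Finite.of_equiv _ SemidirectProduct.equivProd.symm
  let ρ : N ⧸ σ.ker →* Γ := inr.comp (QuotientGroup.kerLift σ)
  have hρ : ∀ (g : N) (v : V), ρ (π g) * inl v * (ρ (π g))⁻¹ = inl (σ g v) := fun g v => by
    rw [show ρ (π g) = inr (σ g) from rfl, ← map_inv]
    exact (inl_aut (σ g) v).symm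
  have kB : π.ker ≤ B.subgroupOf N := kπ ▸ fun g hg => DB ⟨g.2, hg⟩
  have mB : ∀ g : N, π g ∈ (B.subgroupOf N).map π ↔ (g : G) ∈ B := fun g => by
    rw [← mem_comap, comap_map_eq, sup_eq_left.2 kB, mem_subgroupOf]
  have cV : ♯((⊤ : Subgroup V).map (inl : V →* Γ)) = ♯V := by rw [card_map inl_injective, card_top']
  have hk : ∀ k ∈ zpowers h, ∀ m : k ∈ N, π ⟨k, m⟩ ∈ zpowers (π ⟨h, BN hB⟩) := by
    rintro _ ⟨i, rfl⟩ m
    exact ⟨i, (map_zpow π _ i).symm⟩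
  have hN := (zpowers_le.2 hB).trans BN
  have H : BS ρ ((⊤ : Subgroup V).map inl) ((1 : N ⧸ σ.ker) : (N ⧸ σ.ker) ⧸ (B.subgroupOf N).map π) (π ⟨h, BN hB⟩) := by
    refine ⟨show PiNat _ _ from cV ▸ kV, cV ▸ four, fun g => ?_, fun g e => ?_, ?_, ?_, fun a => ?_, ?_, ?_, ?_,
      fun a b a1 b1 => ?_⟩
    · obtain ⟨g, rfl⟩ := sπ g
      refine mem_norm_of_cj_le ?_
      rintro _ ⟨_, ⟨v, -, rfl⟩, rfl⟩
      exact ⟨_, trivial, (hρ g v).symm⟩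
    · obtain ⟨g, rfl⟩ := sπ g
      rw [← MonoidHom.mem_ker, QuotientGroup.ker_mk', MonoidHom.mem_ker]
      refine MulEquiv.ext fun v => inl_injective (φ := MonoidHom.id _) ?_
      rw [← hρ, ← mem_cent.1 e _ ⟨v, trivial, rfl⟩, mul_inv_cancel_right]
      rfl
    · rw [stabilizer_quotient]
      show PiNat _ _
      rwa [← relIndex_ker, kπ, relIndex_subgroupOf BN]
    · rw [cV, ← idx, ← index, index_map_eq _ sπ kB, relIndex]
    · obtain ⟨g, rfl⟩ := QuotientGroup.mk_surjective a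
      exact ⟨g, by simp⟩
    · rw [← mem_stabilizer_iff, stabilizer_quotient, mB]
      exact hB
    · rw [stabilizer_quotient]
      rintro _ ⟨g, hg, rfl⟩
      obtain ⟨k, m, e⟩ := nrm g hg
      refine mem_norm_of_cj_le ?_
      rw [cj_zpowers, zpowers_le, ← map_inv, ← map_mul, ← map_mul,
        ← inv_mul_eq_one.1 (show (π ⟨k, hN m⟩)⁻¹ * π (g * ⟨h, BN hB⟩ * g⁻¹) = 1 by
          rw [← map_inv, ← map_mul, π1]; exact e)]
      exact hk k m _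
    · rintro _ ⟨v, -, rfl⟩ v1 _ ⟨w, -, rfl⟩ w1
      obtain ⟨k, m, e⟩ := tr v v.2 (fun e => v1 (by rw [show v = 1 from Subtype.ext e, map_one])) w w.2
        fun e => w1 (by rw [show w = 1 from Subtype.ext e, map_one])
      exact ⟨_, mem_map_of_mem ρ (hk k m (hN m)), by rw [hρ]; exact congrArg _ (Subtype.ext e)⟩
    · obtain ⟨a, rfl⟩ := QuotientGroup.mk_surjective a
      obtain ⟨b, rfl⟩ := QuotientGroup.mk_surjective b
      obtain ⟨a, rfl⟩ := sπ a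
      obtain ⟨b, rfl⟩ := sπ b
      have f : ∀ a : N, ((π a : N ⧸ σ.ker) : (N ⧸ σ.ker) ⧸ (B.subgroupOf N).map π) ≠ (1 : N ⧸ σ.ker) → (a : G) ∉ B :=
        fun a n m => n (QuotientGroup.eq.2 (by rw [mul_one, inv_mem_iff, mB]; exact m))
      obtain ⟨k, m, e⟩ := two a a.2 (f a a1) b b.2 (f b b1)
      refine ⟨_, hk k m (hN m), (QuotientGroup.eq.2 ?_).symm⟩
      show (π b)⁻¹ * (π _ * π a) ∈ _
      rw [← map_inv, ← map_mul, ← map_mul, mB]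
      exact e
  by_cases h0 : ∀ K : Subgroup (N ⧸ σ.ker), K.Normal → P2 K → K = ⊥
  · refine .inr ⟨cV ▸ H.eight h0, fun a ha b hb a1 b1 a2 b2 => ?_⟩
    have i : ∀ a, ∀ ha : a ∈ N, a ∉ 𝐂 V → a * a ∈ 𝐂 V → Iv (π ⟨a, ha⟩) := fun a ha a1 a2 =>
      Iv.mk' (fun e => a1 ((π1 _).1 e)) (by rw [← map_mul, π1]; exact a2)
    obtain ⟨g, e⟩ := isConj_iff.1 (H.isConj (i a ha a1 a2) (i b hb b1 b2))
    obtain ⟨g, rfl⟩ := sπ g
    rw [← inv_mul_eq_one, ← map_inv, ← map_mul, ← map_mul, ← map_inv, ← map_mul, π1] at e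
    exact ⟨g, g.2, e⟩
  push Not at h0
  obtain ⟨K, n, k, ne⟩ := h0
  have l : N ⊓ 𝐂 V ≤ (K.comap π).map N.subtype := fun g hg =>
    ⟨⟨g, hg.1⟩, show π _ ∈ K from ((π1 ⟨g, hg.1⟩).2 hg.2).symm ▸ one_mem K, rfl⟩
  refine .inl ⟨(K.comap π).map N.subtype, normal_iff_map_subtype.1 inferInstance, l.lt_of_ne fun e => ne
    (eq_bot_of_forall fun x hx => ?_), ?_⟩
  · obtain ⟨x, rfl⟩ := sπ x
    exact (π1 x).2 (e.ge ⟨x, hx, rfl⟩).2
  · rwa [← relIndex_subgroupOf (map_subtype_le _), ← kπ, subgroupOf, comap_map_eq_self_of_injective N.subtype_injective,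
      relIndex_ker, map_comap_eq_self_of_surjective sπ]

end CF.KI
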