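/-
An involution whose centralizer has elementary abelian Sylow `2`-subgroup `⟨t⟩ × V`, with `V#` permuted transitively,
is fused into `V` when there is no subgroup of index two.
-/
import Cfsg.Agent.Fgs1.IcC
set_option autoImplicit false
set_option linter.unusedSectionVars false

namespace CF.KI
open Subgroup Cfsg CF.BG CF.Sig CF.GW CF.Ab2
open CF.ZD (abel_of_sq abelem_of_sq trans_of_card_cj ncard_coset ncard_of_trans_cj relIndex_le_cj)
open scoped commutatorElement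

variable {G : Type*} [Group G] [Finite G]
variable {A B D E K L M N P Q R S T U V W X Y Z : Subgroup G} {a b c d e g h h' k p t u v w x y z : G}

omit [Finite G] in
theorem mul_two (i : M.relIndex S = 2) (ha : a ∈ S) (hb : b ∈ S) : a * b ∈ M ↔ (a ∈ M ↔ b ∈ M) :=
  mul_mem_iff_of_index_two (H := M.subgroupOf S) i (a := ⟨a, ha⟩) (b := ⟨b, hb⟩)

omit [Finite G] in
theorem two_of_dvd (i : M.relIndex S ∣ 2) (ha : a ∈ S) (n : a ∉ M) : M.relIndex S = 2 :=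
  ((Nat.dvd_prime Nat.prime_two).1 i).resolve_left fun e => n (relIndex_eq_one.1 e ha)

theorem der_sq (sE : ∀ x ∈ E, x * x = 1) (se : e * e = 1) (n : e ∈ 𝐍 E) (cs : ∀ y ∈ Y, y ∈ E ∨ e * y ∈ E)
    (hc : c ∈ ⁅Y, Y⁆) : ∃ x ∈ E, x * e * (x * e) = c := by
  have ab := abel_of_sq sE
  have ie := inv_eq_of_mul_eq_one_right se
  have f : ∀ x, x * e * (x * e) = x * (e * x * e⁻¹) := fun x => by rw [ie]; group
  let K : Subgroup G :=
    { carrier := {c | ∃ x ∈ E, x * e * (x * e) = c}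
      one_mem' := ⟨1, one_mem E, by rw [one_mul, se]⟩
      mul_mem' := by
        rintro _ _ ⟨x, hx, rfl⟩ ⟨y, hy, rfl⟩
        refine ⟨x * y, mul_mem hx hy, ?_⟩
        rw [f, f, f, mul_assoc x (e * x * e⁻¹), ← mul_assoc (e * x * e⁻¹), ab.mul_comm (conj_mem_of_norm n hx) hy]
        group
      inv_mem' := by
        rintro _ ⟨x, hx, rfl⟩
        refine ⟨x, hx, eq_inv_of_mul_eq_one_right ?_⟩
        rw [f]
        exact sE _ (mul_mem hx (conj_mem_of_norm n hx)) }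
  have g : ∀ a ∈ E, ∀ b, e * b ∈ E → ⁅a, b⁆ ∈ K := fun a ha b hb => ⟨a, ha, by
    have : b * a * b⁻¹ = e * a * e⁻¹ := by
      rw [show b * a * b⁻¹ = e⁻¹ * (e * b * a) * (e * b)⁻¹ * e by group, ab.mul_comm hb ha, ie]
      group
    rw [f, ← this, commutatorElement_def, inv_eq_of_mul_eq_one_right (sE a ha)]
    group⟩
  refine (show ⁅Y, Y⁆ ≤ K from commutator_le.2 fun a ha b hb => ?_) hc
  rcases cs a ha with ha | ha <;> rcases cs b hb with hb | hb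
  · rw [commutatorElement_eq_one_iff_mul_comm.2 (ab.mul_comm ha hb)]
    exact one_mem K
  · exact g a ha b hb
  · rw [← commutatorElement_inv]
    exact inv_mem (g b hb a ha)
  · have := conj_mem_of_norm' n (mul_mem hb (inv_mem ha))
    rw [show ⁅a, b⁆ = ⁅e⁻¹ * (e * b * (e * a)⁻¹) * e, a⁆⁻¹ by simp only [commutatorElement_def]; group]
    exact inv_mem (g _ this a ha)

theorem gl32 (k : P2 Y) (l : V ≤ Y) (n : Y ≤ 𝐍 V) (sq : ∀ v ∈ V, v * v = 1) (c : ♯V = 8)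
    (i : 4 < (𝐂 V).relIndex Y) : ∃ E ≤ Y, ∃ e ∈ Y, Y ⊓ 𝐂 V ≤ E ∧ (∀ x ∈ E, x * x ∈ 𝐂 V) ∧ e * e ∈ 𝐂 V ∧
      e ∈ 𝐍 E ∧ ∀ y ∈ Y, y ∈ E ∨ e * y ∈ E := by
  obtain ⟨W, lW, nW, cW⟩ := k.exists_normal ⟨l, n⟩ (r := 2) (by rw [c]; exact (logn_pow p2 3).ge.trans' (by omega))
  have c4 : ♯W = 4 := by rw [((k.le l).le lW).card_eq, cW]; rfl
  have iW : W.relIndex V = 2 := by have := card_mul_relIndex lW; rw [c4, c] at this; omega
  obtain ⟨v, hv, m⟩ := SetLike.exists_of_lt (lW.lt_of_ne fun e => by rw [e] at c4; omega)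
  have cv : ∀ x ∈ 𝐂 W, x ∈ 𝐂₁ v → x ∈ 𝐂 V := fun x h1 h2 => mem_cent.2 fun w hw => by
    by_cases f : w ∈ W
    · exact mem_cent.1 h1 w f
    · refine mul_left_cancel (a := v) ?_
      rw [← mul_assoc, mem_cent.1 h1 _ ((mul_two iW hv hw).2 (iff_of_false m f)), ← mul_assoc, mem_cent1.1 h2,
        mul_assoc]
  have ov : ∀ y ∈ Y, v⁻¹ * (y * v * y⁻¹) ∈ W := fun y hy =>
    (mul_two iW (inv_mem hv) (conj_mem_of_norm (n hy) hv)).2 (iff_of_false (fun f => m (inv_mem_iff.1 f))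
      fun f => m (mem_of_eq (conj_mem_of_norm' (nW.norm hy) f) (by group)))
  have i4 := relIndex_le_cj (P := Y) (x := v) (S := {y | v⁻¹ * y ∈ W}) ov
  rw [ncard_coset, c4] at i4
  obtain ⟨e, he, ne⟩ : ∃ e ∈ Y ⊓ 𝐂₁ v, e ∉ 𝐂 V := SetLike.not_le_iff_exists.1 fun f => by
    have := relIndex_le_of_le_left f (relIndex_ne_zero' _ Y)
    rw [ri_inf le_rfl] at this
    omega
  have eW : e ∉ 𝐂 W := fun f => ne (cv e f he.2)
  have i2 := two_of_dvd ((elem_of_card p2 le_rfl (abelem_of_sq fun x hx => sq x (lW hx)) c4).relIndex_cent_dvd_two k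
    nW.norm) he.1 eW
  refine ⟨Y ⊓ 𝐂 W, inf_le_left, e, he.1, inf_le_inf_left _ (cent_anti lW), fun x hx => cv _ (mul_mem hx.2 hx.2) ?_,
    cv _ ((mul_two i2 he.1 he.1).2 Iff.rfl) (mul_mem he.2 he.2), (normalIn_inf_cent nW.norm).norm he.1,
    fun y hy => or_iff_not_imp_left.2 fun f => ⟨mul_mem he.1 hy, (mul_two i2 he.1 hy).2
      (iff_of_false eW fun f' => f ⟨hy, f'⟩)⟩⟩
  have f := ov x hx.1
  rw [mem_cent1, ← mul_inv_eq_iff_eq_mul, show x * x * v * (x * x)⁻¹ = v * (v⁻¹ * (x * v * x⁻¹) *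
    (x * (v⁻¹ * (x * v * x⁻¹))) * x⁻¹) by group, ← mem_cent.1 hx.2 _ f, ← mul_assoc _ _ x, sq _ (lW f)]
  group

theorem LE.card_le (H : LE L t h V) (hg : g ∈ L) (k : P2 Y) (l : Y ≤ L) (c : Y ≤ 𝐂₁ (g * t * g⁻¹)) :
    ♯Y ≤ 2 * ♯V := by
  rw [← card_sup_iv H.sl.it H.sl.tn H.sl.tV, ← card_cj g (V ⊔ _)]
  refine (H.syl.cj g).card_le ?_ k
  rw [cj_inf, cj_cent1, cj_of_mem hg]
  exact le_inf l c

namespace EX
variable (H : LE L t h V) (J : EX L t h V P X) (l : X ≤ L)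
include H J l

theorem XN : X ≤ L ⊓ 𝐍 X := le_inf l (le_norm_self X)

theorem memX (hy : y ∈ L ⊓ 𝐍 X) (e : E2 y) (hp : p ∈ P) (c : y ∈ 𝐂₁ (t * p)) : y ∈ X := by
  obtain ⟨g, hg, f⟩ := J.all p hp
  have := H.two_mem J.toSL l (mem_inf.2 ⟨conj_mem_of_norm' (le_norm_self _ hg) hy, by
    rw [← f, ← cj_cent1] at c
    exact mem_cj.1 c⟩) (by simpa using e.conj g⁻¹)
  exact mem_of_eq (conj_mem_of_norm hg.2 (J.cen_eq.ge this).1) (by group)

theorem sqP (hy : y ∈ L ⊓ 𝐍 X) (e : E2 y) (m : y * y ∈ X) : y * y ∈ P :=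
  (J.cases _ m).elim id fun f => by
    have tt : ∀ x, t * (t * x) = x := fun x => by rw [← mul_assoc, J.it.sq, one_mul]
    rcases J.cases y (J.memX H l hy e f (by rw [tt, mem_cent1, mul_assoc])) with f | f
    · exact mul_mem f f
    · have := J.inv _ f
      rw [tt] at this
      exact this ▸ one_mem P

theorem cardX : ♯X = 2 * ♯P := by
  rw [← card_sup_iv J.it J.tnP J.tP]
  exact congrArg (fun H : Subgroup G => ♯H) (le_antisymm (fun x hx => J.memD.2 (J.cases x hx))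
    (sup_le J.PX (zpowers_le.2 J.tX)))

variable (s : Syl 2 Y (L ⊓ 𝐍 X))
include s

theorem XY : X ≤ Y := s.le_of_normal ⟨J.XN H l, inf_le_right⟩ J.k

theorem infC : Y ⊓ 𝐂 V = X :=
  (J.sylD.eq_of_le (le_inf (J.XY H l s) (cent_symm J.VZ)) (inf_le_inf_right _ s.le) s.pi.inf_left).symm

theorem idxY : X.relIndex Y = 8 := by
  have := card_mul_relIndex (J.XY H l s)
  rw [J.card Y s, mul_comm] at this
  exact Nat.eq_of_mul_eq_mul_right (card_pos' _) this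

omit s in
theorem inX (hg : g ∈ L) (hu : g * t * g⁻¹ ∈ L ⊓ 𝐍 X) : g * t * g⁻¹ ∈ X := by
  obtain ⟨Y, s⟩ := BG.exists_syl 2 (L ⊓ 𝐍 X)
  have XY := J.XY H l s
  have nC := J.nV.trans (norm_le_norm_cent V)
  have nY := s.le.trans nC
  have eC := J.infC H l s
  by_contra m
  have mC : g * t * g⁻¹ ∉ 𝐂 V := fun f => m (J.sylD.mem_normal (inf_le_left.trans inf_le_right) ⟨hu, f⟩
    (J.it.conj g).piElt)
  obtain ⟨_, ⟨hz0, cz⟩, iz⟩ := exists_iv_of_two ((s.pi.qt (𝐂 V)).inf_left (K := 𝐂 (qt (𝐂 V) Y)))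
    ((s.pi.qt _).center_ne_bot fun e => by
      have := J.idxY H l s
      rw [← eC, inf_eq_left.2 ((qt_eq_bot nY).1 e), relIndex_self] at this
      omega)
  obtain ⟨z, hz, nz, rfl⟩ := mem_qt.1 hz0
  obtain ⟨a, ha, f⟩ := J.conj _ hu z (s.le hz) mC (fun f => iz.ne_one (qe_of_mem f))
    ((J.it.conj g).sq ▸ one_mem _) ((qe_eq_one (mul_mem nz nz)).1 (by rw [qe_mul nz nz, iz.sq]))
  have u1 := conj_mem_of_norm (le_norm_self _ ha) hu
  have YD : Y ⊔ L ⊓ 𝐍 X ⊓ 𝐂 V ≤ L ⊓ 𝐍 X := sup_le s.le inf_le_left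
  have cz' : ∀ b ∈ Y ⊔ L ⊓ 𝐍 X ⊓ 𝐂 V, qe (𝐂 V) b * qe (𝐂 V) z * (qe (𝐂 V) b)⁻¹ = qe (𝐂 V) z := fun b hb => by
    have := qe_mem_qt hb (nC (YD hb))
    rw [sup_comm, qt_sup_of_le nY inf_le_right] at this
    rw [mem_cent.1 cz _ this, mul_inv_cancel_right]
  obtain ⟨b, hb, e⟩ := (s.of_le le_sup_left YD).syl_cj_le (K := zpowers (a * (g * t * g⁻¹) * a⁻¹)) (zpowers_le.2
    (mem_of_eq (mul_mem (mem_sup_left hz) (mem_sup_right (inv_mem (mem_inf.2 ⟨mul_mem (inv_mem u1) (s.le hz), f⟩))))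
      (by group))) ((J.it.conj g).conj a).piGrp
  rw [cj_zpowers, zpowers_le] at e
  have q : qe (𝐂 V) (b * (a * (g * t * g⁻¹) * a⁻¹) * b⁻¹) = qe (𝐂 V) z := by
    rw [qe_conj (nC (YD hb)) (nC u1), (qe_eq_iff (nC u1) nz).2 f, cz' b hb]
  have gL : b * a * g ∈ L := mul_mem (mul_mem (YD hb).1 ha.1) hg
  rw [show b * (a * (g * t * g⁻¹) * a⁻¹) * b⁻¹ = b * a * g * t * (b * a * g)⁻¹ by group] at e q
  have iu := J.it.conj (b * a * g)
  have c1 := H.card_le gL (s.pi.inf_left (K := 𝐂₁ _)) (inf_le_left.trans (s.le.trans inf_le_left)) inf_le_right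
  generalize b * a * g * t * (b * a * g)⁻¹ = u at e q iu c1
  have uC : u ∉ 𝐂 V := fun f => iz.ne_one (q ▸ qe_of_mem f)
  have c2 := relIndex_le_cj (P := Y) (x := u) (S := {y | u⁻¹ * y ∈ P ⊓ 𝐂₁ (t * u)}) fun y hy => by
    have m : u⁻¹ * (y * u * y⁻¹) ∈ X := eC.le (mem_inf.2 ⟨mul_mem (inv_mem e) (conj_mem_of_norm (le_norm_self _ hy) e),
      (qe_eq_iff (nY e) (nY (conj_mem_of_norm (le_norm_self _ hy) e))).1 (by
        rw [qe_conj (nY hy) (nY e), q, cz' y (mem_sup_left hy)])⟩)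
    have sq := (iu.conj y).sq
    rw [← mul_inv_cancel_left u (y * u * y⁻¹)] at sq
    show u⁻¹ * (y * u * y⁻¹) ∈ P ⊓ 𝐂₁ (t * u)
    generalize u⁻¹ * (y * u * y⁻¹) = x at m sq
    have i := inv_of_sq iu.sq sq
    rcases J.cases x m with f | f
    · refine ⟨f, mem_cent1.2 (mul_inv_eq_iff_eq_mul.1 ?_).symm⟩
      rw [show t * u * x * (t * u)⁻¹ = t * (u * x * u⁻¹) * t⁻¹ by group, i, inv_of_sq J.it.sq (J.inv _ (inv_mem f)),
        inv_inv]
    · have tt : t * (t * x) = x := by rw [← mul_assoc, J.it.sq, one_mul]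
      have := J.inv _ f
      rw [tt] at this
      rw [inv_eq_of_mul_eq_one_right this, mul_inv_eq_iff_eq_mul] at i
      exact absurd (cent_symm J.VZ (J.memX H l (s.le e) iu.piElt f (by rw [tt]; exact mem_cent1.2 i))) uC
  have c3 := card_inf_mul_relIndex (𝐂₁ u) Y
  rw [ncard_coset] at c2
  rw [inf_comm, J.card Y s, J.cardX H l] at c3
  rw [J.c8] at c1
  have c4 := Nat.mul_le_mul c1 c2
  have e4 := eq_of_le_of_card_ge (inf_le_left (a := P) (b := 𝐂₁ (t * u))) (by omega)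
  refine uC ((mul_mem_cancel_left (le_cent1_iff.1 J.Vt)).1 (le_cent1_iff.1 (J.VP.trans (e4.ge.trans inf_le_right))))

end EX

theorem EX.false (J : EX ⊤ t h V P X) (H : LE ⊤ t h V) (h2 : ∀ H : Subgroup G, H.index ≠ 2) : False := by
  obtain ⟨Y, s⟩ := BG.exists_syl 2 (⊤ ⊓ 𝐍 X)
  have XY := J.XY H le_top s
  have eC := J.infC H le_top s
  have tt : ∀ x, t * (t * x) = x := fun x => by rw [← mul_assoc, J.it.sq, one_mul]
  have sY : Syl 2 Y ⊤ := by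
    obtain ⟨T, sT, lT⟩ := BG.exists_syl_le (le_inf le_top (le_norm_self Y)) s.pi
    refine syl_of_syl_norm le_top (s.eq_of_le lT (le_inf le_top (le_norm_iff.2 fun y hy x hx => ?_)) sT.pi ▸ sT)
    have f : ∀ p ∈ P, y * (t * p) * y⁻¹ ∈ X := fun p hp => by
      obtain ⟨a, -, e⟩ := J.all p hp
      have := conj_mem_of_norm (sT.le hy).2 (XY (mul_mem J.tX (J.PX hp)))
      rw [← e, show y * (a * t * a⁻¹) * y⁻¹ = y * a * t * (y * a)⁻¹ by group] at this ⊢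
      exact J.inX H le_top trivial (s.le this)
    rcases J.cases x hx with e | e
    · exact mem_of_eq (mul_mem (inv_mem (f 1 (one_mem P))) (f x e)) (by group)
    · simpa only [tt] using f _ e
  have nP := s.le.trans J.nP
  obtain ⟨E, lE, e, he, XE, sE, se, nE, cs⟩ := gl32 s.pi (J.VX.trans XY) (s.le.trans J.nV) J.sq J.c8 (by
    rw [← ri_inf le_rfl, eC, J.idxY H le_top s]; omega)
  have sq : ∀ y ∈ Y, y * y ∈ 𝐂 V → qe P y * qe P y = 1 := fun y hy c => by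
    rw [← qe_mul (nP hy) (nP hy)]
    exact qe_of_mem (J.sqP H le_top (s.le hy) (s.pi.elt hy) (eC.le ⟨mul_mem hy hy, c⟩))
  have m := CF.Loc.extremal_transfer_ab (S := Y) (M := P ⊔ ⁅Y, Y⁆) (T := zpowers t)
    (by simpa using sY.not_dvd Nat.prime_two) le_sup_right J.it.sq
    (CF.Invol.mem_commutator_of_no_index_two h2 ⟨1, J.it⟩) (XY J.tX) J.it.piGrp.isPGroup (mem_zpowers t)
    (zpowers_le.2 (self_mem_cent1 t)) fun g hg => mem_sup_left (by
      have := hg (mem_map_of_mem _ (mem_zpowers t))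
      rw [J.it.inv_eq, show g⁻¹ * t * g = g⁻¹ * t * g⁻¹⁻¹ by group]
      exact (J.cases _ (J.inX H le_top trivial (s.le this))).resolve_left fun f =>
        H.nf g⁻¹ trivial (J.om f (J.it.conj _).sq))
  have m := qe_mem_qt (K := P) m J.tnP
  rw [qt_sup_left ((der_le Y).trans nP), qt_comm nP nP] at m
  obtain ⟨_, hx, f⟩ := der_sq (E := qt P E) (e := qe P e) (fun _ hx => by
    obtain ⟨x, hx', -, rfl⟩ := mem_qt.1 hx
    exact sq x (lE hx') (sE x hx')) (sq e he se) (qt_norm P (zpowers_le.2 nE) (qe_mem_qt (mem_zpowers e) (nP he)))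
    (fun _ hy => by
      obtain ⟨y, hy', ny, rfl⟩ := mem_qt.1 hy
      rw [← qe_mul (nP he) ny]
      exact (cs y hy').imp (qe_mem_qt · ny) (qe_mem_qt · (mul_mem (nP he) ny))) m
  obtain ⟨x, hx', nx, rfl⟩ := mem_qt.1 hx
  have xe := mul_mem (lE hx') he
  rw [← qe_mul nx (nP he), ← qe_mul (nP xe) (nP xe), qe_eq_iff (nP (mul_mem xe xe)) J.tnP] at f
  exact J.tP ((mul_mem_cancel_left (inv_mem (J.sqP H le_top (s.le xe) (s.pi.elt xe)
    (inv_mem_iff.1 ((mul_mem_cancel_right J.tX).1 (J.PX f)))))).1 f)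

theorem LE.false (H : LE ⊤ t h V) (h2 : ∀ H : Subgroup G, H.index ≠ 2) : False := by
  obtain ⟨X, h, H, I, -, s | ⟨P, J⟩⟩ := H.main
  swap
  · exact J.false H h2
  have f : ∀ M, M ≤ X → t ∉ M → (∀ x ∈ X, x ∈ M ∨ t * x ∈ M) → ∃ g, g * t * g⁻¹ ∈ M := fun M l m cs => by
    obtain ⟨φ, ⟨g, hg⟩, e, -⟩ := DD.xfer s h2 (M := M) (relIndex_eq_two_iff_exists_notMem_and'.2 ⟨t, I.tX, m,
      fun x hx => (cs x hx).symm⟩) I.it I.tX m I.it.piGrp (mem_zpowers t) (zpowers_le.2 (self_mem_cent1 t))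
    exact ⟨g, hg t ▸ e⟩
  obtain ⟨P, ⟨J, cs⟩ | ⟨J, -⟩⟩ := I.cases
  · obtain ⟨g, e⟩ := f P J.PX J.tP cs
    exact H.nf g trivial (J.om e (I.it.conj g).sq)
  · obtain ⟨g, e⟩ := f _ J.QX J.tQ fun x => J.cases
    exact (J.small e (I.it.conj g).sq (H.nf g trivial)).not_ge (H.card_le trivial I.k.inf_left le_top inf_le_right)

end CF.KI
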