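/-
An involution `t` whose centralizer has Sylow `2`-subgroup `⟨t⟩ × D`: the elementary abelian case, and tools for the
dihedral case.
-/
import Cfsg.Agent.Fgs1.IcD
set_option autoImplicit false
set_option linter.unusedSectionVars false

namespace CF.KI
open Subgroup Cfsg CF.BG CF.Sig CF.GW CF.Ab2
open CF.ZD (abel_of_sq abelem_of_sq trans_of_card_cj ncard_coset ncard_of_trans_cj relIndex_le_cj)
open scoped commutatorElement MatrixGroups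

universe u
variable {G : Type u} [Group G] [Finite G]
variable {A B D E K L M N P Q R S T U V W X Y Z : Subgroup G} {a b c d e g h h' k p t u v w x y z : G}

theorem exists_norm_syl (hT : Syl 2 T ⊤) (l : S ≤ T) (n : ¬ Syl 2 S ⊤) : ∃ y ∈ T, y ∈ 𝐍 S ∧ y ∉ S := by
  by_contra! c
  have e : T ⊓ 𝐍 S = S := le_antisymm (fun y hy => c y hy.1 hy.2) (le_inf l (le_norm_self S))
  have : Syl 2 S T := syl_of_syl_norm l (e.symm ▸ Hall.refl (hT.pi.le l))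
  exact n (this.eq_of_pi hT.pi ▸ hT)

theorem el_syl (h2 : ∀ H : Subgroup G, H.index ≠ 2) (I : SL t h V (V ⊔ zpowers t)) (s : Syl 2 (V ⊔ zpowers t) (𝐂₁ t))
    (nrm : ∀ g ∈ 𝐂₁ t ⊓ 𝐍 V, ∃ k ∈ zpowers h, k⁻¹ * (g * h * g⁻¹) ∈ 𝐂 V) : Syl 2 (V ⊔ zpowers t) ⊤ := by
  obtain ⟨g, hg⟩ : ∃ g, g * t * g⁻¹ ∈ V := by
    by_contra! c
    exact LE.false ⟨I, trivial, le_top, trivial, by rwa [top_inf_eq], fun g hg => nrm g ⟨hg.1.2, hg.2⟩,
      fun g _ => c g⟩ h2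
  have tc : ∀ v ∈ V, v ≠ 1 → IsConj t v := fun v hv v1 => by
    obtain ⟨k, -, e⟩ := I.tr _ hg (I.it.conj g).ne_one v hv v1
    exact isConj_iff.2 ⟨k * g, by rw [← e]; group⟩
  obtain ⟨T, hT, l⟩ := BG.exists_syl_le le_top s.pi
  have eT : T ⊓ 𝐂₁ t = V ⊔ zpowers t := (s.eq_of_le (le_inf l s.le) inf_le_right hT.pi.inf_left).symm
  have tt : ∀ x, t * (t * x) = x := fun x => by rw [← mul_assoc, I.it.sq, one_mul]
  by_contra n
  obtain ⟨z, ⟨hz, cz⟩, z1⟩ := exists_mem_ne_one (hT.pi.center_ne_bot (ne_bot_of_mem (l I.tX) I.it.ne_one))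
  have nz : ¬ IsConj t z := fun c => by
    obtain ⟨φ, -, e, f⟩ := DD.ext hT (le_cent1_iff.2 cz) c s.pi s.le
    obtain ⟨g, rfl⟩ := isConj_iff.1 c
    refine n (hT.of_card_le le_top s.pi ?_)
    rw [← card_cj g (V ⊔ _)]
    exact (s.cj g).card_le (by rw [cj_cent1]; exact le_cent1_iff.2 cz) hT.pi
  have zV : t * z ∈ V := (I.cen z (eT.le ⟨hz, cent_le_cent1 (l I.tX) cz⟩) (cent_le_cent1 (l I.tX) cz)).resolve_left
    fun e => nz (tc z e z1)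
  have nt : ∀ v ∈ V, v ≠ 1 → ¬ IsConj t (t * v) := fun v hv v1 c => by
    obtain ⟨k, hk, e⟩ := I.tr v hv v1 _ zV fun e => nz (by rw [← tt z, e, mul_one])
    exact nz (c.trans (isConj_iff.2 ⟨k, by rw [I.tk hk, e, tt]⟩))
  obtain ⟨y, hy, ny, m⟩ := exists_norm_syl hT l n
  have f : ∀ x ∈ V ⊔ zpowers t, IsConj t x → y * x * y⁻¹ ≠ t → y * x * y⁻¹ ∈ V := fun x hx c ne =>
    ((mem_sup_iv I.it.sq I.tn).1 (conj_mem_of_norm ny hx)).elim id fun e => absurd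
      (by rw [tt]; exact c.trans (isConj_iff.2 ⟨y, rfl⟩)) (nt _ e fun e' => ne (by rw [← tt (y * x * y⁻¹), e', mul_one]))
  have yt := f t I.tX (IsConj.refl t) fun e => m (eT.le ⟨hy, mem_cent1.2 (mul_inv_eq_iff_eq_mul.1 e)⟩)
  obtain ⟨v, hv, v1, ne⟩ := exists_ne_two (V := V) (by have := I.four; omega) (y⁻¹ * t * y)
  have yv := f v (I.VX hv) (tc v hv v1) fun e => ne (by rw [← e]; group)
  have := mul_mem yt yv
  rw [show y * t * y⁻¹ * (y * v * y⁻¹) = y * (t * v) * y⁻¹ by group] at this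
  exact nt v hv v1 ((tc _ this (conj_ne_one (a := t * v)
    (fun e => I.tV ((mul_mem_cancel_right hv).1 (e ▸ one_mem V))) y)).trans (isConj_iff.2 ⟨y, rfl⟩).symm)

theorem sl_of (i : Iv t) (sq : ∀ v ∈ V, v * v = 1) (tV : t ∉ V) (Vt : V ≤ 𝐂₁ t) (four : 4 ≤ ♯V) (o : Eo h)
    (ht : h ∈ 𝐂₁ t) (hV : h ∈ 𝐍 V) (tr : Tr (zpowers h) V) : SL t h V (V ⊔ zpowers t) :=
  have n := cent_le_norm V (le_cent1_iff.1 Vt)
  ⟨(abelem_of_sq sq).pi.sup i.piGrp (.inr (zpowers_le.2 n)), i, mem_sup_right (mem_zpowers t), le_sup_left, sq, tV, Vt,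
    fun _ hx _ => (mem_sup_iv i.sq n).1 hx, four, o, ht,
    zpowers_le.1 (norm_sup (zpowers_le.2 hV) (norm_of_cent (zpowers_le.2 (cent_zpowers t ▸ ht)))), hV, tr⟩

theorem exists_inv (f : FP a b) (n : e ∈ 𝐍 (V4 a b)) (i : Iv e) (m : e ∉ 𝐂 (V4 a b)) (nh : h ∈ 𝐍 (V4 a b)) (o : Eo h)
    (mh : h ∉ 𝐂 (V4 a b)) : ∃ y ∈ zpowers (e * (h * e * h⁻¹)), Eo y ∧ y ∉ 𝐂 (V4 a b) ∧ e * y * e⁻¹ = y⁻¹ := by
  have inv := inv_zpowers (CF.Invol.left_inverts_mul i.sq (i.conj h).sq)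
  have nc := zpowers_le.2 (mul_mem n (conj_mem_of_norm (le_norm_self _ nh) n))
  obtain ⟨x, y, hx, hy, e2, oy, eq⟩ := exists_piPart {2} (e * (h * e * h⁻¹))
  refine ⟨y, hy, oy, fun c => m ?_, inv y hy⟩
  obtain ⟨v, ⟨hv, cv⟩, v1⟩ := exists_mem_ne_one ((e2.zpowers.sup i.piGrp (.inr (zpowers_le.2
    ((inv.mono (zpowers_le.2 hx)).norm le_rfl)))).inf_cent_ne_bot f.pi (sup_le (zpowers_le.2 (nc hx)) (zpowers_le.2 n))
    (ne_bot_of_mem (left_mem_V4 a b) f.l.ne_one))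
  have cv := le_cent1_iff.2 cv
  have c1 := cv (mem_sup_right (mem_zpowers e))
  have c2 : h * e * h⁻¹ ∈ 𝐂₁ v := (mul_mem_cancel_left c1).1
    (eq ▸ mul_mem (cv (mem_sup_left (mem_zpowers x))) (cent_le_cent1 hv c))
  have hw := conj_mem_of_norm' nh hv
  have f' := FP.mk' (f.iv_of_mem hv v1) ((f.iv_of_mem hv v1).conj' h) (mem_cent1.2 (f.abel.mul_comm hw hv))
    fun e => mh (f.cent_of_odd nh (odd_iff_piElt.2 o) hv v1 (mem_cent1.2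
      (inv_mul_eq_iff_eq_mul.1 ((mul_assoc _ _ _).symm.trans e)).symm))
  rw [← eq_of_le_of_card_ge (V4_le.2 ⟨hv, hw⟩) (by rw [f.card, f'.card]), cent_V4]
  refine ⟨c1, ?_⟩
  rw [show h⁻¹ * v * h = h⁻¹ * v * h⁻¹⁻¹ by group, ← cj_cent1]
  exact mem_cj_inv.2 c2

end CF.KI
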