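/-
An involution `t` whose centralizer has Sylow `2`-subgroup `⟨t⟩ × D` with `D` dihedral: the conclusion.
-/
import Cfsg.Agent.Fgs1.IcF
set_option autoImplicit false
set_option linter.unusedSectionVars false

namespace CF.KI
open Subgroup Cfsg CF.BG CF.Sig CF.GW CF.Ab2
open CF.ZD (abel_of_sq abelem_of_sq trans_of_card_cj ncard_coset ncard_of_trans_cj relIndex_le_cj)
open scoped commutatorElement

universe u
variable {G : Type u} [Group G] [Finite G]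
variable {A B D E K L M N P Q R S T U V W X Y Z : Subgroup G} {a b c d e g h h' k p t u v w x y z : G}

theorem SL.fix_cls (I : SL t h V X) (nf : ∀ g, g * t * g⁻¹ ∉ V) (hT : Syl 2 T ⊤) (n : T ≤ 𝐍 X) (c : ♯T = 2 * ♯X)
    (hg : g ∈ 𝐍 X) : ∃ x ∈ X, x * t * x⁻¹ = g * t * g⁻¹ := by
  obtain ⟨P, ⟨J, cs⟩ | ⟨J, n⟩⟩ := I.cases
  swap
  · exact J.stab n hg
  have tt : ∀ x, t * (t * x) = x := fun x => by rw [← mul_assoc, I.it.sq, one_mul]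
  have tP : ∀ g ∈ 𝐍 X, t * (g * t * g⁻¹) ∈ P := fun g hg =>
    (cs _ (conj_mem_of_norm hg I.tX)).resolve_left fun e => nf g (J.om e (I.it.conj g).sq)
  by_cases m : t * (g * t * g⁻¹) ∈ sqs P
  · obtain ⟨q, hq, e⟩ := (mem_sqs J.abel).1 m
    exact ⟨q⁻¹, inv_mem (J.PX hq), by simpa [e, tt] using J.conj_sq hq (one_mem P)⟩
  have h1 := ncard_of_trans_cj (P := 𝐍 X) (x := t) (S := {y | t⁻¹ * y ∈ P}) (fun g hg => I.it.inv_eq.symm ▸ tP g hg)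
    fun y hy => by simpa using J.all (J.PX.trans (le_norm_self X)) (le_norm_self _ I.hX) hg (tP g hg) m (tt _).symm hy
  have h2 := card_inf_mul_relIndex (𝐂₁ t) (𝐍 X)
  have h3 := card_dvd_of_le (show X ⊓ 𝐂₁ t ≤ 𝐂₁ t ⊓ 𝐍 X from le_inf inf_le_right (inf_le_left.trans (le_norm_self X)))
  have h4 : ♯X = 2 * ♯P := by
    rw [← card_sup_iv J.it J.tnP J.tP]
    exact congrArg (fun H : Subgroup G => ♯H) (le_antisymm (fun x hx => J.memD.2 (cs x hx))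
      (sup_le J.PX (zpowers_le.2 J.tX)))
  rw [ncard_coset] at h1
  have h3 := Nat.mul_dvd_mul_right h3 (♯P)
  rw [← h1] at h2
  have := Nat.le_of_dvd (card_pos' _) ((hT.of_le n le_top).dvd_card (h2 ▸ h3) (PiNat.mul I.k.inf_left (I.k.le J.PX)))
  rw [I.card_cen, c, h4] at this
  have := I.four
  have := card_pos' P
  nlinarith

/-- the subgroup `[X, h]` has index two and avoids the class of `t` -/
theorem SL.comm (I : SL t h V X) (nf : ∀ g, g * t * g⁻¹ ∉ V)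
    (c : ∀ g, g * t * g⁻¹ ∈ X → ♯(X ⊓ 𝐂₁ (g * t * g⁻¹) : Subgroup G) ≤ 2 * ♯V) :
    (∀ x ∈ X, x ∈ ⁅X, zpowers h⁆ ∨ t * x ∈ ⁅X, zpowers h⁆) ∧ ∀ g, g * t * g⁻¹ ∉ ⁅X, zpowers h⁆ := by
  obtain ⟨P, ⟨J, cs⟩ | ⟨J, -⟩⟩ := I.cases
  · rw [J.comm_eq' cs]
    exact ⟨cs, fun g e => nf g (J.om e (I.it.conj g).sq)⟩
  · exact ⟨fun _ => J.cases, fun g e => (J.small e (I.it.conj g).sq (nf g)).not_ge (c g (J.QX e))⟩

theorem XT.b3 (H : XT t K T) (h2 : ∀ H : Subgroup G, H.index ≠ 2) (f : FP a b) (ha : a ∈ K) (hb : b ∈ K)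
    (nT : T ≤ 𝐍 (V4 a b)) : False := by
  have F := H.iF h2
  have UK := V4_le.2 ⟨ha, hb⟩
  obtain ⟨ρ, hρ, o, r⟩ := exists_rho H.dg H.one f ha hb
  have o := odd_iff_piElt.1 o
  have nC := norm_le_norm_cent (V4 a b)
  have nf : ∀ g, g * t * g⁻¹ ∉ V4 a b := fun g e => H.nc (UK e) (isConj_cj g t)
  have I := sl_of H.it (fun _ => f.sq) (fun e => H.tK (UK e)) (UK.trans H.nK.le) f.card.ge o (H.nK.le hρ) (r.norm f)
    (tr_four f.card (r.norm f) o fun e => f.ne (by rw [← r.l, ← mem_cent.1 e a (left_mem_V4 a b), mul_inv_cancel_right]))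
  have nL := zpowers_le.2 (nC (r.norm f))
  obtain ⟨X, h, -, I, -, s | ⟨_, J⟩⟩ := LE.main (L := 𝐂 (V4 a b) ⊔ zpowers ρ) ⟨I, mem_sup_left (le_cent1_iff.1 I.Vt),
    f.abel.trans le_sup_left, mem_sup_right (mem_zpowers ρ), syl_of_max (le_inf ((cent_symm I.VZ).trans le_sup_left)
      (I.cen_eq.ge.trans inf_le_right)) I.k fun Q l k l' => le_antisymm (fun y hy => H.cen8 f ha hb (l hy).2 (k.elt hy)
      ((k.elt hy).mem_of_relIndex (l hy).1 (sup_le (le_norm_self _) nL) (by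
        rw [relIndex_sup_norm' (.inl nL)]; exact o.zpowers.relIndex _))) l', fun g hg => by
      obtain ⟨c, hc, k, hk, e⟩ := (mem_sup_norm' nL).1 (conj_mem_of_norm (le_norm_self _ hg.1.1)
        (mem_sup_right (mem_zpowers ρ)))
      exact ⟨k, hk, mem_of_eq (conj_mem_of_norm' (nL hk) hc) (by rw [← e, mul_assoc])⟩, fun g _ => nf g⟩
  swap
  · exact absurd (J.c8.symm.trans f.card) (by omega)
  have XC := cent_symm I.VZ
  obtain ⟨R, sR, l⟩ := BG.exists_syl_le (XC.trans (cent_le_norm _)) I.k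
  have hR := H.hT.of_card_le le_top sR.pi (sR.card_le nT H.hT.pi)
  have eX : R ⊓ 𝐂 (V4 a b) = X := ((s.of_le XC le_sup_left).eq_of_le (le_inf l XC) inf_le_right sR.pi.inf_left).symm
  have nX : R ≤ 𝐍 X := eX ▸ (normalIn_inf_cent sR.le).norm
  obtain ⟨c, hc, m⟩ : ∃ c ∈ R, c ∉ 𝐂 (V4 a b) := SetLike.not_le_iff_exists.1 fun e => by
    obtain ⟨z, y, w, δ⟩ := H.dh H.syl
    obtain ⟨g, hg, j⟩ := sR.syl_cj_le nT H.hT.pi
    have := j.trans e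
    rw [cj_le_iff, cj_of_norm (inv_mem (nC hg))] at this
    exact δ.iz.ne_one (δ.yz ▸ f.sq (H.cenV f ha hb δ.ym.2 (H.hT.pi.elt δ.ym.1) (this δ.ym.1)))
  have i := two_of_dvd ((elem_of_card p2 le_rfl (abelem_of_sq fun _ => f.sq) f.card).relIndex_cent_dvd_two sR.pi sR.le) hc m
  obtain ⟨x, hx, e⟩ := I.fix_cls nf hR nX (by rw [← card_inf_mul_relIndex (𝐂 (V4 a b)) R, i, inf_comm, eX, mul_comm])
    (nX hc)
  obtain ⟨d, ⟨hd, dK⟩, md⟩ : ∃ d ∈ R ⊓ K, d ∉ 𝐂 (V4 a b) := by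
    have h1 := mul_mem (inv_mem (l hx)) hc
    have h2 : x⁻¹ * c ∉ 𝐂 (V4 a b) := fun j => m ((mul_mem_cancel_left (inv_mem (XC hx))).1 j)
    rcases H.two _ (cent1_of_conj e) (sR.pi.elt h1) with j | j
    · exact ⟨_, ⟨h1, j⟩, h2⟩
    · exact ⟨_, ⟨mul_mem (l I.tX) h1, j⟩, fun j => h2 ((mul_mem_cancel_left (XC I.tX)).1 j)⟩
  obtain ⟨d, ⟨hd, dK⟩, md, i'⟩ : ∃ d ∈ R ⊓ K, d ∉ 𝐂 (V4 a b) ∧ d * d = 1 := by
    obtain ⟨σ, hσ, h1, -⟩ := H.dg (R ⊓ K) inf_le_right sR.pi.inf_left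
    obtain ⟨w, hw, mw⟩ : ∃ w ∈ V4 a b, w ∉ zpowers σ := SetLike.not_le_iff_exists.1 fun j =>
      f.not_cyc ((cyc_zpowers σ).mono j)
    by_cases j : d ∈ zpowers σ
    · have := mul_mem (mem_inf.2 ⟨hd, dK⟩) (mem_inf.2 ⟨l (I.VX hw), UK hw⟩)
      exact ⟨_, this, fun e => md ((mul_mem_cancel_right (f.abel hw)).1 e),
        (h1 _ this fun e => mw ((mul_mem_cancel_left j).1 e)).1⟩
    · exact ⟨d, ⟨hd, dK⟩, md, (h1 d ⟨hd, dK⟩ j).1⟩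
  have id : Iv d := .mk' (fun e => md (e ▸ one_mem _)) i'
  have dt := H.nK.le dK
  obtain ⟨k, hk, ok, mk, ik⟩ := exists_inv f (sR.le hd) id md I.hV I.oh I.hnc
  have k1 : k ∈ 𝐂₁ t ⊓ 𝐍 X ⊓ 𝐍 (V4 a b) := by
    have : d ∈ 𝐂₁ t ⊓ 𝐍 X ⊓ 𝐍 (V4 a b) := ⟨⟨dt, nX hd⟩, sR.le hd⟩
    exact zpowers_le.2 (mul_mem this (conj_mem_of_norm (le_norm_self _ (mem_inf.2 ⟨⟨I.ht, I.hX⟩, I.hV⟩)) this)) hk
  have I : SL t k (V4 a b) X := { I with oh := ok, ht := k1.1.1, hX := k1.1.2, hV := k1.2, tr := tr_four f.card k1.2 ok mk }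
  obtain ⟨cs, nQ⟩ := I.comm nf fun g j => by
    rw [f.card]; exact F.c8 (isConj_cj g t) f ha hb (XC j) I.k.inf_left inf_le_right (inf_le_left.trans XC)
  have QX : ⁅X, zpowers k⁆ ≤ X := comm_le_left (zpowers_le.2 I.hX)
  have kQ : zpowers k ≤ 𝐍 ⁅X, zpowers k⁆ := norm_comm_right _ _
  have dQ : d ∈ 𝐍 ⁅X, zpowers k⁆ := zpowers_le.1 (norm_commutator (zpowers_le.2 (nX hd))
    (zpowers_le.2 ((inv_zpowers ik).norm le_rfl)))
  have tQ : t ∉ ⁅X, zpowers k⁆ := by simpa using nQ 1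
  generalize ⁅X, zpowers k⁆ = Q at cs nQ QX kQ dQ tQ
  have tM : t ∉ Q ⊔ zpowers d := fun j => ((mem_sup_iv i' dQ).1 j).elim tQ fun j =>
    md ((mul_mem_cancel_right (XC I.tX)).1 (XC (QX j)))
  obtain ⟨φ, ⟨g, hg⟩, j, -⟩ := DD.xfer hR h2 (relIndex_eq_two_iff_exists_notMem_and'.2 ⟨t, l I.tX, tM, fun y hy => by
    by_cases j : y ∈ 𝐂 (V4 a b)
    · exact (cs y (eX.le ⟨hy, j⟩)).symm.imp mem_sup_left mem_sup_left
    · refine (cs _ (eX.le ⟨mul_mem hd hy, (mul_two i hd hy).2 (iff_of_false md j)⟩)).symm.imp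
        (fun e => (mem_sup_iv i' dQ).2 (.inr ?_)) fun e => (mem_sup_iv i' dQ).2 (.inr e)
      rwa [← mul_assoc, mem_cent1.1 dt, mul_assoc]⟩) H.it (l I.tX) tM H.it.piGrp (mem_zpowers t)
    (zpowers_le.2 (self_mem_cent1 t))
  rw [hg] at j
  have j := ((mem_sup_iv i' dQ).1 j).resolve_left (nQ g)
  have iu := H.it.conj g
  have cu := isConj_cj g t
  generalize g * t * g⁻¹ = u at j iu cu
  have un : u ∈ 𝐍 (V4 a b) := (mul_mem_cancel_left (sR.le hd)).1 (cent_le_norm _ (XC (QX j)))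
  obtain ⟨y, hy, oy, my, iy⟩ := exists_inv f un iu (fun e => md ((mul_mem_cancel_right e).1 (XC (QX j)))) I.hV ok mk
  obtain ⟨q, hq, e⟩ := exists_cj_le_of_le_sup kQ (B := zpowers y) (zpowers_le.2 (zpowers_le.2 (mem_of_eq
    (mul_mem (mul_mem (mem_sup_left (inv_mem j)) (mem_sup_right (inv_mem (mem_zpowers k))))
      (mul_mem (mem_sup_left j) (mem_sup_right (inv_mem (mem_zpowers k))))) (by
        rw [show (d * u)⁻¹ * k⁻¹ = u⁻¹ * k * d⁻¹ by rw [← ik]; group, iu.inv_eq]; group)) hy))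
    (cop2' oy.zpowers (I.k.le QX)) (.inl (abel_zpowers y).sol)
  rw [cj_zpowers, zpowers_le] at e
  have m1 : d * (q * u * q⁻¹) ∈ Q :=
    mem_of_eq (mul_mem (mul_mem (conj_mem_of_norm dQ hq) j) (inv_mem hq)) (by group)
  have := (I.fix e (fun e => my (mem_of_eq (conj_mem_of_norm' (nC (cent_le_norm _ (XC (QX hq)))) e) (by group))) (QX m1)
    (mem_cent1.2 (mul_inv_eq_iff_eq_mul.1 (by
      rw [show d * (q * u * q⁻¹) * (q * y * q⁻¹) * (d * (q * u * q⁻¹))⁻¹ = d * (q * (u * y * u⁻¹) * q⁻¹)⁻¹⁻¹ * d⁻¹ by group,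
        iy, show (q * y⁻¹ * q⁻¹)⁻¹⁻¹ = (q * y * q⁻¹)⁻¹ by group, inv_zpowers ik _ (inv_mem e), inv_inv])))).resolve_right
    fun e => tQ (e ▸ m1)
  exact H.nc dK (cu.trans (isConj_iff.2 ⟨q, by rw [eq_inv_of_mul_eq_one_right this, id.inv_eq]⟩))

theorem XT.fin (H : XT t K T) (h2 : ∀ H : Subgroup G, H.index ≠ 2) (e : Elem 2 2 U T) (n : T ≤ 𝐍 U) (c : t ∈ 𝐂 U) :
    False := by
  by_cases l : U ≤ K
  · obtain ⟨a, ha, a1⟩ := exists_mem_ne_one e.ne_bot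
    obtain ⟨b, f, rfl⟩ := exists_fp e.ab e.card ha a1
    exact H.b3 h2 f (V4_le.1 l).1 (V4_le.1 l).2 n
  obtain ⟨u, hu, m⟩ := SetLike.not_le_iff_exists.1 l
  have ut := le_cent1_iff.2 c hu
  obtain ⟨g, f⟩ := isConj_iff.1 (H.fu h2 ((H.cases (e.le hu) ut).resolve_left m)
    ((H.sq_mul ut).trans (pow_two u ▸ e.ab.pow u hu)))
  rw [H.tt] at f
  have h1 := (H.ex.cj g).card_le (K := 𝐂 U ⊓ T) (by rw [cj_cent1, f]; exact inf_le_left.trans (cent_le_cent1 hu))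
    H.hT.pi.inf_right
  have h3 := Nat.mul_le_mul h1 (Nat.le_of_dvd two_pos (e.relIndex_cent_dvd_two H.hT.pi n))
  rw [card_inf_mul_relIndex, card_cj, ← card_inf_mul_relIndex (𝐂₁ t) T, inf_comm] at h3
  have h4 := Nat.le_of_mul_le_mul_left h3 (card_pos' _)
  have h5 := relIndex_pos (𝐂₁ t) T
  have h6 := mt relIndex_eq_one.1 (H.ne h2)
  exact H.b1 h2 (by omega)

theorem IN.false (H : IN t K) (h2 : ∀ H : Subgroup G, H.index ≠ 2) : False := by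
  obtain ⟨S, s⟩ := BG.exists_syl 2 (𝐂₁ t)
  obtain ⟨T, hT, l⟩ := BG.exists_syl_le le_top s.pi
  have H : XT t K T := ⟨H, hT, s.eq_of_le (le_inf l s.le) inf_le_right hT.pi.inf_left ▸ s⟩
  obtain ⟨z, y, w, δ⟩ := H.dh H.syl
  have f := FP.mk' δ.iz δ.iw (δ.zc δ.wm) δ.ne
  have l := V4_le.2 ⟨δ.zm, δ.wm⟩
  have c := le_cent1_iff.1 (l.trans (inf_le_right.trans H.nK.le))
  obtain ⟨U, e, n⟩ := PiGrp.exists_normal_two hT.pi (Elem.le_pRank (n := 3) (elem_of_card (A := V4 z w ⊔ zpowers t) p2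
    (sup_le (l.trans inf_le_left) (zpowers_le.2 H.tT)) (abelem_of_sq fun x hx =>
      ((mem_sup_iv H.it.sq (cent_le_norm _ c)).1 hx).elim f.sq fun j => by
        rw [← H.tt x, H.sq_mul (le_cent1_iff.2 c j), f.sq j])
    (by rw [card_sup_iv H.it (cent_le_norm _ c) fun j => H.tK (l j).2, f.card]; rfl)))
  by_cases m : t ∈ 𝐂 U
  · exact H.fin h2 e n m
  obtain ⟨φ, ⟨g, hg⟩, j, k⟩ := DD.xfer hT h2 (two_of_dvd (e.relIndex_cent_dvd_two hT.pi n) H.tT m) H.it H.tT m H.ex.pi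
    ⟨H.tT, self_mem_cent1 t⟩ inf_le_right
  exact (H.move fun s hs => hg s ▸ k s hs).fin h2 e n (hg t ▸ j)

end CF.KI
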