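import Cfsg.Agent.Fgs1.Ko10
import Cfsg.Agent.Char.Integral
import Cfsg.Agent.S2488
import Cfsg.Agent.S3120
import Cfsg.Agent.S3402

/-! Simple groups with cyclic two-point stabilisers. -/

set_option autoImplicit false
set_option linter.unusedSectionVars false

namespace CF.Ko
open MulAction Subgroup Cfsg CF.BG CF.Bender CF.ZD CF.Tw
open CF.Ab2 (NS)
open scoped commutatorElement MatrixGroups

universe u v
variable {G : Type u} {Ω : Type v} [Group G] [Finite G] [MulAction G Ω] [Finite Ω]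
variable {A B C H I K L M N O P Q R S T W X Y Z : Subgroup G} {Δ : Set Ω} {a b c d : Ω} {g i m n p s t u v w x y z : G}

local notation "𝐒" => MulAction.stabilizer G
local notation "𝐅" u:max => Fx Ω (zpowers u)

theorem split2 {p j A B s : ℕ} (hp : p.Prime) (e : A * B = p ^ j * s) (c : A.Coprime B) (l : A < B)
    (l' : 3 * B ≤ 4 * A) (hs : s < 3 * p ^ j) : A = p ^ j ∧ B = s ∨ B = p ^ j ∧ A = s := by
  have q := pow_pos hp.pos j
  by_cases d : p ∣ A
  · obtain ⟨m, rfl⟩ := (((hp.coprime_iff_not_dvd (n := B)).2 fun d' => hp.not_dvd_one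
      (c ▸ Nat.dvd_gcd d d')).pow_left j).dvd_of_dvd_mul_right (Dvd.intro _ e.symm)
    rw [mul_assoc] at e
    obtain rfl := Nat.eq_of_mul_eq_mul_left q e
    obtain rfl : m = 1 := by
      rcases m with _ | _ | m
      · omega
      · rfl
      · nlinarith [Nat.zero_le (m * B), Nat.zero_le (p ^ j * m)]
    simp
  · obtain ⟨m, rfl⟩ := ((hp.coprime_iff_not_dvd.2 d).pow_left j).dvd_of_dvd_mul_left (Dvd.intro _ e.symm)
    rw [mul_left_comm] at e
    obtain rfl := Nat.eq_of_mul_eq_mul_left q e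
    obtain rfl : m = 1 := by
      rcases m with _ | _ | m
      · omega
      · rfl
      · nlinarith [Nat.zero_le (A * m), Nat.zero_le (p ^ j * m)]
    simp

theorem idx_eq {G' : Type*} [Group G'] [Finite G'] (e : G ≃* G') {u : G'} (i : Iv u) (one : ∀ u, Iv u → IsConj t u) :
    (𝐂₁ t).index = (𝐂₁ u).index := by
  obtain ⟨g, k⟩ := isConj_iff.1 (one (e.symm u) (iv_iff.2 ((e.symm.orderOf_eq u).trans i.orderOf)))
  let f := (MulAut.conj g).trans e
  rw [← index_comap_of_surjective (f := f.toMonoidHom) _ f.surjective]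
  congr 1
  ext x
  rw [show u = f.toMonoidHom t by simp [f, k], mem_comap, GW.mem_cent1_map_iff f.injective]

theorem idx_l3 {F : Type} [Field F] [Fintype F] (o : Odd (Fintype.card F)) :
    ∃ u : PSL(3, F), Iv u ∧ (𝐂₁ u).index = Fintype.card F ^ 2 * (Fintype.card F ^ 2 + Fintype.card F + 1) := by
  have h2 := JR.two_ne (Nat.card_eq_fintype_card (α := F) ▸ o)
  refine ⟨_, iv_iff.2 (FusB.orderOf_jP h2), ?_⟩
  have q1 := Fintype.one_lt_card (α := F)
  have inj : Function.Injective (FusB.jS F) := fun a b e => by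
    have e := fun i j => congrFun (congrFun (congrArg Subtype.val e) i) j
    exact Classical.gl2_ext_iff.2 ⟨by simpa [FusB.jS_val] using e 0 0, by simpa [FusB.jS_val] using e 0 1,
      by simpa [FusB.jS_val] using e 1 0, by simpa [FusB.jS_val] using e 1 1⟩
  rw [← FusB.range_jP h2, FusB.jP, MonoidHom.range_comp, index_map_eq _ (QuotientGroup.mk'_surjective _) fun z hz => ?_]
  swap
  · obtain ⟨r, h1, h3⟩ := Matrix.SpecialLinearGroup.mem_center_iff.1 ((QuotientGroup.ker_mk' _).le hz)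
    rw [Fintype.card_fin] at h1
    have r0 : r ≠ 0 := by rintro rfl; simp at h1
    have : (r * r)⁻¹ = r := inv_eq_of_mul_eq_one_right (by rw [← h1]; ring)
    refine ⟨Classical.gl2 r 0 0 r (by simpa using r0), Subtype.ext (Eq.trans ?_ h3)⟩
    ext i j; fin_cases i <;> fin_cases j <;> simp [FusB.jS_val, Classical.dt2, this]
  have c := (FusB.jS F).range.card_mul_index
  have c' := Classical.card_SL_fin (F := F) 3 (by norm_num)
  rw [← Nat.card_congr (MonoidHom.ofInjective inj).toEquiv, Classical.card_GL_two] at c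
  obtain ⟨r, hr⟩ : ∃ r, Fintype.card F = r + 1 := ⟨_, (Nat.sub_add_cancel q1.le).symm⟩
  have r0 : 0 < r := by omega
  rw [← c, Fin.prod_univ_three] at c'
  simp only [hr, Nat.add_sub_cancel, Fin.val_zero, Fin.val_one, Fin.val_two, pow_zero, pow_one,
    show (r + 1) ^ 3 - 1 = r * ((r + 1) ^ 2 + (r + 1) + 1) from Nat.sub_eq_of_eq_add (by ring),
    show (r + 1) ^ 3 - (r + 1) = (r + 1) * (r * (r + 2)) from Nat.sub_eq_of_eq_add (by ring),
    show (r + 1) ^ 3 - (r + 1) ^ 2 = (r + 1) ^ 2 * r from Nat.sub_eq_of_eq_add (by ring),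
    show (r + 1) ^ 2 - 1 = r * (r + 2) from Nat.sub_eq_of_eq_add (by ring)] at c' ⊢
  exact Nat.eq_of_mul_eq_mul_left (show 0 < r * (r * ((r + 1) * (r * (r + 2)))) by positivity) (by linarith)

theorem idx_u3 {F : Type} [Field F] [Fintype F] {r : ℕ} (hF : Fintype.card F = (r + 1) ^ 2) (o : Odd (r + 1)) :
    ∃ u : PSU 3 F (r + 1), Iv u ∧ (𝐂₁ u).index = (r + 1) ^ 2 * (r ^ 2 + r + 1) := by
  have r0 : 0 < r := Nat.pos_of_ne_zero fun e => by have := Fintype.one_lt_card (α := F); simp [hF, e] at this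
  obtain ⟨t, -, i⟩ := exists_iv (X := (⊤ : Subgroup (SU 3 F (r + 1)))) (by
    rw [card_top', card_SU3 hF, Nat.not_odd_iff_even]; exact o.pow.add_one.mul_left _)
  have ko : PiGrp {2}ᶜ (QuotientGroup.mk' (center (SU 3 F (r + 1)))).ker := by
    rw [QuotientGroup.ker_mk', PiGrp, Cfsg.Agent.S0279.result hF 3 le_rfl]
    exact ((piNat_compl_single p2).2 (by decide)).dvd (Nat.gcd_dvd_left 3 _)
  refine ⟨QuotientGroup.mk' _ t, ⟨fun z => i.ne ((iv_elt i).eq_one (ko.elt z)), by rw [← map_mul, i.sq, map_one]⟩, ?_⟩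
  rw [← Sig.map_cent1_of_ker (QuotientGroup.mk'_surjective _) ko (iv_elt i), index_map_eq _
    (QuotientGroup.mk'_surjective _) fun z hz => mem_cent1.2
      (mem_center_iff.1 ((QuotientGroup.ker_mk' _).le hz) t).symm]
  have c := (𝐂₁ t).card_mul_index
  rw [(Cfsg.Agent.S2360.result o hF t i.ne i.sq).2.2.1, card_SU3 hF,
    show (r + 1) ^ 2 - 1 = r * (r + 2) from Nat.sub_eq_of_eq_add (by ring)] at c
  exact Nat.eq_of_mul_eq_mul_left (show 0 < (r + 1) * (r + 1 + 1) * (r * (r + 2)) by positivity) (c.trans (by ring))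

namespace CX
variable (h : CX t a b)
include h

theorem der_le : ⁅𝐂₁ t, 𝐂₁ t⁆ ≤ R2 (𝐂₁ t) :=
  (abel_qt_iff (R2_normal _).norm).1 ((h.cyc.abel.qt _).mono ((qt_mono _ fun _ hg =>
    let ⟨_, hy, _, hx, _, e⟩ := h.dec hg; e ▸ mul_mem_sup hy hx).trans (qt_sup_left (h.le.trans (R2_normal _).norm)).le))

theorem syl (one : ∀ u, Iv u → IsConj t u) (r : Syl 2 R (𝐂₁ t)) : Syl 2 R ⊤ :=
  r.trans_idx le_top ((piNat_compl_single p2).2 (relIndex_top_right (𝐂₁ t) ▸ (odd_idx h.iv one).not_two_dvd_nat))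

theorem abel (one : ∀ u, Iv u → IsConj t u) (n : t ∉ R2 (𝐂₁ t)) (r : Syl 2 R (𝐂₁ t)) : Abel R := by
  by_contra na
  obtain ⟨z, hz, i⟩ := exists_iv_of_pi (r.pi.le (inf_le_left.trans (BG.der_le R)))
    (r.pi.nil.inf_cent_ne_bot (der_normal R) fun e => na (der_eq_bot.1 e))
  obtain ⟨g, e⟩ := isConj_iff.1 (one z i)
  obtain ⟨k, -, m, rfl⟩ := PG.burnside_fus (h.syl one r) (le_cent1_iff.1 r.le) hz.2 (mem_top g) e
  exact n (h.der_le (commutator_mono r.le r.le (by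
    simpa [mul_assoc] using conj_mem_of_norm (inv_mem (norm_commutator le_rfl le_rfl m)) hz.1)))

theorem rank (one : ∀ u, Iv u → IsConj t u) (k : NC Ω t) : PRankLE 2 2 G := by
  obtain ⟨R, r⟩ := exists_syl 2 (𝐂₁ t)
  rw [pRankLE_top_iff p2, ← (h.syl one r).syl_pRank]
  refine pRank_le_two ((cyc_zpowers t).pRank_le 2) fun A e x hx y hy n m => ?_
  simp only [PG.mem_zp h.iv, not_or] at n m ⊢
  exact k.cm x (r.le (e.le hx)) y (r.le (e.le hy)) ⟨n.1, sq x ▸ e.ab.pow x hx⟩ ⟨m.1, sq y ▸ e.ab.pow y hy⟩ n.2 m.2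
    (e.abel.mul_comm hx hy)

theorem num : ∃ e α, e % 4 = 3 ∧ 0 < α ∧ Nat.card Ω = (e + 1) * (1 + e * α) ∧
    (𝐂₁ t).index = (1 + e * α) * (1 + α * (e + 1)) := by
  have h1 := h.cnt1
  have h2 := h.idx' h.ev
  have f4 := h.f4
  obtain ⟨e, he⟩ := Nat.exists_eq_add_of_le' (show 1 ≤ _ from h.big.le.trans' one_le_two)
  rw [h.cnt2 h.ev, he, Nat.add_sub_cancel] at h1 h2
  exact ⟨e, _, by omega, h.pos h.ev, by rw [h1, h.ev, Nat.sub_zero]; ring, h2⟩

theorem split {p j s : ℕ} (hp : p.Prime) (k : (𝐂₁ t).index = p ^ j * s) (hs : s < 3 * p ^ j) :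
    ∃ e α, e % 4 = 3 ∧ 0 < α ∧ Nat.card Ω = (e + 1) * (1 + e * α) ∧
      (1 + e * α = p ^ j ∧ p ^ j + α = s ∨ s + α = p ^ j ∧ 1 + e * α = s) := by
  obtain ⟨e, α, e4, a0, c, i⟩ := h.num
  have := Nat.mul_le_mul_right α (show 3 ≤ e by omega)
  have q : 1 + α * (e + 1) = 1 + e * α + α := by ring
  rw [q] at i
  refine ⟨e, α, e4, a0, c, (split2 hp (i.symm.trans k) (by simp) (by omega) (by omega) hs).imp ?_ ?_⟩ <;> omega

theorem small (one : ∀ u, Iv u → IsConj t u) {N : ℕ} (d : Nat.card G ∣ N) (k : N = 62400 ∨ N = 2520 ∨ N = 7920) :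
    False := by
  obtain ⟨e, α, e4, a0, c, i⟩ := h.num
  have o := odd_idx h.iv one
  rw [i, Nat.odd_mul, add_comm, Nat.odd_add_one, Nat.odd_mul, Nat.odd_iff, Nat.odd_iff] at o
  replace d := (h.card h.ne ▸ Dvd.intro_left _ rfl : _ ∣ Nat.card G).trans d
  have l := le_of_mul ((Nat.le_of_dvd (by omega) d).trans (show N ≤ (250 + 1) * 250 by omega))
  rw [c] at l d
  have h1 := Nat.mul_le_mul (show 4 ≤ e + 1 by omega) (Nat.add_le_add_left (Nat.mul_le_mul_right α (show 3 ≤ e by omega)) 1)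
  have h2 := Nat.mul_le_mul_left (e + 1) (Nat.add_le_add_left (Nat.mul_le_mul_left e (show 2 ≤ α by omega)) 1)
  obtain ⟨x, rfl⟩ : ∃ x, e = 4 * x + 3 := ⟨e / 4, by omega⟩
  obtain ⟨y, rfl⟩ : ∃ y, α = 2 * y + 2 := ⟨α / 2 - 1, by omega⟩
  have h3 : x < 2 := by nlinarith
  have h4 : y < 10 := by omega
  clear h1 h2 l c i o e4 a0
  revert d
  revert y
  revert x
  rcases k with rfl | rfl | rfl <;> decide +kernel

theorem of_rank (ns : NS (⊤ : Subgroup G)) (one : ∀ u, Iv u → IsConj t u) (r : PRankLE 2 2 G) :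
    ∃ (F : Type) (_ : Field F) (_ : Fintype F) (q : ℕ), 3 ≤ q ∧ Fintype.card F = q ^ 2 ∧ Nonempty (G ≃* PSU 3 F q) ∧
      Nat.card Ω = q ^ 3 + 1 := by
  have := ns.simple_top
  rcases Cfsg.Agent.S0482.result ns.not_comm_top r with ⟨F, _, _, o, l, ⟨e⟩⟩ | ⟨F, _, _, o, ⟨e⟩⟩ |
    ⟨F, _, _, q, c, o, ⟨e⟩⟩ | ⟨F, _, _, c, ⟨e⟩⟩ | ⟨⟨e⟩⟩ | c
  · rw [← Nat.card_eq_fintype_card] at o l
    obtain ⟨T, κ, κ', j⟩ := (Ab2.l2q_of_iso (JR.two_ne o) (by omega) (topEquiv.trans e)).self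
    have i := h.iv.orderOf
    have l := (j.T_le t trivial i).trans inf_le_right
    have c := card_mul_relIndex l
    rw [← top_inf_eq (𝐂₁ t), j.card_C t trivial i, mul_comm 2, top_inf_eq] at c
    have c := Nat.eq_of_mul_eq_mul_left (card_pos' _) c
    have ab := (j.T_cyc t trivial i).abel.mono (R2_le_of (normalIn_of_two l c.dvd).norm ((piNat_self p2).dvd c.dvd))
    exact (h.ytt.not_comm h.big fun x hx y hy a _ => by rw [smul_smul, ab.mul_comm hx hy, mul_smul]).elim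
  · obtain ⟨u, i, k⟩ := idx_l3 o
    obtain ⟨p, hp⟩ := CharP.exists F
    obtain ⟨j, pp, hq⟩ := FiniteField.card F p
    have q1 := Fintype.one_lt_card (α := F)
    rw [← idx_eq e i one] at k
    generalize Fintype.card F = q at *
    have q2 : q ^ 2 = p ^ (j * 2 : ℕ) := by rw [hq, pow_mul]
    obtain ⟨e, α, e4, -, -, ⟨e1, e2⟩ | ⟨e1, e2⟩⟩ := h.split pp (q2 ▸ k) (by rw [← q2]; nlinarith) <;> rw [← q2] at *
    · obtain rfl : α = q + 1 := by omega
      have : q = e + 1 := Nat.eq_of_mul_eq_mul_right q.succ_pos (by nlinarith)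
      have := Nat.odd_iff.1 o
      omega
    · omega
  · obtain ⟨r, rfl⟩ : ∃ r, q = r + 1 := ⟨_, (Nat.succ_pred_eq_of_pos o.pos).symm⟩
    obtain ⟨u, i, k⟩ := idx_u3 c o
    obtain ⟨p, hp⟩ := CharP.exists F
    obtain ⟨j, pp, hq⟩ := FiniteField.card F p
    have q1 := Fintype.one_lt_card (α := F)
    have q2 := c.symm.trans hq
    rw [← idx_eq e i one] at k
    have r0 : 0 < r := Nat.pos_of_ne_zero fun e => by simp [c, e] at q1
    have := Nat.odd_iff.1 o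
    obtain ⟨e', α, -, -, n, ⟨e1, e2⟩ | ⟨e1, e2⟩⟩ := h.split pp (q2 ▸ k) (by rw [← q2]; nlinarith) <;> rw [← q2] at *
    · nlinarith
    · obtain rfl : α = r := by nlinarith
      obtain rfl : e' = α + 1 := Nat.eq_of_mul_eq_mul_right r0 (by nlinarith)
      exact ⟨F, _, _, _, by omega, c, ⟨e⟩, by rw [n]; ring⟩
  · refine (h.small one ?_ (.inl rfl)).elim
    have := card_quotient_dvd_card (center (SU 3 F 4))
    rwa [card_SU3 (q := 4) c, ← Nat.card_congr e.toEquiv] at this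
  · exact (h.small one (by rw [Nat.card_congr e.toEquiv, Nat.card_eq_fintype_card, card_alternatingGroup]; rfl)
      (.inr (.inl rfl))).elim
  · exact (h.small one c.2.dvd (.inr (.inr rfl))).elim

theorem cb_uniq (k : CB Ω t) (W : WW Ω t ≤ zpowers t) (sq : ∀ x : G, PiElt {2} x → x * x = 1) (hx : x ∈ D2 G a b)
    (n : x ≠ 1) (l : 2 < (𝐅 x).ncard) : x = t := by
  obtain ⟨u, z, hu, hz, k1, k2, rfl⟩ := exists_piPart {2} x
  have hu := zpowers_le.2 hx hu
  have hK := zpowers_le.2 hx hz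
  suffices e : z = 1 by
    rw [e, mul_one] at n ⊢
    exact h.eq ⟨n, sq u k1⟩ hu
  have od : ∀ w ∈ zpowers z, w ∈ WW Ω t → w = 1 := fun w hw m =>
    ((iv_pi h.iv).elt (W m)).eq_one (k2.of_mem_zpowers hw)
  by_contra z1
  have hY := mem_R2 (h.le hK) k2
  have l := l.trans_le (Set.ncard_le_ncard (fx_anti (zpowers_le.2 hz)))
  have ev := par_iv h.iv fun _ => cent_fx (Ω := Ω) (mem_cent1_comm.1 (h.le hK))
  have := k.zas z hY (mt (od z (mem_zpowers z)) z1)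
  have := (Set.one_lt_ncard (s := 𝐅 t ∩ 𝐅 z)).2 ⟨a, ⟨h.ha, fx_zp.2 hK.1⟩, b, ⟨h.hb, fx_zp.2 hK.2⟩, h.ne⟩
  rw [Set.inter_comm] at ev
  obtain ⟨s, j⟩ := h.exists_sw h.ne
  have c := h.kt.cent_of_pi l (by omega) (iv_elt j.iv) (h.cyc.le_norm (zpowers_le.2 hK) (zpowers_le.2 j.norm) (mem_zpowers s))
  obtain ⟨y, hy, w, hw, p, rfl⟩ := h.cb_yw k (h.sw_c j) j.sq
  have e : y • a = b := by rw [← j.ab, mul_smul, W_smul hw h.ha]
  rw [cent_zpowers, mul_mem_cancel_right (mem_cent1.2 (h.cyc.abel.mul_comm (h.W_le hw) hK))] at c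
  have := k.inv a h.ha y hy (e ▸ h.ne.symm) (by
    have := j.sq
    rw [Commute.mul_mul_mul_comm (mem_cent1.1 (h.cu hw p (R2_le _ hy))).symm] at this
    exact eq_inv_of_mul_eq_one_left this ▸ inv_mem (mul_mem hw hw)) z hY (e ▸ hK)
  rw [conj_of_cent c] at this
  exact z1 ((PG.two_elt (od _ (mul_mem (mem_zpowers z) (mem_zpowers z)) this)).eq_one k2)

theorem ree (ns : NS (⊤ : Subgroup G)) (one : ∀ u, Iv u → IsConj t u) (n : t ∉ R2 (𝐂₁ t)) :
    (∀ x ∈ D2 G a b, x ≠ 1 → 2 < (𝐅 x).ncard → x = t) ∧ ∃ (K : Type) (_ : Field K) (_ : Fintype K),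
      Odd (Fintype.card K) ∧ Nonempty (𝐂₁ t ≃* PSL(2, K) × Multiplicative (ZMod 2)) := by
  obtain ⟨R, r⟩ := exists_syl 2 (𝐂₁ t)
  have s := h.syl one r
  have i := h.iv.orderOf
  rcases Ab2.abel_cases ns s (h.abel one n r) with ⟨F, _, _, ⟨m, l2, c⟩, ⟨e⟩⟩ | k | j
  · have ab := abel_of_sq fun y hy => JR.l2e_sq (by omega) c e i (y := y) hy
    exact (h.ctt.not_comm h.big fun x hx y hy a _ => by rw [smul_smul, ab.mul_comm hx hy, mul_smul]).elim
  · have c := card_mul_relIndex r.le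
    obtain ⟨x, hx⟩ := h.iv.card ▸ card_dvd (zpowers_le.2 h.mem)
    obtain ⟨y, hy⟩ := Nat.dvd_of_mod_eq_zero h.f4
    rw [k.card s, h.card_C, hx, hy, mul_assoc 4, mul_left_comm, mul_assoc] at c
    exact (r.not_dvd p2 (Dvd.intro _ (Nat.eq_of_mul_eq_mul_left four_pos c).symm)).elim
  obtain ⟨S, sS, ae, c8, -⟩ := j.syl
  obtain ⟨g, -, rfl⟩ := s.syl_conj sS
  obtain ⟨E, K, d, nK, lK, nsK, s4, cK, o⟩ := (j.cent t trivial i).dprod trivial i (by rwa [top_inf_eq]) (by simpa using c8)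
  obtain ⟨k, _, _, q8, ok, q3, ⟨e⟩⟩ := s4.top.psl nsK.top
  rw [top_inf_eq] at d nK
  obtain rfl := (Ab2.jmain G t K E _ ⟨i, fun a b ia ib => (one a (iv_iff.2 ia)).symm.trans (one b (iv_iff.2 ib)), d,
    nK.of_le lK d.right_le, cK, o, q8, k, _, _, rfl, ⟨e⟩⟩).eq ns.perf
  have key : ∀ N, N ⊴ 𝐂₁ t → Sol N → t ∈ N → N ≤ zpowers t := fun N nN sN m x hx => by
    obtain ⟨z, hz, y, hy, rfl⟩ := d.sdprod.exists_mul (nN.le hx)
    rwa [show y = 1 from eq_one_of_mem_bot (nsK.eq_bot_of_sol (normalIn_inf_left (d.right_le.trans nN.norm))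
      (sN.mono inf_le_right)) ⟨hy, (mul_mem_cancel_left (zpowers_le.2 m hz)).1 hx⟩, mul_one]
  refine ⟨fun x => h.cb_uniq (h.cases.resolve_left fun c => ?_) (key _ ⟨h.W_C, norm_W⟩ (h.cyc.mono h.W_le).sol mem_W)
    fun x p => ?_, k, _, _, ok, (Ab2.dprod_equiv d i e).map fun f => f.trans MulEquiv.prodComm⟩
  · obtain ⟨p, hp, e⟩ := c a h.ha b h.hb
    exact h.ne ((h.ha (key _ (O_normal _ _) (O_pi _ _).sol (h.W_O mem_W (iv_elt h.iv)) hp)).symm.trans e)
  · obtain ⟨y, -, l⟩ := sS.syl_cj_le le_top p.zpowers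
    simpa [← pow_two] using ae.pow _ (l (conj_mem_cj.2 (mem_zpowers x)))

end CX

theorem T2.big (h : T2 G Ω) (n2 : ∀ H : Subgroup G, H.index ≠ 2) (n : a ≠ b) : 2 < Nat.card Ω :=
  lt_of_le_of_ne (Finite.one_lt_card_iff_nontrivial.2 ⟨a, b, n⟩) (h.index1 n ▸ n2 _).symm

theorem T2.not_reg (h : T2 G Ω) (ns : NS (⊤ : Subgroup G)) (n : a ≠ b) : ¬ EqF.Reg G Ω := fun ⟨N, nm, tr, fix⟩ => by
  obtain rfl | rfl := ns.eq_or N (normalIn_top.2 nm)
  · obtain ⟨g, hg, e⟩ := tr a b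
    exact n (by rw [← e, mem_bot.1 hg, one_smul])
  obtain ⟨c, -, n1, n2⟩ := exists_third (Set.ncard_univ Ω ▸ h.big ns.index_ne n) a b
  obtain ⟨g, e1, e2⟩ := h.tt a b a c n n1.symm
  exact n2 (by rw [← e2, fix a g trivial e1, one_smul])

theorem UI.three (h : UI G Ω) (ns : NS (⊤ : Subgroup G)) (n : a ≠ b) (k : Nat.card Ω = 3 ∨ Nat.card Ω = 11) : False := by
  by_cases o : Odd (♯(D2 G a b))
  · obtain ⟨S, s⟩ := exists_syl 2 (⊤ : Subgroup G)
    have d := card_dvd (le_top : S ≤ ⊤)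
    obtain ⟨_ | _ | j, e⟩ := s.pi.card_pow
    · exact ns.syl_ne s (card_eq_one.1 e)
    · exact ns.not_cyc s (cyc_of_prime (e ▸ p2))
    rw [e, card_top', h.card n] at d
    have := (o.coprime_two_left.pow_left 2).dvd_of_dvd_mul_left ((pow_dvd_pow 2 (by omega)).trans d)
    rcases k with k | k <;> simp [k] at this
  obtain ⟨t, ht, i⟩ := exists_iv o
  have c : CI t a b := ⟨h, n, i, ht⟩
  have h1 := c.two_le
  have h2 := c.lt
  have h3 := par_fx (Ω := Ω) i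
  have d := Dvd.intro_left _ c.idx
  generalize (𝐅 t).ncard = f at *
  rcases k with k | k <;> rw [k] at h2 h3 d
  · omega
  · interval_cases f <;> omega

/-- the conclusion -/
def Cn (G : Type u) (Ω : Type v) [Group G] [MulAction G Ω] (a b : Ω) : Prop :=
  (∃ (F : Type) (_ : Field F) (_ : Fintype F), 4 ≤ Fintype.card F ∧ Nonempty (G ≃* PSL(2, F)) ∧
    Nat.card Ω = Fintype.card F + 1) ∨
  (∃ (F : Type) (_ : Field F) (_ : Fintype F) (m : ℕ), 1 ≤ m ∧ Fintype.card F = 2 ^ (2 * m + 1) ∧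
    Nonempty (G ≃* Lie.Sz F (2 ^ (m + 1))) ∧ Nat.card Ω = Fintype.card F ^ 2 + 1) ∨
  (∃ (F : Type) (_ : Field F) (_ : Fintype F) (q : ℕ), 3 ≤ q ∧ Fintype.card F = q ^ 2 ∧ Nonempty (G ≃* PSU 3 F q) ∧
    Nat.card Ω = q ^ 3 + 1) ∨
  ((∃! t : G, t ∈ D2 G a b ∧ t ≠ 1 ∧ 2 < (Fx Ω (zpowers t)).ncard) ∧
    (∀ s t : G, orderOf s = 2 → orderOf t = 2 → IsConj s t) ∧
    ∃ (t : G) (K : Type) (_ : Field K) (_ : Fintype K), orderOf t = 2 ∧ Odd (Fintype.card K) ∧
      Nonempty (𝐂₁ t ≃* PSL(2, K) × Multiplicative (ZMod 2)))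

theorem KT.cn_odd (h : KT G Ω) (ns : NS (⊤ : Subgroup G)) (n : a ≠ b) (o : Odd (Nat.card Ω)) : Cn G Ω a b := by
  have := Fintype.ofFinite Ω
  have := h.faith
  have c : IsCyclic (D2 G a b) := h.cyc a b n
  have big := h.big ns.index_ne n
  obtain ⟨L, nL, L1, -, -, k⟩ := (Cfsg.Agent.S3120.result (Nat.card_eq_fintype_card (α := Ω) ▸ o) h.tt a b n
    fun S => .inl inferInstance).resolve_left (h.not_reg ns n)
  obtain rfl := (ns.eq_or L (normalIn_top.2 nL)).resolve_left L1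
  rw [← Nat.card_eq_fintype_card] at k
  have := Nat.odd_iff.1 o
  rcases k with ⟨F, _, _, -, c, ⟨e⟩⟩ | ⟨F, _, _, m, l, c, c', ⟨e⟩⟩ | ⟨F, _, _, q, ev, c, c', ⟨e⟩⟩ | ⟨c, -⟩
  · exact .inl ⟨F, _, _, by_contra fun l => h.ui.three ns n (.inl (by omega)), ⟨topEquiv.symm.trans e⟩, c⟩
  · exact .inr (.inl ⟨F, _, _, m, l, c, ⟨topEquiv.symm.trans e⟩, c'⟩)
  · refine .inr (.inr (.inl ⟨F, _, _, q, by_contra fun l => ?_, c, ⟨topEquiv.symm.trans e⟩, c'⟩))
    obtain rfl : q = 2 := by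
      have := Nat.even_iff.1 ev
      have : q ≠ 0 := by rintro rfl; omega
      omega
    have := card_quotient_dvd_card (center (SU 3 F 2))
    rw [card_SU3 c, ← Nat.card_congr e.toEquiv] at this
    exact ns.not_sol (Char.isSolvable_of_card_dvd p2 Nat.prime_three _ (a := 3) (b := 3) this)
  · exact (h.ui.three ns n (.inr c)).elim

theorem KT.cn_two (h : KT G Ω) (ns : NS (⊤ : Subgroup G)) (c : CI t a b) (e : Nat.card Ω % 4 = 2) : Cn G Ω a b := by
  have := Fintype.ofFinite Ω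
  have := h.faith
  have : IsCyclic (D2 G a b) := h.cyc a b c.ne
  have := Fact.mk p2
  have big := h.big ns.index_ne c.ne
  rw [Nat.card_eq_fintype_card] at e big
  obtain ⟨L, nL, L1, -, -, k⟩ := Cfsg.Agent.S3402.result h.two e big a b c.ne default (.inl inferInstance)
  obtain rfl := (ns.eq_or L (normalIn_top.2 nL)).resolve_left L1
  rw [← Nat.card_eq_fintype_card] at k
  rcases k with ⟨k, ⟨e⟩⟩ | ⟨F, _, _, l, k, ⟨e⟩⟩ | ⟨F, _, _, q, k, l, k', ⟨e⟩⟩
  · replace e := topEquiv.symm.trans e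
    have c12 := h.card c.ne
    rw [k, show Nat.card G = 360 by
      rw [Nat.card_congr e.toEquiv, Nat.card_eq_fintype_card, card_alternatingGroup]; rfl] at c12
    obtain ⟨x, hx, o⟩ := exists_mem_orderOf_eq (H := D2 G a b) Nat.prime_three (by omega)
    have := orderOf_dvd_of_pow_eq_one (Cfsg.Agent.S2488.pow_four (z := e t) (g := e x)
      ((e.orderOf_eq t).trans c.iv.orderOf) (Commute.map (mem_cent1.1 (c.le hx)).symm e))
    rw [e.orderOf_eq, o] at this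
    omega
  · exact .inl ⟨F, _, _, l, ⟨topEquiv.symm.trans e⟩, k⟩
  · exact .inr (.inr (.inl ⟨F, _, _, q, l, k, ⟨topEquiv.symm.trans e⟩, k'⟩))

theorem KT.cn (h : KT G Ω) (ns : NS (⊤ : Subgroup G)) (n : a ≠ b) : Cn G Ω a b := by
  have big := h.big ns.index_ne n
  by_cases ev : Nat.card Ω % 2 = 0
  swap
  · exact h.cn_odd ns n (Nat.odd_iff.2 (by omega))
  have rb : RB G Ω → Cn G Ω a b := fun r => let ⟨F, _, _, l, c, e⟩ := r.psl; .inl ⟨F, _, _, l, e, c⟩
  rcases (h.main big ev ns.index_ne).resolve_left (h.not_reg ns n) with r | o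
  · exact rb r
  rcases h.exists_ci n big ev with k | ⟨t, c⟩
  · exact rb (k.bd.resolve_left (h.not_reg ns n))
  have one : ∀ u, Iv u → IsConj t u := fun u i => let ⟨_, e⟩ := o u i; c.conj' ev i e
  have := par_fx (Ω := Ω) c.iv
  by_cases f4 : (𝐅 t).ncard % 4 = 0
  swap
  · exact h.cn_two ns c (by have := c.mod4 ev (odd_idx c.iv one); omega)
  have x : CX t a b := ⟨c, h, ev, f4⟩
  rcases x.dich with k | k
  · obtain ⟨u, K, _, _, k⟩ := x.ree ns one k
    exact .inr (.inr (.inr ⟨⟨t, ⟨c.mem, c.iv.ne, x.big⟩, fun y hy => u y hy.1 hy.2.1 hy.2.2⟩,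
      fun u v i j => (one u (iv_iff.2 i)).symm.trans (one v (iv_iff.2 j)), t, K, _, _, c.iv.orderOf, k⟩))
  · exact .inr (.inr (.inl (x.of_rank ns one (x.rank one k))))

end CF.Ko
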