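import Mathlib.Algebra.Lie.Basic
import Mathlib.Data.ZMod.Basic
import Mathlib.Algebra.BigOperators.Group.Finset.Basic
import Mathlib.Algebra.Order.BigOperators.Group.Finset
import Mathlib.Tactic

/-!
# Combinatorics in graded Lie rings: the theorems of Higman, Kreknin and Kostrikin
-/

set_option autoImplicit false

namespace CF.Fgs1.Lie

open AddSubgroup hiding closure subset_closure closure_mono

local notation "closure" => AddSubgroup.closure
local notation "subset_closure" => AddSubgroup.subset_closure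
local notation "closure_mono" => AddSubgroup.closure_mono

variable {L : Type*} [LieRing L]

/-- Iterated left action `⁅y₁, ⁅y₂, … v⁆⁆`. -/
def act (ys : List L) (v : L) : L := ys.foldr (fun y v => ⁅y, v⁆) v

@[simp] theorem act_nil (v : L) : act [] v = v := rfl
@[simp] theorem act_cons (y : L) (ys : List L) (v : L) : act (y :: ys) v = ⁅y, act ys v⁆ := rfl

theorem act_append (xs ys : List L) (v : L) : act (xs ++ ys) v = act xs (act ys v) :=
  List.foldr_append

theorem act_zero (ys : List L) : act ys 0 = 0 := by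
  induction ys with
  | nil => rfl
  | cons y ys ih => rw [act_cons, ih, lie_zero]

theorem act_add (ys : List L) (v w : L) : act ys (v + w) = act ys v + act ys w := by
  induction ys with
  | nil => rfl
  | cons y ys ih => rw [act_cons, ih, lie_add]; rfl

theorem act_neg (ys : List L) (v : L) : act ys (-v) = -act ys v := by
  induction ys with
  | nil => rfl
  | cons y ys ih => rw [act_cons, ih, lie_neg]; rfl

/-- `act ys` as an additive homomorphism. -/
def actHom (ys : List L) : L →+ L := AddMonoidHom.mk' (act ys) (act_add ys)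

/-- `V` is invariant under `X`. -/
def Inv (X : Set L) (V : AddSubgroup L) : Prop := ∀ x ∈ X, ∀ v ∈ V, ⁅x, v⁆ ∈ V

/-- `n` elements of `X` move `V` into `W`. -/
def Kills (X : Set L) (n : ℕ) (V W : AddSubgroup L) : Prop :=
  ∀ ys : List L, (∀ y ∈ ys, y ∈ X) → ys.length = n → ∀ v ∈ V, act ys v ∈ W

/-- `X` is closed under brackets. -/
def Cl (X : Set L) : Prop := ∀ x ∈ X, ∀ y ∈ X, ⁅x, y⁆ ∈ X

/-- The set of brackets. -/
def D (X : Set L) : Set L := {z | ∃ x ∈ X, ∃ y ∈ X, z = ⁅x, y⁆}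

/-- The subgroup `[X, V]`. -/
def step (X : Set L) (V : AddSubgroup L) : AddSubgroup L :=
  closure {z | ∃ x ∈ X, ∃ v ∈ V, z = ⁅x, v⁆}

theorem lie_mem_step {X : Set L} {V : AddSubgroup L} {x v : L} (hx : x ∈ X) (hv : v ∈ V) :
    ⁅x, v⁆ ∈ step X V := subset_closure ⟨x, hx, v, hv, rfl⟩

theorem step_le {X : Set L} {V W : AddSubgroup L} :
    step X V ≤ W ↔ ∀ x ∈ X, ∀ v ∈ V, ⁅x, v⁆ ∈ W := by
  refine ⟨fun h x hx v hv => h (lie_mem_step hx hv), fun h => (closure_le _).mpr ?_⟩
  rintro _ ⟨x, hx, v, hv, rfl⟩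
  exact h x hx v hv

theorem step_mono {X Y : Set L} {V W : AddSubgroup L} (h1 : X ⊆ Y) (h2 : V ≤ W) :
    step X V ≤ step Y W := step_le.mpr fun _ hx _ hv => lie_mem_step (h1 hx) (h2 hv)

theorem lie_mem_of_closure_right {x : L} {S : Set L} {W : AddSubgroup L}
    (h : ∀ s ∈ S, ⁅x, s⁆ ∈ W) {v : L} (hv : v ∈ closure S) : ⁅x, v⁆ ∈ W :=
  (closure_le (W.comap (actHom [x]))).mpr h hv

theorem lie_mem_of_closure_left {x : L} {S : Set L} {W : AddSubgroup L}
    (h : ∀ s ∈ S, ⁅s, x⁆ ∈ W) {v : L} (hv : v ∈ closure S) : ⁅v, x⁆ ∈ W := by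
  rw [← lie_skew]
  refine neg_mem (lie_mem_of_closure_right (fun s hs => ?_) hv)
  rw [← lie_skew]
  exact neg_mem (h s hs)

theorem Inv.act_mem {X : Set L} {V : AddSubgroup L} (h : Inv X V) {ys : List L}
    (hy : ∀ y ∈ ys, y ∈ X) {v : L} (hv : v ∈ V) : act ys v ∈ V := by
  induction ys with
  | nil => exact hv
  | cons y ys ih =>
    exact h y (hy y List.mem_cons_self) _ (ih fun z hz => hy z (List.mem_cons_of_mem _ hz))

theorem Inv.mono {X Y : Set L} {V : AddSubgroup L} (h : Inv X V) (hY : Y ⊆ X) : Inv Y V :=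
  fun x hx => h x (hY hx)

theorem inv_bot (X : Set L) : Inv X ⊥ := fun x _ v hv => by
  rw [mem_bot.mp hv, lie_zero]; exact zero_mem _

theorem inv_top (X : Set L) : Inv X ⊤ := fun _ _ _ _ => mem_top _

theorem lie_mem_D {X : Set L} {x y : L} (hx : x ∈ X) (hy : y ∈ X) : ⁅x, y⁆ ∈ D X :=
  ⟨x, hx, y, hy, rfl⟩

theorem Cl.D_sub {X : Set L} (h : Cl X) : D X ⊆ X := by
  rintro _ ⟨x, hx, y, hy, rfl⟩
  exact h x hx y hy

theorem Cl.cl_D {X : Set L} (h : Cl X) : Cl (D X) := fun x hx y hy =>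
  ⟨x, h.D_sub hx, y, h.D_sub hy, rfl⟩

theorem D_mono {X Y : Set L} (h : X ⊆ Y) : D X ⊆ D Y := by
  rintro _ ⟨x, hx, y, hy, rfl⟩
  exact ⟨x, h hx, y, h hy, rfl⟩

theorem D_iter_mono {X Y : Set L} (h : X ⊆ Y) (n : ℕ) : D^[n] X ⊆ D^[n] Y := by
  induction n generalizing X Y with
  | zero => exact h
  | succ n ih => exact ih (D_mono h)

theorem Cl.inv_closure {X : Set L} (h : Cl X) : Inv X (closure X) := fun x hx _ hv =>
  lie_mem_of_closure_right (fun s hs => subset_closure (h x hx s hs)) hv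

theorem Cl.inv_step {X : Set L} (h : Cl X) {V : AddSubgroup L} (hV : Inv X V) :
    Inv X (step (D X) V) := by
  intro x hx w hw
  refine lie_mem_of_closure_right ?_ hw
  rintro _ ⟨y, hy, v, hv, rfl⟩
  rw [leibniz_lie]
  exact add_mem (lie_mem_step ⟨x, hx, y, h.D_sub hy, rfl⟩ hv) (lie_mem_step hy (hV x hx v hv))

theorem Kills.mono {X Y : Set L} {n : ℕ} {V W V' W' : AddSubgroup L} (h : Kills X n V W)
    (hY : Y ⊆ X) (hV : V' ≤ V) (hW : W ≤ W') : Kills Y n V' W' :=
  fun ys hy hl v hv => hW (h ys (fun y hm => hY (hy y hm)) hl v (hV hv))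

theorem Kills.add {X : Set L} {m n : ℕ} {U V W : AddSubgroup L} (h1 : Kills X m V W)
    (h2 : Kills X n U V) : Kills X (m + n) U W := by
  intro ys hy hl v hv
  rw [← List.take_append_drop m ys, act_append]
  exact h1 _ (fun y hm => hy y (List.mem_of_mem_take hm)) (by simp [hl]) _
    (h2 _ (fun y hm => hy y (List.mem_of_mem_drop hm)) (by simp [hl]) v hv)

theorem Kills.of_le {X : Set L} {m n : ℕ} {V W : AddSubgroup L} (h : Kills X m V W)
    (hW : Inv X W) (hmn : m ≤ n) : Kills X n V W := by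
  obtain ⟨k, rfl⟩ := Nat.exists_eq_add_of_le' hmn
  exact Kills.add (fun ys hy _ v hv => hW.act_mem hy hv) h

theorem kills_one {X : Set L} {V W : AddSubgroup L} (h : ∀ x ∈ X, ∀ v ∈ V, ⁅x, v⁆ ∈ W) :
    Kills X 1 V W := by
  intro ys hy hl v hv
  obtain ⟨y, rfl⟩ := List.length_eq_one_iff.mp hl
  exact h y (hy y List.mem_cons_self) v hv

theorem kills_closure {X S : Set L} {n : ℕ} {W : AddSubgroup L}
    (h : ∀ ys : List L, (∀ y ∈ ys, y ∈ X) → ys.length = n → ∀ v ∈ S, act ys v ∈ W) :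
    Kills X n (closure S) W := fun ys hy hl _ hv =>
  (closure_le (W.comap (actHom ys))).mpr (h ys hy hl) hv

theorem Kills.step {X : Set L} {n : ℕ} {V W : AddSubgroup L} (h : Kills X (n + 1) V W) :
    Kills X n (step X V) W := by
  refine kills_closure fun ys hy hl => ?_
  rintro _ ⟨x, hx, v, hv, rfl⟩
  have := h (ys ++ [x]) (fun y hm => by
    rcases List.mem_append.mp hm with hm | hm
    · exact hy y hm
    · exact List.mem_singleton.mp hm ▸ hx) (by simp [hl]) v hv
  rwa [act_append] at this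

theorem Kills.iter_le {X : Set L} {n : ℕ} {V W : AddSubgroup L} (h : Kills X n V W) :
    (Lie.step X)^[n] V ≤ W := by
  induction n generalizing V with
  | zero => exact fun v hv => h [] (by simp) rfl v hv
  | succ n ih => exact ih h.step

theorem Kills.closure_left {X : Set L} {n : ℕ} {V W : AddSubgroup L} (h : Kills X n V W) :
    Kills (closure X) n V W := by
  induction n generalizing W with
  | zero =>
    intro ys _ hl
    obtain rfl := List.length_eq_zero_iff.mp hl
    exact h [] (by simp) rfl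
  | succ n ih =>
    intro ys hy hl v hv
    obtain ⟨y, ys, rfl⟩ := List.exists_cons_of_length_eq_add_one hl
    refine lie_mem_of_closure_left (fun x hx => ?_) (hy y List.mem_cons_self)
    refine ih (W := W.comap (actHom [x])) (fun zs hz hl v hv => ?_) ys
      (fun z hz => hy z (List.mem_cons_of_mem _ hz)) (by simpa using hl) v hv
    exact h (x :: zs) (fun z hm => by
      rcases List.mem_cons.mp hm with rfl | hm
      · exact hx
      · exact hz z hm) (by simp [hl]) v hv

/-- Modulo `[D X, V]` the elements of `X` commute on `V`. -/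
theorem Cl.comm {X : Set L} (h : Cl X) {V : AddSubgroup L} (hV : Inv X V) {y : L} (hy : y ∈ X)
    {ys : List L} (hys : ∀ z ∈ ys, z ∈ X) {v : L} (hv : v ∈ V) :
    ⁅y, act ys v⁆ - act ys ⁅y, v⁆ ∈ step (D X) V := by
  induction ys with
  | nil => simp
  | cons z ys ih =>
    have hz := hys z List.mem_cons_self
    have hys' : ∀ z ∈ ys, z ∈ X := fun w hw => hys w (List.mem_cons_of_mem _ hw)
    rw [act_cons, act_cons, leibniz_lie, add_sub_assoc, ← lie_sub]
    exact add_mem (lie_mem_step ⟨y, hy, z, hz, rfl⟩ (hV.act_mem hys' hv))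
      (h.inv_step hV z hz _ (ih hys'))

theorem Cl.kills_mul {X : Set L} (h : Cl X) (P : AddSubgroup L → Prop)
    (hP : ∀ V, P V → P (step (D X) V)) {r : ℕ}
    (hr : ∀ V, P V → Inv X V → Kills X r V (step (D X) V)) (N : ℕ) :
    ∀ V, P V → Inv X V → Kills (D X) N V ⊥ → Kills X (r * N) V ⊥ := by
  induction N with
  | zero =>
    intro V _ _ hk ys hy hl v hv
    exact (inv_bot X).act_mem hy (hk [] (by simp) rfl v hv)
  | succ N ih =>
    intro V hV hi hk
    exact Kills.add (ih _ (hP V hV) (h.inv_step hi) hk.step) (hr V hV hi)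

section Colors

theorem sum_countP {α ι : Type*} [Fintype ι] [DecidableEq ι] (c : α → ι) (ys : List α) :
    ∑ i, ys.countP (fun y => c y = i) = ys.length := by
  induction ys with
  | nil => simp
  | cons y ys ih =>
    simp only [List.countP_cons, Finset.sum_add_distrib, ih, List.length_cons]
    simp

theorem Cl.kills_color {X : Set L} (h : Cl X) {ι : Type*} [Fintype ι] (c : L → ι) {n : ℕ}
    {V : AddSubgroup L} (hV : Inv X V) (hc : ∀ i, Kills {x ∈ X | c x = i} n V ⊥) :
    Kills X (Fintype.card ι * n + 1) V (step (D X) V) := by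
  classical
  intro ys hy hl v hv
  obtain ⟨i, hi⟩ : ∃ i, n ≤ ys.countP (fun y => c y = i) := by
    by_contra hcon
    push Not at hcon
    have := Finset.sum_le_card_nsmul Finset.univ (fun i => ys.countP (fun y => c y = i)) n
      (fun i _ => (hcon i).le)
    rw [sum_countP, hl] at this
    simp at this
  have key : ∀ ys : List L, (∀ y ∈ ys, y ∈ X) → ∀ zs : List L, (∀ z ∈ zs, z ∈ {x ∈ X | c x = i}) →
      n ≤ ys.countP (fun y => c y = i) + zs.length → act ys (act zs v) ∈ step (D X) V := by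
    intro ys
    induction ys with
    | nil =>
      intro _ zs hz hn
      have := (hc i).of_le (inv_bot _) (n := zs.length) (by simpa using hn) zs hz rfl v hv
      rw [act_nil, mem_bot.mp this]
      exact zero_mem _
    | cons y ys ih =>
      intro hy zs hz hn
      have hy1 := hy y List.mem_cons_self
      have hy2 : ∀ z ∈ ys, z ∈ X := fun w hw => hy w (List.mem_cons_of_mem _ hw)
      rw [act_cons]
      by_cases hci : c y = i
      · have h1 := h.comm hV hy1 hy2 (hV.act_mem (fun z hm => (hz z hm).1) hv)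
        have h2 := ih hy2 (y :: zs) (fun z hm => by
          rcases List.mem_cons.mp hm with rfl | hm
          · exact ⟨hy1, hci⟩
          · exact hz z hm) (by simp [hci] at hn ⊢; omega)
        simpa using add_mem h1 h2
      · exact h.inv_step hV y hy1 _ (ih hy2 zs hz (by simpa [hci] using hn))
  exact key ys hy [] (by simp) (by simpa using hi)

/-- A solvable closed set covered by finitely many nilpotent pieces acts nilpotently. -/
theorem Cl.kills_of_colors {ι : Type*} [Fintype ι] (c : L → ι) {n : ℕ} (s : ℕ) :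
    ∀ {X : Set L}, Cl X → D^[s] X ⊆ {0} → ∀ {V : AddSubgroup L}, Inv X V →
      (∀ i, Kills {x ∈ X | c x = i} n V ⊥) → Kills X ((Fintype.card ι * n + 1) ^ s) V ⊥ := by
  induction s with
  | zero =>
    intro X _ h0 V _ _
    refine kills_one fun x hx v _ => ?_
    rw [Set.mem_singleton_iff.mp (h0 hx), zero_lie]
    exact zero_mem _
  | succ s ih =>
    intro X hX h0 V hV hc
    rw [pow_succ']
    refine hX.kills_mul (fun W => W ≤ V) (fun W hW => step_le.mpr fun x hx v hv =>
      hV x (hX.D_sub hx) v (hW hv)) (fun W hW hi => hX.kills_color c hi fun i =>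
        (hc i).mono le_rfl hW le_rfl) _ V le_rfl hV ?_
    exact ih hX.cl_D h0 (hV.mono hX.D_sub) fun i =>
      (hc i).mono (fun x hx => ⟨hX.D_sub hx.1, hx.2⟩) le_rfl le_rfl

end Colors

/-- A family of subgroups closed under brackets. -/
def Closed {ι : Type*} [Add ι] (A : ι → AddSubgroup L) : Prop :=
  ∀ u v, ∀ x ∈ A u, ∀ y ∈ A v, ⁅x, y⁆ ∈ A (u + v)

section Higman

theorem card_grow {p : ℕ} [hp : Fact p.Prime] (Z : Finset (ZMod p)) (hZ : Z.Nonempty) {b : ZMod p}
    (hb : b ≠ 0) (h : ∀ a, a + b ∈ Z → a ∈ Z) : Z = Finset.univ := by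
  obtain ⟨a, ha⟩ := hZ
  have key : ∀ k : ℕ, a - k * b ∈ Z := by
    intro k
    induction k with
    | zero => simpa using ha
    | succ k ih => exact h _ (by convert ih using 1; push_cast; ring)
  refine Finset.eq_univ_of_forall fun x => ?_
  have := key ((a - x) / b).val
  rwa [ZMod.natCast_zmod_val, div_mul_cancel₀ _ hb, sub_sub_cancel] at this

variable {p : ℕ} [hp : Fact p.Prime] {g : ZMod p → AddSubgroup L}

theorem Cl.kills_graded {X : Set L} (h : Cl X) (hg : Closed g) (h0 : g 0 = ⊥)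
    (hX : ∀ x ∈ X, ∃ a, x ∈ g a) {V : AddSubgroup L} (hV : Inv X V)
    (hh : V ≤ closure {v ∈ V | ∃ a, v ∈ g a}) : Kills X (p - 1) V (step (D X) V) := by
  classical
  have key : ∀ ys : List L, (∀ y ∈ ys, y ∈ X) → ∃ Z : Finset (ZMod p),
      min p (ys.length + 1) ≤ Z.card ∧ ∀ a ∈ Z, ∀ v ∈ V, v ∈ g a → act ys v ∈ step (D X) V := by
    intro ys
    induction ys with
    | nil =>
      refine fun _ => ⟨{0}, by simp, fun a ha v _ hv => ?_⟩
      rw [Finset.mem_singleton.mp ha, h0, mem_bot] at hv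
      rw [hv]; exact zero_mem _
    | cons y ys ih =>
      intro hy
      have hy1 := hy y List.mem_cons_self
      have hy2 : ∀ z ∈ ys, z ∈ X := fun w hw => hy w (List.mem_cons_of_mem _ hw)
      obtain ⟨Z, hZ, hZ'⟩ := ih hy2
      obtain ⟨b, hb⟩ := hX y hy1
      by_cases hb0 : b = 0
      · refine ⟨Finset.univ, by simp [ZMod.card], fun a _ v _ _ => ?_⟩
        rw [hb0, h0, mem_bot] at hb
        rw [act_cons, hb, zero_lie]; exact zero_mem _
      refine ⟨Z ∪ Finset.univ.filter (fun a => a + b ∈ Z), ?_, fun a ha v hv hva => ?_⟩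
      · by_cases hs : ∀ a, a + b ∈ Z → a ∈ Z
        · have hne : Z.Nonempty := Finset.card_pos.mp
            (lt_of_lt_of_le (lt_min hp.out.pos (by omega)) hZ)
          rw [card_grow Z hne hb0 hs]
          simp [ZMod.card]
        · push Not at hs
          obtain ⟨a, ha, ha'⟩ := hs
          have : Z.card < (Z ∪ Finset.univ.filter (fun a => a + b ∈ Z)).card :=
            Finset.card_lt_card ⟨Finset.subset_union_left, fun hh => ha' (hh (by simp [ha]))⟩
          rw [List.length_cons]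
          omega
      · rw [act_cons]
        rcases Finset.mem_union.mp ha with ha | ha
        · exact h.inv_step hV y hy1 _ (hZ' a ha v hv hva)
        · have h1 := h.comm hV hy1 hy2 hv
          have h2 := hZ' (a + b) (by simpa using ha) _ (hV y hy1 v hv)
            (add_comm b a ▸ hg b a y hb v hva)
          simpa using add_mem h1 h2
  refine Kills.mono (kills_closure (S := {v ∈ V | ∃ a, v ∈ g a}) ?_) le_rfl hh le_rfl
  rintro ys hy hl v ⟨hv, a, ha⟩
  obtain ⟨Z, hZ, hZ'⟩ := key ys hy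
  have hu : Z = Finset.univ := by
    apply Finset.eq_univ_of_card
    have := Finset.card_le_univ Z
    rw [ZMod.card] at this ⊢
    have := hp.out.pos
    omega
  exact hZ' a (hu ▸ Finset.mem_univ a) v hv ha

/-- The Higman–Kreknin–Kostrikin bound on the class in terms of the derived length. -/
theorem Cl.higman (hg : Closed g) (h0 : g 0 = ⊥) (s : ℕ) :
    ∀ {X : Set L}, Cl X → (∀ x ∈ X, ∃ a, x ∈ g a) → D^[s] X ⊆ {0} →
      Kills X (∑ i ∈ Finset.range s, (p - 1) ^ i) (closure X) ⊥ := by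
  induction s with
  | zero =>
    intro X _ _ hs
    refine kills_closure fun ys hy _ v hv => ?_
    rw [Set.mem_singleton_iff.mp (hs hv), act_zero]
    exact zero_mem _
  | succ s ih =>
    intro X hX hh hs
    have hh' : ∀ x ∈ D X, ∃ a, x ∈ g a := fun x hx => hh x (hX.D_sub hx)
    have h1 := ih hX.cl_D hh' hs
    have e : ∑ i ∈ Finset.range (s + 1), (p - 1) ^ i =
        (p - 1) * ∑ i ∈ Finset.range s, (p - 1) ^ i + 1 := by
      rw [Finset.sum_range_succ', Finset.mul_sum, pow_zero]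
      simp only [pow_succ']
    rw [e]
    refine Kills.add (V := closure (D X)) ?_ (kills_one fun x hx v hv =>
      lie_mem_of_closure_right (fun s hs => subset_closure (lie_mem_D hx hs)) hv)
    refine hX.kills_mul (fun W => W ≤ closure {v ∈ W | ∃ a, v ∈ g a}) (fun W hW => ?_)
      (fun W hW hi => hX.kills_graded hg h0 hh hi hW) _ _ ?_ ?_ h1
    · refine step_le.mpr fun x hx v hv => lie_mem_of_closure_right ?_ (hW hv)
      rintro w ⟨hw, a, ha⟩
      obtain ⟨b, hb⟩ := hh' x hx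
      exact subset_closure ⟨lie_mem_step hx hw, _, hg _ _ _ hb _ ha⟩
    · exact closure_mono fun x hx => ⟨subset_closure hx, hh' x hx⟩
    · exact fun x hx v hv => lie_mem_of_closure_right
        (fun s hs => subset_closure (lie_mem_D hx (hX.D_sub hs))) hv

end Higman

section Kreknin

variable {n : ℕ}

/-- The derived family. -/
def DF (A : ZMod n → AddSubgroup L) (t : ZMod n) : AddSubgroup L :=
  closure {z | ∃ u v, ∃ x ∈ A u, ∃ y ∈ A v, u + v = t ∧ z = ⁅x, y⁆}

theorem lie_mem_DF {A : ZMod n → AddSubgroup L} {u v : ZMod n} {x y : L} (hx : x ∈ A u)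
    (hy : y ∈ A v) : ⁅x, y⁆ ∈ DF A (u + v) := subset_closure ⟨u, v, x, hx, y, hy, rfl, rfl⟩

theorem DF_le {A : ZMod n → AddSubgroup L} {t : ZMod n} {W : AddSubgroup L}
    (h : ∀ u v, ∀ x ∈ A u, ∀ y ∈ A v, u + v = t → ⁅x, y⁆ ∈ W) : DF A t ≤ W := by
  refine (closure_le _).mpr ?_
  rintro _ ⟨u, v, x, hx, y, hy, e, rfl⟩
  exact h u v x hx y hy e

theorem Closed.DF_le {A : ZMod n → AddSubgroup L} (h : Closed A) : DF A ≤ A := fun _ =>
  Lie.DF_le fun u v x hx y hy e => e ▸ h u v x hx y hy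

theorem Closed.DF {A : ZMod n → AddSubgroup L} (h : Closed A) : Closed (DF A) :=
  fun u v _ hx _ hy => lie_mem_DF (h.DF_le u hx) (h.DF_le v hy)

theorem Closed.iter {A : ZMod n → AddSubgroup L} (h : Closed A) (j : ℕ) :
    Closed (Lie.DF^[j] A) ∧ Lie.DF^[j] A ≤ A := by
  induction j with
  | zero => exact ⟨h, le_rfl⟩
  | succ j ih =>
    rw [Function.iterate_succ_apply']
    exact ⟨ih.1.DF, ih.1.DF_le.trans ih.2⟩

/-- The family generated by the components of index at least `k`. -/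
def Gen (A : ZMod n → AddSubgroup L) (k : ℕ) (t : ZMod n) : AddSubgroup L :=
  ⨅ (B : ZMod n → AddSubgroup L) (_ : Closed B) (_ : ∀ j : ZMod n, k ≤ j.val → A j ≤ B j), B t

theorem Gen_le {A B : ZMod n → AddSubgroup L} {k : ℕ} (h1 : Closed B)
    (h2 : ∀ j : ZMod n, k ≤ j.val → A j ≤ B j) : Gen A k ≤ B := fun _ =>
  iInf_le_of_le B (iInf_le_of_le h1 (iInf_le _ h2))

theorem le_Gen (A : ZMod n → AddSubgroup L) {k : ℕ} {j : ZMod n} (h : k ≤ j.val) :
    A j ≤ Gen A k j := le_iInf fun _ => le_iInf fun _ => le_iInf fun h2 => h2 j h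

theorem closed_Gen (A : ZMod n → AddSubgroup L) (k : ℕ) : Closed (Gen A k) := by
  intro u v x hx y hy
  simp only [Gen, mem_iInf] at hx hy ⊢
  exact fun B h1 h2 => h1 u v x (hx B h1 h2) y (hy B h1 h2)

theorem Closed.inv_Gen {A : ZMod n → AddSubgroup L} (h : Closed A) (k : ℕ) (t : ZMod n) :
    Inv (A 0) (Gen A k t) := by
  intro x hx
  have : Gen A k ≤ fun t => Gen A k t ⊓ (Gen A k t).comap (actHom [x]) := by
    refine Gen_le ?_ fun j hj y hy => ⟨le_Gen A hj hy, le_Gen A hj ?_⟩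
    · rintro u v y ⟨hy, hy'⟩ z ⟨hz, hz'⟩
      refine ⟨closed_Gen A k u v y hy z hz, ?_⟩
      show ⁅x, ⁅y, z⁆⁆ ∈ Gen A k (u + v)
      rw [leibniz_lie]
      exact add_mem (closed_Gen A k u v _ hy' z hz) (closed_Gen A k u v y hy _ hz')
    · have := h 0 j x hx y hy
      rwa [zero_add] at this
  exact fun v hv => (this t hv).2

theorem Closed.krek_step [NeZero n] {A : ZMod n → AddSubgroup L} (h : Closed A) {k u v : ZMod n}
    {x y : L} (hx : x ∈ Gen A k.val u) (hy : y ∈ A v) (e : u + v = k) :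
    ⁅x, y⁆ ∈ Gen A (k.val + 1) k ⊔ step (A 0) (A k) := by
  let W : ZMod n → AddSubgroup L := fun t =>
    closure {z | ∃ j w, ∃ a ∈ A j, ∃ b ∈ A w, k.val ≤ j.val ∧ j + w = t ∧ z = ⁅a, b⁆}
  let B : ZMod n → AddSubgroup L := fun u =>
    { carrier := {x | x ∈ A u ∧ ∀ v, ∀ y ∈ A v, ⁅x, y⁆ ∈ W (u + v)}
      zero_mem' := ⟨zero_mem _, fun v y _ => by rw [zero_lie]; exact zero_mem _⟩
      add_mem' := fun ha hb => ⟨add_mem ha.1 hb.1, fun v y hy => by
        rw [add_lie]; exact add_mem (ha.2 v y hy) (hb.2 v y hy)⟩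
      neg_mem' := fun ha => ⟨neg_mem ha.1, fun v y hy => by
        rw [neg_lie]; exact neg_mem (ha.2 v y hy)⟩ }
  have hB : Gen A k.val ≤ B := by
    refine Gen_le ?_ fun j hj a ha => ⟨ha, fun w b hb =>
      subset_closure ⟨j, w, a, ha, b, hb, hj, rfl, rfl⟩⟩
    intro u u' x hx x' hx'
    refine ⟨h u u' x hx.1 x' hx'.1, fun v y hy => ?_⟩
    rw [lie_lie]
    refine sub_mem ?_ ?_
    · rw [add_assoc]; exact hx.2 _ _ (h u' v x' hx'.1 y hy)
    · rw [add_comm u, add_assoc]; exact hx'.2 _ _ (h u v x hx.1 y hy)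
  have hW := (hB u hx).2 v y hy
  rw [e] at hW
  refine (closure_le _).mpr ?_ hW
  rintro _ ⟨j, w, a, ha, b, hb, hj, e, rfl⟩
  rcases hj.eq_or_lt with hj | hj
  · obtain rfl := ZMod.val_injective n hj
    obtain rfl : w = 0 := by simpa using e
    rw [← lie_skew]
    exact neg_mem (mem_sup_right (lie_mem_step hb ha))
  · have hw : k.val + 1 ≤ w.val := by
      have h1 := ZMod.val_add j w
      rw [e] at h1
      have h2 := ZMod.val_lt j
      have h3 := ZMod.val_lt w
      by_cases h4 : j.val + w.val < n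
      · rw [Nat.mod_eq_of_lt h4] at h1; omega
      · rw [Nat.mod_eq_sub_mod (by omega), Nat.mod_eq_of_lt (by omega)] at h1; omega
    exact mem_sup_left (e ▸ closed_Gen A _ j w a (le_Gen A hj ha) b (le_Gen A hw hb))

/-- Kreknin's function. -/
def krek (m : ℕ → ℕ) : ℕ → ℕ
  | 0 => 0
  | k + 1 => krek m k + m k * (krek m k + 1)

theorem krek_aux [NeZero n] (m : ℕ → ℕ) (k : ℕ) : ∀ A : ZMod n → AddSubgroup L, Closed A →
    (∀ t : ZMod n, Kills (A 0) (m t.val) (A t) ⊥) → DF^[krek m k] A ≤ Gen A k := by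
  induction k with
  | zero => exact fun A _ _ t => le_Gen A (Nat.zero_le _)
  | succ k ih =>
    intro A hA hk
    have sub : ∀ j, ∀ t : ZMod n, Kills ((DF^[j] A) 0) (m t.val) ((DF^[j] A) t) ⊥ := fun j t =>
      (hk t).mono ((hA.iter j).2 0) ((hA.iter j).2 t) le_rfl
    rw [krek, Function.iterate_add_apply]
    refine (ih _ (hA.iter _).1 (sub _)).trans (Gen_le (closed_Gen A _) fun t ht => ?_)
    rcases ht.eq_or_lt with ht | ht
    swap
    · exact ((hA.iter _).2 t).trans (le_Gen A ht)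
    have key : ∀ j, (DF^[j * (krek m k + 1)] A) t ≤ Gen A (k + 1) t ⊔ (step (A 0))^[j] (A t) := by
      intro j
      induction j with
      | zero => simp
      | succ j ihj =>
        rw [add_mul, one_mul, add_comm (j * _), add_comm (krek m k), add_assoc,
          Function.iterate_add_apply, Function.iterate_add_apply, add_comm 1 (krek m k)]
        set K := DF^[j * (krek m k + 1)] A with hK
        have hKc := (hA.iter (j * (krek m k + 1))).1
        have hKA := (hA.iter (j * (krek m k + 1))).2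
        refine DF_le fun u v x hx y hy e => ?_
        have h1 := hKc.krek_step (k := t) (ht ▸ ih K hKc (sub _) u hx) ((hKc.iter _).2 v hy) e
        rw [← ht] at h1
        refine SetLike.le_def.mp (sup_le ?_ ?_) h1
        · exact le_sup_left.trans' (Gen_le (closed_Gen A _)
            (fun j hj => (hKA j).trans (le_Gen A hj)) t)
        · refine step_le.mpr fun a ha b hb => ?_
          obtain ⟨b1, hb1, b2, hb2, rfl⟩ := mem_sup.mp (ihj hb)
          rw [lie_add, Function.iterate_succ_apply']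
          exact add_mem (mem_sup_left (hA.inv_Gen _ t a (hKA 0 ha) b1 hb1))
            (mem_sup_right (lie_mem_step (hKA 0 ha) hb2))
    refine (key (m k)).trans (sup_le le_rfl ?_)
    exact (ht ▸ (hk t).iter_le).trans bot_le

theorem D_iter_sub {X : Set L} {A : ZMod n → AddSubgroup L} (hX : ∀ x ∈ X, ∃ t, x ∈ A t) (j : ℕ) :
    ∀ x ∈ D^[j] X, ∃ t, x ∈ (DF^[j] A) t := by
  induction j generalizing X A with
  | zero => exact hX
  | succ j ih =>
    refine ih ?_
    rintro _ ⟨x, hx, y, hy, rfl⟩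
    obtain ⟨u, hu⟩ := hX x hx
    obtain ⟨v, hv⟩ := hX y hy
    exact ⟨_, lie_mem_DF hu hv⟩

/-- Kreknin's theorem (with a nilpotently acting zero component). -/
theorem kreknin [NeZero n] (m : ℕ → ℕ) {A : ZMod n → AddSubgroup L} (hA : Closed A)
    (hk : ∀ t : ZMod n, Kills (A 0) (m t.val) (A t) ⊥) {X : Set L} (hX : ∀ x ∈ X, ∃ t, x ∈ A t) :
    D^[krek m n] X ⊆ {0} := by
  intro x hx
  obtain ⟨t, ht⟩ := D_iter_sub hX _ x hx
  have h1 : Gen A n ≤ fun _ => ⊥ := Gen_le (fun u v x hx y _ => by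
    rw [mem_bot.mp hx, zero_lie]; exact zero_mem _) fun j hj => absurd (ZMod.val_lt j) (by omega)
  exact mem_bot.mp (h1 t (krek_aux m n A hA hk t ht))

theorem krek_eq (k : ℕ) : krek (fun j => if j = 0 then 0 else 1) (k + 1) = 2 ^ k - 1 := by
  induction k with
  | zero => rfl
  | succ k ih =>
    rw [krek, ih, if_neg (by omega), pow_succ]
    have : 0 < 2 ^ k := by positivity
    omega

end Kreknin

/-- Higman, Kreknin, Kostrikin: a `ZMod p`-graded Lie ring with zero `0`-component. -/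
theorem hkk {p : ℕ} [hp : Fact p.Prime] {g : ZMod p → AddSubgroup L} (hg : Closed g) (h0 : g 0 = ⊥) :
    Kills (closure {x | ∃ a, x ∈ g a}) (∑ i ∈ Finset.range (2 ^ (p - 1) - 1), (p - 1) ^ i)
      (closure {x | ∃ a, x ∈ g a}) ⊥ := by
  have : NeZero p := ⟨hp.out.ne_zero⟩
  refine Kills.closure_left (Cl.higman hg h0 _ ?_ (fun x hx => hx) ?_)
  · rintro x ⟨a, ha⟩ y ⟨b, hb⟩
    exact ⟨_, hg a b x ha y hb⟩
  · have := kreknin (fun j => if j = 0 then 0 else 1) hg (fun t => ?_) (X := {x | ∃ a, x ∈ g a})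
      (fun x hx => hx)
    · obtain ⟨k, rfl⟩ : ∃ k, p = k + 1 := ⟨p - 1, by have := hp.out.pos; omega⟩
      rwa [krek_eq] at this
    · by_cases ht : t.val = 0
      · obtain rfl := (ZMod.val_eq_zero t).mp ht
        intro ys hy _ v hv
        exact (inv_bot _).act_mem hy (h0 ▸ hv)
      · simp only [ht, if_false]
        refine kills_one fun x hx v _ => ?_
        rw [h0] at hx
        rw [mem_bot.mp hx, zero_lie]; exact zero_mem _

/-- The case `p = 3`. -/
theorem hkk_three {g : ZMod 3 → AddSubgroup L} (hg : Closed g) (h0 : g 0 = ⊥) :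
    Kills (closure {x | ∃ a, x ∈ g a}) 2 (closure {x | ∃ a, x ∈ g a}) ⊥ := by
  refine Kills.closure_left (kills_closure fun ys hy hl => ?_)
  rintro z ⟨c, hc⟩
  obtain ⟨x, y, rfl⟩ := List.length_eq_two.mp hl
  obtain ⟨a, ha⟩ := hy x (by simp)
  obtain ⟨b, hb⟩ := hy y (by simp)
  have z0 : ∀ {t : ZMod 3} {w : L}, w ∈ g t → t = 0 → w = 0 := fun h e => by
    rwa [e, h0, mem_bot] at h
  have key : ∀ a b c : ZMod 3, a = 0 ∨ b + c = 0 ∨ a + (b + c) = 0 ∨ b = 0 ∨ c = 0 ∨
      (a + b = 0 ∧ a + c = 0) := by decide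
  show ⁅x, ⁅y, z⁆⁆ = 0
  rcases key a b c with h | h | h | h | h | ⟨h, h'⟩
  · rw [z0 ha h, zero_lie]
  · rw [z0 (hg _ _ _ hb _ hc) h, lie_zero]
  · exact z0 (hg _ _ _ ha _ (hg _ _ _ hb _ hc)) h
  · rw [z0 hb h, zero_lie, lie_zero]
  · rw [z0 hc h, lie_zero, lie_zero]
  · rw [leibniz_lie, z0 (hg _ _ _ ha _ hb) h, z0 (hg _ _ _ ha _ hc) h', zero_lie, lie_zero, add_zero]

/-- The bound on the derived length along a chain of gradings. -/
def chainBd (p m n s : ℕ) : ℕ → ℕ
  | 0 => s
  | k + 1 => krek (fun _ => (m * n + 1) ^ chainBd p m n s k) p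

theorem solvable_of_chain {p : ℕ} [NeZero p] {ι : Type*} [Fintype ι] (c : L → ι) {n s : ℕ}
    (gs : List (ZMod p → AddSubgroup L)) (hg : ∀ g ∈ gs, Closed g) :
    ∀ {X : Set L}, Cl X → (∀ g ∈ gs, ∀ x ∈ X, ∃ t, x ∈ g t) →
      (∀ i, Kills {x ∈ X | c x = i} n ⊤ ⊥) → D^[s] {x ∈ X | ∀ g ∈ gs, x ∈ g 0} ⊆ {0} →
      D^[chainBd p (Fintype.card ι) n s gs.length] X ⊆ {0} := by
  induction gs with
  | nil => intro X _ _ _ h; simpa [chainBd] using h
  | cons g gs ih =>
    intro X hX hh hc hs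
    have hg0 := hg g List.mem_cons_self
    have hX0 : Cl {x ∈ X | x ∈ g 0} := fun x hx y hy =>
      ⟨hX x hx.1 y hy.1, by simpa using hg0 0 0 x hx.2 y hy.2⟩
    have hc0 : ∀ i, Kills {x ∈ {x ∈ X | x ∈ g 0} | c x = i} n ⊤ ⊥ := fun i =>
      (hc i).mono (fun x hx => ⟨hx.1.1, hx.2⟩) le_rfl le_rfl
    have h1 := ih (fun g' h => hg g' (List.mem_cons_of_mem _ h)) hX0
      (fun g' h x hx => hh g' (List.mem_cons_of_mem _ h) x hx.1) hc0
      (subset_trans (D_iter_mono (Y := {x ∈ X | ∀ g' ∈ g :: gs, x ∈ g' 0})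
        (fun x hx => ⟨hx.1.1, fun g' h => by
        rcases List.mem_cons.mp h with rfl | h
        · exact hx.1.2
        · exact hx.2 g' h⟩) s) hs)
    have h2 := Cl.kills_of_colors c _ hX0 h1 (inv_top _) hc0
    refine kreknin _ (A := fun t => closure {x ∈ X | x ∈ g t}) ?_
      (fun t => h2.closure_left.mono le_rfl le_top le_rfl) fun x hx => ?_
    · intro u v x hx y hy
      refine lie_mem_of_closure_left (fun a ha => lie_mem_of_closure_right (fun b hb => ?_) hy) hx
      exact subset_closure ⟨hX a ha.1 b hb.1, hg0 u v a ha.2 b hb.2⟩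
    · obtain ⟨t, ht⟩ := hh g List.mem_cons_self x hx
      exact ⟨t, subset_closure ⟨hx, ht⟩⟩

theorem kills_of_chain {p : ℕ} [NeZero p] {ι : Type*} [Fintype ι] (c : L → ι) {n s : ℕ}
    (gs : List (ZMod p → AddSubgroup L)) (hg : ∀ g ∈ gs, Closed g) {X : Set L} (hX : Cl X)
    (hh : ∀ g ∈ gs, ∀ x ∈ X, ∃ t, x ∈ g t) (hc : ∀ i, Kills {x ∈ X | c x = i} n ⊤ ⊥)
    (hs : D^[s] {x ∈ X | ∀ g ∈ gs, x ∈ g 0} ⊆ {0}) :
    Kills ((closure X : AddSubgroup L) : Set L) ((Fintype.card ι * n + 1) ^ chainBd p (Fintype.card ι) n s gs.length) ⊤ ⊥ :=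
  (Cl.kills_of_colors c _ hX (solvable_of_chain c gs hg hX hh hc hs) (inv_top _) hc).closure_left

end CF.Fgs1.Lie
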