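import Cfsg.Agent.Fgs1.LieGrp
import Cfsg.Agent.Coprime.Basic

/-!
# Extension of the ground ring by a primitive `p`-th root of unity
-/

set_option autoImplicit false

namespace CF.Fgs1.Lie

open Subgroup Polynomial
open scoped commutatorElement TensorProduct

/-- The ring `ℤ[ω]`. -/
def Rp (p : ℕ) : Type := AdjoinRoot (cyclotomic p ℤ)

noncomputable instance rpCommRing (p : ℕ) : CommRing (Rp p) :=
  inferInstanceAs (CommRing (AdjoinRoot (cyclotomic p ℤ)))

section Root

variable {p : ℕ} [hp : Fact p.Prime]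

instance rpFlat : Module.FaithfullyFlat ℤ (Rp p) := by
  have h1 : Module.Free ℤ (Rp p) := by
    have := (cyclotomic.monic p ℤ).free_adjoinRoot
    have e : (Algebra.toModule : Module ℤ (AdjoinRoot (cyclotomic p ℤ))) =
      AddCommGroup.toIntModule _ := Subsingleton.elim _ _
    rw [e] at this
    exact this
  have h2 : Nontrivial (Rp p) :=
    AdjoinRoot.nontrivial (cyclotomic p ℤ) (degree_cyclotomic_pos p ℤ hp.out.pos).ne'
  infer_instance

/-- The root of unity. -/
noncomputable def ω (p : ℕ) : Rp p := AdjoinRoot.root (cyclotomic p ℤ)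

theorem sum_ω : ∑ i ∈ Finset.range p, ω p ^ i = 0 := by
  have h := AdjoinRoot.eval₂_root (cyclotomic p ℤ)
  have e : eval₂ (AdjoinRoot.of (cyclotomic p ℤ)) (AdjoinRoot.root (cyclotomic p ℤ))
      (∑ i ∈ Finset.range p, X ^ i : ℤ[X]) = 0 := by
    rw [← cyclotomic_prime ℤ p]; exact h
  rw [eval₂_finsetSum] at e
  simp only [eval₂_X_pow] at e
  exact e

theorem ω_pow : ω p ^ p = 1 := by
  have := mul_geom_sum (ω p) p
  rw [sum_ω, mul_zero] at this
  exact (sub_eq_zero.mp this.symm)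

theorem pow_val_add {E : Type*} [Monoid E] {t : E} (h : t ^ p = 1) (a b : ZMod p) :
    t ^ (a + b).val = t ^ a.val * t ^ b.val := by
  rw [ZMod.val_add, ← pow_eq_pow_mod _ h, pow_add]

/-- The additive character. -/
noncomputable def ε (t : ZMod p) : Rp p := ω p ^ t.val

theorem ε_add (a b : ZMod p) : ε (a + b) = ε a * ε b := pow_val_add ω_pow a b

theorem ε_zero : ε (0 : ZMod p) = 1 := by rw [ε, ZMod.val_zero, pow_zero]

theorem ε_pow (a : ZMod p) (k : ℕ) : ε a ^ k = ε ((k : ZMod p) * a) := by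
  induction k with
  | zero => simp [ε_zero]
  | succ k ih => rw [pow_succ, ih, ← ε_add]; congr 1; push_cast; ring

theorem sum_ε : ∑ t : ZMod p, ε t = 0 := by
  rw [← sum_ω]
  obtain ⟨n, rfl⟩ : ∃ n, p = n + 1 := ⟨p - 1, by have := hp.out.pos; omega⟩
  exact Fin.sum_univ_eq_sum_range (fun i => ω (n + 1) ^ i) (n + 1)

theorem sum_ε_mul {s : ZMod p} (hs : s ≠ 0) : ∑ t : ZMod p, ε (t * s) = 0 := by
  rw [← sum_ε]
  exact Equiv.sum_comp (Equiv.mulRight₀ s hs) ε

variable {M : Type*} [AddCommGroup M] [Module (Rp p) M]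

/-- The eigenspaces. -/
def eig (S : Module.End (Rp p) M) (t : ZMod p) : Submodule (Rp p) M where
  carrier := {x | S x = ε t • x}
  zero_mem' := by simp
  add_mem' := fun {a b} (ha : S a = _) (hb : S b = _) => show S (a + b) = _ by
    rw [map_add, ha, hb, smul_add]
  smul_mem' := fun c a (ha : S a = _) => show S (c • a) = _ by rw [map_smul, ha, smul_comm]

theorem mem_eig {S : Module.End (Rp p) M} {t : ZMod p} {x : M} : x ∈ eig S t ↔ S x = ε t • x :=
  Iff.rfl

theorem mem_eig_zero {S : Module.End (Rp p) M} {x : M} : x ∈ eig S 0 ↔ S x = x := by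
  rw [mem_eig, ε_zero, one_smul]

/-- The projections (up to the factor `p`) onto the eigenspaces. -/
noncomputable def prj (S : Module.End (Rp p) M) (t : ZMod p) (x : M) : M :=
  ∑ s : ZMod p, ε (-t * s) • (S ^ s.val) x

theorem prj_mem_eig {S : Module.End (Rp p) M} (h : S ^ p = 1) (t : ZMod p) (x : M) :
    prj S t x ∈ eig S t := by
  rw [mem_eig, prj, map_sum, Finset.smul_sum,
    ← Equiv.sum_comp (Equiv.addLeft (1 : ZMod p)) (fun s => ε t • ε (-t * s) • (S ^ s.val) x)]
  refine Finset.sum_congr rfl fun s _ => ?_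
  rw [Equiv.coe_addLeft, map_smul, smul_smul, ← ε_add, pow_val_add h, ZMod.val_one, pow_one,
    Module.End.mul_apply]
  congr 2
  ring

theorem sum_prj (S : Module.End (Rp p) M) (x : M) : ∑ t, prj S t x = p • x := by
  simp only [prj]
  rw [Finset.sum_comm, Finset.sum_eq_single (0 : ZMod p)]
  · simp [ε_zero, ZMod.card]
  · intro s _ hs
    rw [← Finset.sum_smul]
    have := sum_ε_mul (neg_ne_zero.mpr hs)
    simp only [mul_neg] at this
    simp only [neg_mul, this, zero_smul]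
  · simp

theorem prj_mem {S : Module.End (Rp p) M} {W : Submodule (Rp p) M} (hW : ∀ x ∈ W, S x ∈ W)
    (t : ZMod p) {x : M} (hx : x ∈ W) : prj S t x ∈ W := by
  refine W.sum_mem fun s _ => W.smul_mem _ ?_
  induction s.val with
  | zero => exact hx
  | succ k ih => rw [pow_succ']; exact hW _ ih

theorem map_mem_eig {S S' : Module.End (Rp p) M} (h : S * S' = S' * S) {t : ZMod p} {x : M}
    (hx : x ∈ eig S t) : S' x ∈ eig S t := by
  rw [mem_eig, ← Module.End.mul_apply, h, Module.End.mul_apply, mem_eig.mp hx, map_smul]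

theorem pow_apply_of_eig {S : Module.End (Rp p) M} {t : ZMod p} {x : M} (hx : x ∈ eig S t) (k : ℕ) :
    (S ^ k) x = ε ((k : ZMod p) * t) • x := by
  induction k with
  | zero => simp [ε_zero]
  | succ k ih =>
    rw [pow_succ, Module.End.mul_apply, mem_eig.mp hx, map_smul, ih, smul_smul, ← ε_add]
    congr 2; push_cast; ring

/-- Simultaneous diagonalization. -/
theorem le_closure_eig {m : ℕ} (hm : ∀ x : M, m • p • x = x) (l : List (Module.End (Rp p) M))
    (h1 : ∀ S ∈ l, S ^ p = 1) (h2 : ∀ S ∈ l, ∀ S' ∈ l, S * S' = S' * S)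
    {W : Submodule (Rp p) M} (hW : ∀ S ∈ l, ∀ x ∈ W, S x ∈ W) {x : M} (hx : x ∈ W) :
    x ∈ AddSubgroup.closure {x ∈ W | ∀ S ∈ l, ∃ t, x ∈ eig S t} := by
  induction l with
  | nil => exact AddSubgroup.subset_closure ⟨hx, by simp⟩
  | cons S l ih =>
    have hS := List.mem_cons_self (a := S) (l := l)
    refine (AddSubgroup.closure_le _).mpr ?_ (ih (fun S' h => h1 S' (List.mem_cons_of_mem _ h))
      (fun S' h S'' h' => h2 S' (List.mem_cons_of_mem _ h) S'' (List.mem_cons_of_mem _ h'))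
      (fun S' h => hW S' (List.mem_cons_of_mem _ h)))
    rintro y ⟨hy, hy'⟩
    rw [← hm y, ← sum_prj S y]
    refine AddSubgroup.nsmul_mem _ (AddSubgroup.sum_mem _ fun t _ =>
      AddSubgroup.subset_closure ?_) m
    refine ⟨prj_mem (hW S hS) t hy, fun S' h => ?_⟩
    rcases List.mem_cons.mp h with rfl | h
    · exact ⟨t, prj_mem_eig (h1 _ hS) t y⟩
    · obtain ⟨u, hu⟩ := hy' S' h
      exact ⟨u, prj_mem (fun z hz => map_mem_eig (h2 S' (List.mem_cons_of_mem _ h) S hS) hz) t hu⟩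

end Root

variable {G : Type*} [Group G] (p : ℕ) (H : Subgroup G)

local notation "γ" => Subgroup.lowerCentralSeries

/-- The extended Lie ring. -/
def Lx : Type _ := Rp p ⊗[ℤ] Lg H

noncomputable instance lxLieRing : LieRing (Lx p H) :=
  LieAlgebra.ExtendScalars.instLieRing ℤ (Rp p) (Lg H)

noncomputable instance lxLieAlgebra : LieAlgebra (Rp p) (Lx p H) :=
  LieAlgebra.ExtendScalars.instLieAlgebra ℤ (Rp p) (Lg H)

/-- The embedding into the extended Lie ring. -/
noncomputable def emb : Lg H →+ Lx p H := (TensorProduct.mk ℤ (Rp p) (Lg H) 1).toAddMonoidHom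

/-- The submodule attached to a subgroup. -/
noncomputable def Λ (U : Subgroup G) : Submodule (Rp p) (Lx p H) :=
  Submodule.span (Rp p) {z | ∃ i x, x ∈ U ∧ x ∈ γ H i ∧ z = emb p H (ι H i x)}

variable {H}

/-- The action on the extended Lie ring. -/
noncomputable def TT : normalizer (H : Set G) →* Module.End (Rp p) (Lx p H) where
  toFun g := LinearMap.baseChange (Rp p) (T g).toIntLinearMap
  map_one' := by
    refine Eq.trans ?_ (LinearMap.baseChange_one ℤ (Lg H))
    congr 1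
    exact LinearMap.ext T_one
  map_mul' g h := by
    refine Eq.trans ?_ (LinearMap.baseChange_mul _ _)
    congr 1
    exact LinearMap.ext (T_mul g h)

variable {p}

theorem emb_lie (a b : Lg H) : emb p H ⁅a, b⁆ = ⁅emb p H a, emb p H b⁆ := by
  have := LieAlgebra.ExtendScalars.bracket_tmul ℤ (Rp p) (Lg H) (Lg H) 1 1 a b
  rw [one_mul] at this
  exact this.symm

theorem emb_eq_zero [Fact p.Prime] {v : Lg H} (h : emb p H v = 0) : v = 0 :=
  (Module.FaithfullyFlat.one_tmul_eq_zero_iff ℤ _ v).mp h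

theorem TT_emb (g : normalizer (H : Set G)) (v : Lg H) : TT p g (emb p H v) = emb p H (T g v) :=
  LinearMap.baseChange_tmul _ _ _

theorem emb_mem_Λ {U : Subgroup G} {i : ℕ} {x : G} (h1 : x ∈ U) (h2 : x ∈ γ H i) :
    emb p H (ι H i x) ∈ Λ p H U := Submodule.subset_span ⟨i, x, h1, h2, rfl⟩

theorem Λ_le {U : Subgroup G} {W : Submodule (Rp p) (Lx p H)}
    (h : ∀ i x, x ∈ U → x ∈ γ H i → emb p H (ι H i x) ∈ W) : Λ p H U ≤ W := by
  refine Submodule.span_le.mpr ?_
  rintro _ ⟨i, x, h1, h2, rfl⟩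
  exact h i x h1 h2

theorem Λ_mono {U V : Subgroup G} (h : U ≤ V) : Λ p H U ≤ Λ p H V :=
  Λ_le fun _ _ h1 h2 => emb_mem_Λ (h h1) h2

theorem Λ_bot : Λ p H ⊥ = ⊥ := eq_bot_iff.mpr (Λ_le fun i x h1 _ => by
  rw [mem_bot.mp h1, ι_one, map_zero]; exact zero_mem _)

theorem mem_of_emb {W : Submodule (Rp p) (Lx p H)} (h : ∀ v, emb p H v ∈ W) (x : Lx p H) :
    x ∈ W := by
  refine TensorProduct.induction_on (motive := fun x : Lx p H => x ∈ W) x W.zero_mem ?_
    (fun a b ha hb => W.add_mem ha hb)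
  intro r v
  have h1 := W.smul_mem r (h v)
  have h2 : r • ((1 : Rp p) ⊗ₜ[ℤ] v) = r ⊗ₜ[ℤ] v := by
    rw [TensorProduct.smul_tmul', smul_eq_mul, mul_one]
  exact h2 ▸ h1

theorem mem_Λ_top (x : Lx p H) : x ∈ Λ p H H := by
  refine mem_of_emb (fun v => ?_) x
  induction v using induction_on with
  | h0 => rw [map_zero]; exact zero_mem _
  | h1 i x hx => exact emb_mem_Λ (lcs_le_of_le H (Nat.zero_le i) hx) hx
  | h2 a b ha hb => rw [map_add]; exact add_mem ha hb

@[elab_as_elim]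
theorem Λ_induction {U : Subgroup G} {P : Lx p H → Prop} {x : Lx p H} (hx : x ∈ Λ p H U)
    (h1 : ∀ i x, x ∈ U → x ∈ γ H i → P (emb p H (ι H i x))) (h0 : P 0)
    (h2 : ∀ a b, P a → P b → P (a + b)) (h3 : ∀ (r : Rp p) a, P a → P (r • a)) : P x := by
  induction hx using Submodule.span_induction with
  | mem z hz => obtain ⟨i, x, hx, hx', rfl⟩ := hz; exact h1 i x hx hx'
  | zero => exact h0
  | add a b _ _ ha hb => exact h2 a b ha hb
  | smul r a _ ha => exact h3 r a ha

theorem lie_mem_Λ {U V : Subgroup G} {x y : Lx p H} (hx : x ∈ Λ p H U) (hy : y ∈ Λ p H V) :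
    ⁅x, y⁆ ∈ Λ p H ⁅U, V⁆ := by
  refine Λ_induction hx (fun i a ha ha' => ?_) (by simp) (fun a b ha hb => ?_) (fun r a ha => ?_)
  · refine Λ_induction hy (fun j b hb hb' => ?_) (by simp) (fun a b ha hb => ?_) (fun r a ha => ?_)
    · rw [← emb_lie, lie_ι ha' hb']
      exact emb_mem_Λ (commutator_mem_commutator ha hb) (comm_mem H ha' hb')
    · rw [lie_add]; exact add_mem ha hb
    · rw [lie_smul]; exact Submodule.smul_mem _ _ ha
  · rw [add_lie]; exact add_mem ha hb
  · rw [smul_lie]; exact Submodule.smul_mem _ _ ha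

theorem TT_lie (g : normalizer (H : Set G)) (x y : Lx p H) :
    TT p g ⁅x, y⁆ = ⁅TT p g x, TT p g y⁆ := by
  refine Λ_induction (mem_Λ_top x) (fun i a _ _ => ?_) (by simp) (fun a b ha hb => ?_)
    (fun r a ha => ?_)
  · refine Λ_induction (mem_Λ_top y) (fun j b _ _ => ?_) (by simp) (fun a b ha hb => ?_)
      (fun r a ha => ?_)
    · rw [← emb_lie, TT_emb, TT_emb, TT_emb, T_lie, emb_lie]
    · rw [lie_add, map_add, map_add, lie_add, ha, hb]
    · rw [lie_smul, map_smul, map_smul, lie_smul, ha]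
  · rw [add_lie, map_add, map_add, add_lie, ha, hb]
  · rw [smul_lie, map_smul, map_smul, smul_lie, ha]

theorem closed_eig [Fact p.Prime] (g : normalizer (H : Set G)) :
    Closed (fun t : ZMod p => (eig (TT p g) t).toAddSubgroup) := by
  intro u v x hx y hy
  show TT p g ⁅x, y⁆ = _
  rw [TT_lie, mem_eig.mp hx, mem_eig.mp hy, smul_lie, lie_smul, smul_smul, ε_add]

theorem TT_mem_Λ (g : normalizer (H : Set G)) {U : Subgroup G} (hg : (g : G) ∈ normalizer (U : Set G))
    {x : Lx p H} (hx : x ∈ Λ p H U) : TT p g x ∈ Λ p H U := by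
  refine Λ_le (W := (Λ p H U).comap (TT p g)) (fun i x h1 h2 => ?_) hx
  rw [Submodule.mem_comap, TT_emb, T_ι _ h2]
  exact emb_mem_Λ ((mem_normalizer_iff.mp hg x).mp h1) (norm_mem g.2 h2)

theorem card_nsmul' (x : Lx p H) : Nat.card H • x = 0 := by
  refine Λ_induction (mem_Λ_top x) (fun i a _ _ => ?_) (by simp) (fun a b ha hb => ?_)
    (fun r a ha => ?_)
  · rw [← map_nsmul, card_nsmul, map_zero]
  · rw [nsmul_add, ha, hb, add_zero]
  · rw [smul_comm, ha, smul_zero]

theorem exists_inv [Finite H] {n : ℕ} (h : n.Coprime (Nat.card H)) :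
    ∃ m : ℕ, ∀ x : Lx p H, m • n • x = x := by
  obtain ⟨m, hm⟩ := Nat.exists_mul_mod_eq_of_coprime 1 h Nat.card_pos.ne'
  obtain ⟨-, hm⟩ := hm
  refine ⟨m, fun x => ?_⟩
  rw [smul_smul, mul_comm, nsmul_eq_mod_nsmul _ (card_nsmul' x), hm,
    ← nsmul_eq_mod_nsmul _ (card_nsmul' x), one_nsmul]

/-- The elements of `γ i` whose image lies in a given subgroup. -/
def pre (i : ℕ) (W : AddSubgroup (Lg H)) : Subgroup G where
  carrier := {x | x ∈ γ H i ∧ ι H i x ∈ W}
  one_mem' := ⟨one_mem _, by rw [ι_one]; exact zero_mem _⟩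
  mul_mem' := fun ha hb => ⟨mul_mem ha.1 hb.1, by rw [ι_mul ha.1 hb.1]; exact add_mem ha.2 hb.2⟩
  inv_mem' := fun ha => ⟨inv_mem ha.1, by rw [ι_inv ha.1]; exact neg_mem ha.2⟩

theorem mem_pre {i : ℕ} {W : AddSubgroup (Lg H)} {x : G} :
    x ∈ pre i W ↔ x ∈ γ H i ∧ ι H i x ∈ W := Iff.rfl

/-- Fixed points of a coprime action. -/
theorem mem_Λ_fixed [Finite G] {B U : Subgroup G} (hB : B ≤ normalizer (H : Set G))
    (hU : B ≤ normalizer (U : Set G)) (hcop : (Nat.card B).Coprime (Nat.card H))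
    [hs : Group.IsSolvable B] {x : Lx p H} (hx : x ∈ Λ p H U)
    (hf : ∀ b (hb : b ∈ B), TT p ⟨b, hB hb⟩ x = x) : x ∈ Λ p H (U ⊓ centralizer (B : Set G)) := by
  have := Fintype.ofFinite B
  let N : Module.End (Rp p) (Lx p H) := ∑ b : B, TT p ⟨b, hB b.2⟩
  have hN : ∀ y, N y = ∑ b : B, TT p (⟨b, hB b.2⟩ : normalizer (H : Set G)) y :=
    fun y => LinearMap.sum_apply _ _ _
  have hNT : ∀ (b : B) (y : Lx p H), N (TT p (H := H) ⟨b, hB b.2⟩ y) = N y := by
    intro b y
    rw [hN, hN, ← Equiv.sum_comp (Equiv.mulRight b) (fun c : B => TT p (H := H) ⟨c, hB c.2⟩ y)]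
    refine Finset.sum_congr rfl fun c _ => ?_
    rw [← Module.End.mul_apply, ← map_mul]
    rfl
  have hNf : ∀ y : Lx p H, (∀ b (hb : b ∈ B), TT p ⟨b, hB hb⟩ y = y) → N y = Nat.card B • y := by
    intro y hy
    rw [hN, Finset.sum_congr rfl (fun (b : B) _ => hy b b.2), Finset.sum_const, Finset.card_univ,
      Nat.card_eq_fintype_card]
  have key : N x ∈ Λ p H (U ⊓ centralizer (B : Set G)) := by
    refine Λ_le (W := (Λ p H (U ⊓ centralizer (B : Set G))).comap N) (fun i u h1 h2 => ?_) hx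
    have hK : B ≤ normalizer ((U ⊓ γ H i : Subgroup G) : Set G) := by
      refine le_trans (le_inf hU ?_) inf_normalizer_le_normalizer_inf
      exact le_normalizer_iff.mpr fun b hb y hy => norm_mem (hB hb) hy
    have hc : (Nat.card B).Coprime (Nat.card (U ⊓ γ H i : Subgroup G)) :=
      hcop.coprime_dvd_right (card_dvd_of_le (inf_le_right.trans (CF.Fgs2.lcs_le H i)))
    have h3 : U ⊓ γ H i ≤ pre i (((Λ p H (U ⊓ centralizer (B : Set G))).comap N).toAddSubgroup.comap
        (emb p H)) := by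
      rw [← CF.Coprime.commutator_sup_centralizer B _ hK hc (Or.inl hs)]
      refine sup_le (commutator_le.mpr fun k hk b hb => ?_) fun c hc => ⟨hc.1.2, ?_⟩
      · have e : ⁅k, b⁆ = k * (b * k⁻¹ * b⁻¹) := by rw [commutatorElement_def]; group
        have h4 := norm_mem (hB hb) (inv_mem hk.2)
        refine ⟨e ▸ mul_mem hk.2 h4, ?_⟩
        show N (emb p H (ι H i ⁅k, b⁆)) ∈ Λ p H _
        have h5 := T_ι ⟨b, hB hb⟩ (inv_mem hk.2)
        rw [e, ι_mul hk.2 h4, ← h5, map_add, map_add, ← TT_emb, hNT ⟨b, hb⟩, ι_inv hk.2, map_neg,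
          map_neg, add_neg_cancel]
        exact zero_mem _
      · show N (emb p H (ι H i c)) ∈ Λ p H _
        rw [hNf]
        · exact nsmul_mem (emb_mem_Λ (mem_inf.mpr ⟨hc.1.1, hc.2⟩) hc.1.2) _
        · intro b hb
          rw [TT_emb, T_ι _ hc.1.2]
          congr 2
          rw [mul_inv_eq_iff_eq_mul]
          exact mem_centralizer_iff.mp hc.2 b hb
    exact (h3 ⟨h1, h2⟩).2
  obtain ⟨m, hm⟩ := exists_inv (p := p) hcop
  rw [← hm x, ← hNf x hf]
  exact nsmul_mem key m

/-- The Lie ring is generated by its first component. -/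
theorem mem_of_gen {S : Set G} (hS : H ≤ closure S) (hS' : S ⊆ H) {W : Submodule (Rp p) (Lx p H)}
    (h1 : ∀ x ∈ S, emb p H (ι H 0 x) ∈ W) (h2 : ∀ x ∈ W, ∀ y ∈ W, ⁅x, y⁆ ∈ W) (x : Lx p H) :
    x ∈ W := by
  have key : ∀ i, ∀ x ∈ γ H i, ι H i x ∈ W.toAddSubgroup.comap (emb p H) := by
    have h0 : ∀ x ∈ H, ι H 0 x ∈ W.toAddSubgroup.comap (emb p H) := fun x hx =>
      ι_mem_of_closure (i := 0) hS' h1 (hS hx)
    intro i
    induction i with
    | zero => exact h0
    | succ i ih =>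
      refine fun z hz => ι_succ_mem (fun x hx y hy => ?_) hz
      show emb p H _ ∈ W
      rw [emb_lie]
      exact h2 _ (h0 y hy) _ (ih x hx)
  exact Λ_le (fun i x _ hx => key i x hx) (mem_Λ_top x)

theorem emb_act (ys : List (Lg H)) (v : Lg H) :
    emb p H (act ys v) = act (ys.map (emb p H)) (emb p H v) := by
  induction ys with
  | nil => rfl
  | cons y ys ih => rw [act_cons, emb_lie, ih]; rfl

/-- From the Lie ring back to the group. -/
theorem pow_mem_of_act [Fact p.Prime] {c N : ℕ}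
    (h : ∀ ys : List (Lx p H), ys.length = c → ∀ v, N • act ys v = 0) {i : ℕ} (hi : c ≤ i) {x : G}
    (hx : x ∈ γ H i) : x ^ N ∈ γ H (i + 1) := by
  have key : ∀ i, ∀ x ∈ γ H i,
      ι H i x ∈ AddSubgroup.closure {z | ∃ ys : List (Lg H), ∃ v, ys.length = i ∧ z = act ys v} := by
    intro i
    induction i with
    | zero => exact fun x _ => AddSubgroup.subset_closure ⟨[], _, rfl, rfl⟩
    | succ i ih =>
      refine fun z hz => ι_succ_mem (fun x hx y _ => ?_) hz
      refine lie_mem_of_closure_right ?_ (ih x hx)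
      rintro _ ⟨ys, v, hl, rfl⟩
      exact AddSubgroup.subset_closure ⟨_ :: ys, v, by simp [hl], rfl⟩
  rw [← ι_eq_zero_iff (pow_mem hx N), ι_pow hx]
  refine (AddSubgroup.closure_le (nsmulAddMonoidHom N : Lg H →+ Lg H).ker).mpr ?_ (key i x hx)
  rintro _ ⟨ys, v, hl, rfl⟩
  refine emb_eq_zero (p := p) ?_
  show emb p H (N • act ys v) = 0
  rw [map_nsmul, ← List.take_append_drop c ys, act_append, emb_act]
  exact h _ (by simp [hl, hi]) _

theorem lcs_le_of_kills [Fact p.Prime] {c : ℕ} (h : Kills (Set.univ : Set (Lx p H)) c ⊤ ⊥) :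
    γ H c ≤ γ H (c + 1) := fun x hx => by
  have := pow_mem_of_act (p := p) (N := 1) (fun ys hl v => by
    rw [one_nsmul]; exact h ys (fun _ _ => trivial) hl v trivial) le_rfl hx
  rwa [pow_one] at this

end CF.Fgs1.Lie
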