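import Cfsg.Agent.Fgs1.LieComb
import Cfsg.Agent.Fgs2.Petresco
import Mathlib.Algebra.DirectSum.Basic

/-!
# The Lie ring associated with the lower central series of a group
-/

set_option autoImplicit false

namespace CF.Fgs1.Lie

open Subgroup
open scoped commutatorElement DirectSum

variable {G : Type*} [Group G] (H : Subgroup G)

local notation "γ" => Subgroup.lowerCentralSeries

theorem comm_mem {i j : ℕ} {x y : G} (hx : x ∈ γ H i) (hy : y ∈ γ H j) : ⁅x, y⁆ ∈ γ H (i + j + 1) :=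
  CF.Fgs2.commutator_lcs_lcs H i j (commutator_mem_commutator hx hy)

theorem lcs_le_of_le {i j : ℕ} (h : i ≤ j) {x : G} (hx : x ∈ γ H j) : x ∈ γ H i :=
  H.lowerCentralSeries_antitone h hx

theorem conj_mem {i : ℕ} {g x : G} (hg : g ∈ H) (hx : x ∈ γ H i) : g * x * g⁻¹ ∈ γ H i :=
  (mem_normalizer_iff.mp (H.self_le_normalizer_lowerCentralSeries i hg) x).mp hx

instance normal_sec (i : ℕ) : ((γ H (i + 1)).subgroupOf (γ H i)).Normal :=
  ⟨fun _ hx g => mem_subgroupOf.mpr
    (conj_mem H (lcs_le_of_le H (Nat.zero_le i) g.2) (mem_subgroupOf.mp hx))⟩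

/-- The factors of the lower central series. -/
def Sec (i : ℕ) : Type _ := γ H i ⧸ (γ H (i + 1)).subgroupOf (γ H i)

instance secCommGroup (i : ℕ) : CommGroup (Sec H i) :=
  { QuotientGroup.Quotient.group ((γ H (i + 1)).subgroupOf (γ H i)) with
    mul_comm := by
      rintro ⟨a⟩ ⟨b⟩
      refine QuotientGroup.eq.mpr ?_
      have := lcs_le_of_le H (show i + 1 ≤ i + i + 1 by omega) (comm_mem H (inv_mem b.2) (inv_mem a.2))
      simpa [mem_subgroupOf, commutatorElement_def, mul_assoc] using this }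

/-- The projection to a factor. -/
def mkSec (i : ℕ) : γ H i →* Sec H i := QuotientGroup.mk' ((γ H (i + 1)).subgroupOf (γ H i))

/-- The additive group of the Lie ring. -/
def Lg : Type _ := ⨁ i, Additive (Sec H i)

instance lgAddCommGroup : AddCommGroup (Lg H) :=
  inferInstanceAs (AddCommGroup (⨁ i, Additive (Sec H i)))

/-- The inclusion of a homogeneous component. -/
def ofSec (i : ℕ) : Additive (Sec H i) →+ Lg H := DirectSum.of (fun i => Additive (Sec H i)) i

open Classical in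
/-- The image of an element of `γ i` in the Lie ring. -/
noncomputable def ι (i : ℕ) (x : G) : Lg H :=
  if h : x ∈ γ H i then ofSec H i (Additive.ofMul (mkSec H i ⟨x, h⟩)) else 0

variable {H}

theorem ι_def {i : ℕ} {x : G} (h : x ∈ γ H i) :
    ι H i x = ofSec H i (Additive.ofMul (mkSec H i ⟨x, h⟩)) :=
  dif_pos h

theorem ι_mul {i : ℕ} {x y : G} (hx : x ∈ γ H i) (hy : y ∈ γ H i) :
    ι H i (x * y) = ι H i x + ι H i y := by
  rw [ι_def hx, ι_def hy, ι_def (mul_mem hx hy), ← map_add, ← ofMul_mul, ← map_mul]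
  rfl

theorem ι_eq_zero_iff {i : ℕ} {x : G} (hx : x ∈ γ H i) : ι H i x = 0 ↔ x ∈ γ H (i + 1) := by
  rw [ι_def hx]
  refine (map_eq_zero_iff _ (DirectSum.of_injective (β := fun i => Additive (Sec H i)) i)).trans ?_
  rw [ofMul_eq_zero]
  exact QuotientGroup.eq_one_iff (N := (γ H (i + 1)).subgroupOf (γ H i)) _

theorem ι_of_succ {i : ℕ} {x : G} (hx : x ∈ γ H (i + 1)) : ι H i x = 0 :=
  (ι_eq_zero_iff (lcs_le_of_le H (Nat.le_succ i) hx)).mpr hx

theorem ι_one (i : ℕ) : ι H i 1 = 0 := ι_of_succ (one_mem _)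

theorem ι_inv {i : ℕ} {x : G} (hx : x ∈ γ H i) : ι H i x⁻¹ = -ι H i x := by
  rw [eq_neg_iff_add_eq_zero, ← ι_mul (inv_mem hx) hx, inv_mul_cancel, ι_one]

theorem ι_pow {i : ℕ} {x : G} (hx : x ∈ γ H i) (k : ℕ) : ι H i (x ^ k) = k • ι H i x := by
  induction k with
  | zero => simp [ι_one]
  | succ k ih => rw [pow_succ, ι_mul (pow_mem hx k) hx, ih, succ_nsmul]

theorem ι_conj {i : ℕ} {g x : G} (hg : g ∈ H) (hx : x ∈ γ H i) : ι H i (g * x * g⁻¹) = ι H i x := by
  have h1 : ⁅g, x⁆ ∈ γ H (i + 1) := by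
    have := comm_mem H (i := 0) hg hx
    rwa [zero_add] at this
  have : g * x * g⁻¹ = ⁅g, x⁆ * x := by rw [commutatorElement_def]; group
  rw [this, ι_mul (lcs_le_of_le H (Nat.le_succ i) h1) hx, ι_of_succ h1, zero_add]

theorem induction_on {P : Lg H → Prop} (v : Lg H) (h0 : P 0)
    (h1 : ∀ i x, x ∈ γ H i → P (ι H i x)) (h2 : ∀ a b, P a → P b → P (a + b)) : P v := by
  refine DirectSum.induction_on (motive := P) v h0 ?_ h2
  rintro i ⟨x⟩
  have := h1 i x x.2
  rw [ι_def x.2] at this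
  exact this

theorem hom_ext {M : Type*} [AddCommGroup M] {f g : Lg H →+ M}
    (h : ∀ i x, x ∈ γ H i → f (ι H i x) = g (ι H i x)) : f = g := by
  ext v
  induction v using induction_on with
  | h0 => simp
  | h1 i x hx => exact h i x hx
  | h2 a b ha hb => rw [map_add, map_add, ha, hb]

/-- Additive maps out of the Lie ring. -/
noncomputable def lift {M : Type*} [AddCommGroup M] (f : ℕ → G → M)
    (h1 : ∀ i x y, x ∈ γ H i → y ∈ γ H i → f i (x * y) = f i x + f i y)
    (h2 : ∀ i x, x ∈ γ H (i + 1) → f i x = 0) : Lg H →+ M :=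
  DirectSum.toAddMonoid (β := fun i => Additive (Sec H i)) fun i => MonoidHom.toAdditiveLeft
    (QuotientGroup.lift ((γ H (i + 1)).subgroupOf (γ H i))
      (MonoidHom.mk' (fun x : γ H i => Multiplicative.ofAdd (f i x))
        (fun x y => congrArg Multiplicative.ofAdd (h1 i x y x.2 y.2)))
      (fun x hx => congrArg Multiplicative.ofAdd (h2 i x hx)))

theorem lift_ι {M : Type*} [AddCommGroup M] (f : ℕ → G → M)
    (h1 : ∀ i x y, x ∈ γ H i → y ∈ γ H i → f i (x * y) = f i x + f i y)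
    (h2 : ∀ i x, x ∈ γ H (i + 1) → f i x = 0) {i : ℕ} {x : G} (hx : x ∈ γ H i) :
    lift f h1 h2 (ι H i x) = f i x := by
  rw [ι_def hx]
  exact DirectSum.toAddMonoid_of (β := fun i => Additive (Sec H i)) _ _ _

theorem ι_comm_mul_right {i j : ℕ} {x y z : G} (hx : x ∈ γ H i) (hy : y ∈ γ H j) (hz : z ∈ γ H j) :
    ι H (i + j + 1) ⁅x, y * z⁆ = ι H (i + j + 1) ⁅x, y⁆ + ι H (i + j + 1) ⁅x, z⁆ := by
  have : ⁅x, y * z⁆ = ⁅x, y⁆ * (y * ⁅x, z⁆ * y⁻¹) := by simp only [commutatorElement_def]; group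
  have hy0 : y ∈ H := lcs_le_of_le H (Nat.zero_le j) hy
  rw [this, ι_mul (comm_mem H hx hy) (conj_mem H hy0 (comm_mem H hx hz)),
    ι_conj hy0 (comm_mem H hx hz)]

theorem ι_comm_swap {i j : ℕ} {x y : G} (hx : x ∈ γ H i) (hy : y ∈ γ H j) :
    ι H (i + j + 1) ⁅x, y⁆ = -ι H (j + i + 1) ⁅y, x⁆ := by
  rw [← ι_inv (comm_mem H hy hx), commutatorElement_inv, add_comm i]

/-- The bracket with a homogeneous element. -/
noncomputable def br1 (i : ℕ) (x : G) (hx : x ∈ γ H i) : Lg H →+ Lg H :=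
  lift (fun j y => ι H (i + j + 1) ⁅x, y⁆) (fun _ _ _ hy hz => ι_comm_mul_right hx hy hz)
    (fun j _ hy => ι_of_succ (comm_mem H (j := j + 1) hx hy))

theorem br1_ι {i j : ℕ} {x y : G} (hx : x ∈ γ H i) (hy : y ∈ γ H j) :
    br1 i x hx (ι H j y) = ι H (i + j + 1) ⁅x, y⁆ := lift_ι _ _ _ hy

open Classical in
/-- The bracket. -/
noncomputable def br : Lg H →+ Lg H →+ Lg H :=
  lift (fun i x => if hx : x ∈ γ H i then br1 i x hx else 0)
    (fun i x y hx hy => by
      rw [dif_pos hx, dif_pos hy, dif_pos (mul_mem hx hy)]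
      refine hom_ext fun j z hz => ?_
      rw [AddMonoidHom.add_apply, br1_ι _ hz, br1_ι _ hz, br1_ι _ hz, ι_comm_swap (mul_mem hx hy) hz,
        ι_comm_swap hx hz, ι_comm_swap hy hz, ι_comm_mul_right hz hx hy, neg_add])
    (fun i x hx => by
      rw [dif_pos (lcs_le_of_le H (Nat.le_succ i) hx)]
      refine hom_ext fun j z hz => ?_
      rw [br1_ι _ hz]
      refine ι_of_succ ?_
      have := comm_mem H hx hz
      rwa [show i + 1 + j + 1 = i + j + 1 + 1 by ring] at this)

theorem br_ι {i j : ℕ} {x y : G} (hx : x ∈ γ H i) (hy : y ∈ γ H j) :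
    br (ι H i x) (ι H j y) = ι H (i + j + 1) ⁅x, y⁆ := by
  rw [br, lift_ι _ _ _ hx, dif_pos hx, br1_ι _ hy]

theorem br_swap (a b : Lg H) : br a b = -br b a := by
  induction a using induction_on with
  | h0 => simp
  | h2 a a' h h' => rw [map_add, map_add, AddMonoidHom.add_apply, h, h', neg_add]
  | h1 i x hx =>
    induction b using induction_on with
    | h0 => simp
    | h2 b b' h h' => rw [map_add, map_add, AddMonoidHom.add_apply, h, h', neg_add]
    | h1 j y hy => rw [br_ι hx hy, br_ι hy hx, ι_comm_swap hx hy]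

theorem br_self (a : Lg H) : br a a = 0 := by
  induction a using induction_on with
  | h0 => simp
  | h2 a b h h' =>
    rw [map_add, map_add, AddMonoidHom.add_apply, AddMonoidHom.add_apply, h, h', br_swap a b]
    simp
  | h1 i x hx => rw [br_ι hx hx, commutatorElement_self, ι_one]

theorem br_jacobi_ι {i j k : ℕ} {x y z : G} (hx : x ∈ γ H i) (hy : y ∈ γ H j) (hz : z ∈ γ H k) :
    br (br (ι H i x) (ι H j y)) (ι H k z) + br (br (ι H j y) (ι H k z)) (ι H i x) +
      br (br (ι H k z) (ι H i x)) (ι H j y) = 0 := by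
  have hx0 : x ∈ H := lcs_le_of_le H (Nat.zero_le i) hx
  have hy0 : y ∈ H := lcs_le_of_le H (Nat.zero_le j) hy
  have hz0 : z ∈ H := lcs_le_of_le H (Nat.zero_le k) hz
  have h1 := comm_mem H (comm_mem H hx hy) (conj_mem H hy0 hz)
  have h2 := comm_mem H (comm_mem H hy hz) (conj_mem H hz0 hx)
  have h3 := comm_mem H (comm_mem H hz hx) (conj_mem H hx0 hy)
  rw [br_ι hx hy, br_ι hy hz, br_ι hz hx, ← ι_conj hy0 hz, br_ι (comm_mem H hx hy) (conj_mem H hy0 hz),
    ← ι_conj hz0 hx, br_ι (comm_mem H hy hz) (conj_mem H hz0 hx),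
    ← ι_conj hx0 hy, br_ι (comm_mem H hz hx) (conj_mem H hx0 hy)]
  rw [show j + k + 1 + i + 1 = i + j + 1 + k + 1 by ring] at h2 ⊢
  rw [show k + i + 1 + j + 1 = i + j + 1 + k + 1 by ring] at h3 ⊢
  rw [← ι_mul h1 h2, ← ι_mul (mul_mem h1 h2) h3]
  have : ⁅⁅x, y⁆, y * z * y⁻¹⁆ * ⁅⁅y, z⁆, z * x * z⁻¹⁆ * ⁅⁅z, x⁆, x * y * x⁻¹⁆ = 1 := by
    simp only [commutatorElement_def]; group
  rw [this, ι_one]

theorem br_jacobi (a b c : Lg H) : br (br a b) c + br (br b c) a + br (br c a) b = 0 := by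
  induction a using induction_on with
  | h0 => simp
  | h2 a a' h h' =>
    simp only [map_add, AddMonoidHom.add_apply]
    rw [← add_zero 0]
    nth_rewrite 1 [← h]
    rw [← h']
    abel
  | h1 i x hx =>
    induction b using induction_on with
    | h0 => simp
    | h2 a a' h h' =>
      simp only [map_add, AddMonoidHom.add_apply]
      rw [← add_zero 0]
      nth_rewrite 1 [← h]
      rw [← h']
      abel
    | h1 j y hy =>
      induction c using induction_on with
      | h0 => simp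
      | h2 a a' h h' =>
        simp only [map_add, AddMonoidHom.add_apply]
        rw [← add_zero 0]
        nth_rewrite 1 [← h]
        rw [← h']
        abel
      | h1 k z hz => exact br_jacobi_ι hx hy hz

noncomputable instance lgLieRing : LieRing (Lg H) where
  bracket a b := br a b
  add_lie a b c := by rw [map_add, AddMonoidHom.add_apply]
  lie_add a b c := map_add _ _ _
  lie_self := br_self
  leibniz_lie a b c := by
    have := br_jacobi a b c
    show br a (br b c) = br (br a b) c + br b (br a c)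
    rw [br_swap a (br b c), br_swap a c, map_neg, br_swap b (br c a), neg_neg]
    rw [neg_eq_iff_add_eq_zero, ← this]
    abel

theorem lie_ι {i j : ℕ} {x y : G} (hx : x ∈ γ H i) (hy : y ∈ γ H j) :
    ⁅ι H i x, ι H j y⁆ = ι H (i + j + 1) ⁅x, y⁆ := br_ι hx hy

theorem norm_mem {g : G} (hg : g ∈ normalizer (H : Set G)) {i : ℕ} {x : G} (hx : x ∈ γ H i) :
    g * x * g⁻¹ ∈ γ H i := by
  have h1 : H.map (MulAut.conj g).toMonoidHom ≤ H := by
    rintro _ ⟨y, hy, rfl⟩
    exact (mem_normalizer_iff.mp hg y).mp hy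
  have h2 : (γ H i).map (MulAut.conj g).toMonoidHom ≤ γ H i := by
    rw [map_lowerCentralSeries]
    clear hx
    induction i with
    | zero => exact h1
    | succ i ih => exact commutator_mono ih h1
  exact h2 (mem_map_of_mem _ hx)

/-- The action of the normalizer on the Lie ring. -/
noncomputable def T (g : normalizer (H : Set G)) : Lg H →+ Lg H :=
  lift (fun i x => ι H i (g * x * (g : G)⁻¹))
    (fun i x y hx hy => by
      rw [← ι_mul (norm_mem g.2 hx) (norm_mem g.2 hy)]
      congr 1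
      group)
    (fun _ _ hx => ι_of_succ (norm_mem g.2 hx))

theorem T_ι (g : normalizer (H : Set G)) {i : ℕ} {x : G} (hx : x ∈ γ H i) :
    T g (ι H i x) = ι H i (g * x * (g : G)⁻¹) := lift_ι _ _ _ hx

theorem T_one (v : Lg H) : T 1 v = v := by
  have : T (1 : normalizer (H : Set G)) = AddMonoidHom.id _ :=
    hom_ext fun i x hx => by rw [T_ι _ hx]; simp
  rw [this]; rfl

theorem T_mul (g h : normalizer (H : Set G)) (v : Lg H) : T (g * h) v = T g (T h v) := by
  have : T (g * h) = (T g).comp (T h) := hom_ext fun i x hx => by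
    rw [AddMonoidHom.comp_apply, T_ι _ hx, T_ι _ hx, T_ι _ (norm_mem h.2 hx)]
    congr 1
    simp [mul_assoc]
  rw [this]; rfl

theorem T_lie (g : normalizer (H : Set G)) (a b : Lg H) : T g ⁅a, b⁆ = ⁅T g a, T g b⁆ := by
  induction a using induction_on with
  | h0 => simp
  | h2 a a' h h' => rw [add_lie, map_add, map_add, add_lie, h, h']
  | h1 i x hx =>
    induction b using induction_on with
    | h0 => simp
    | h2 b b' h h' => rw [lie_add, map_add, map_add, lie_add, h, h']
    | h1 j y hy =>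
      rw [lie_ι hx hy, T_ι _ hx, T_ι _ hy, T_ι _ (comm_mem H hx hy),
        lie_ι (norm_mem g.2 hx) (norm_mem g.2 hy)]
      congr 1
      simp only [commutatorElement_def]; group

theorem card_nsmul (v : Lg H) : Nat.card H • v = 0 := by
  induction v using induction_on with
  | h0 => simp
  | h2 a b h h' => rw [nsmul_add, h, h', add_zero]
  | h1 i x hx =>
    have : x ^ Nat.card H = 1 :=
      orderOf_dvd_iff_pow_eq_one.mp (H.orderOf_dvd_natCard (lcs_le_of_le H (Nat.zero_le i) hx))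
    rw [← ι_pow hx, this, ι_one]

/-- Elements of `γ (i + 1)` are sums of brackets. -/
theorem ι_succ_mem {i : ℕ} {W : AddSubgroup (Lg H)}
    (h : ∀ x ∈ γ H i, ∀ y ∈ H, ⁅ι H 0 y, ι H i x⁆ ∈ W) {z : G} (hz : z ∈ γ H (i + 1)) :
    ι H (i + 1) z ∈ W := by
  have hz' := hz
  rw [Subgroup.mem_lowerCentralSeries_succ_iff] at hz'
  induction hz' using closure_induction with
  | mem z hz' =>
    obtain ⟨x, hx, y, hy, rfl⟩ := hz'
    have := neg_mem (h x hx y hy)
    rwa [lie_skew, lie_ι hx (j := 0) hy] at this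
  | one => rw [ι_one]; exact zero_mem _
  | mul a b ha hb iha ihb => rw [ι_mul ha hb]; exact add_mem (iha ha) (ihb hb)
  | inv a ha iha => rw [ι_inv ha]; exact neg_mem (iha ha)

theorem ι_mem_of_closure {i : ℕ} {W : AddSubgroup (Lg H)} {S : Set G} (hS : S ⊆ γ H i)
    (h : ∀ x ∈ S, ι H i x ∈ W) {z : G} (hz : z ∈ closure S) : ι H i z ∈ W := by
  have hle := (closure_le _).mpr hS
  induction hz using closure_induction with
  | mem z hz' => exact h z hz'
  | one => rw [ι_one]; exact zero_mem _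
  | mul a b ha hb iha ihb => rw [ι_mul (hle ha) (hle hb)]; exact add_mem iha ihb
  | inv a ha iha => rw [ι_inv (hle ha)]; exact neg_mem iha

end CF.Fgs1.Lie
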