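import Cfsg.Agent.Fgs1.LieExt
import Cfsg.Agent.Fgs1.PGroup
import Cfsg.Agent.Coprime.Thompson
import Cfsg.Agent.Coprime.Glauberman
import Cfsg.Agent.Solv.Nilpotent
import Cfsg.Agent.Transfer.SylowIn

/-!
# The theorems of Higman–Kreknin–Kostrikin and of Alperin on automorphisms of prime order
-/

set_option autoImplicit false

namespace CF.Fgs1.Lie

open Subgroup Cfsg
open scoped commutatorElement

variable {G : Type*} [Group G]

local notation "γ" => Subgroup.lowerCentralSeries

/-- The Higman–Kreknin–Kostrikin bound. -/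
def hig (p : ℕ) : ℕ := ∑ i ∈ Finset.range (2 ^ (p - 1) - 1), (p - 1) ^ i

theorem TT_pow_eq_one {p : ℕ} {H : Subgroup G} {a : G} (ha : a ∈ normalizer (H : Set G))
    (hp : a ^ p = 1) : TT p (H := H) ⟨a, ha⟩ ^ p = 1 := by
  rw [← map_pow, ← map_one (TT p)]
  congr 1
  exact Subtype.ext hp

theorem centralizer_zpowers (a : G) : centralizer (zpowers a : Set G) = centralizer {a} := by
  rw [zpowers_eq_closure, centralizer_closure]

theorem lcs_eq_bot_of_le {K : Subgroup G} [Group.IsNilpotent K] {c : ℕ} (h : γ K c ≤ γ K (c + 1)) :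
    γ K c = ⊥ := by
  by_contra hne
  exact absurd h (CF.Solv.commutator_lt_of_isNilpotent (CF.Fgs2.lcs_le K c)
    (K.self_le_normalizer_lowerCentralSeries c) hne).not_ge

theorem isPGroup_zpowers_of_pow {p : ℕ} {a : G} (h : a ^ p = 1) : IsPGroup p (zpowers a) :=
  CF.Solv.isPGroup_of_forall_pow_eq_one fun x hx => by
    obtain ⟨k, rfl⟩ := mem_zpowers_iff.mp hx
    rw [← zpow_natCast, ← zpow_mul, mul_comm, zpow_mul, zpow_natCast, h, one_zpow]

theorem lcs_eq_bot_of_graded [Finite G] {p : ℕ} [hp : Fact p.Prime] {K : Subgroup G} {a : G}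
    (ha : a ^ p = 1) (haK : a ∈ normalizer (K : Set G)) (hf : K ⊓ centralizer {a} = ⊥) {c : ℕ}
    (hc : ∀ {g : ZMod p → AddSubgroup (Lx p K)}, Closed g → g 0 = ⊥ →
      Kills (AddSubgroup.closure {x | ∃ a, x ∈ g a} : AddSubgroup (Lx p K)) c
        (AddSubgroup.closure {x | ∃ a, x ∈ g a}) ⊥) : γ K c = ⊥ := by
  have := CF.Coprime.isNilpotent_of_fpf K hp.out ha haK hf
  have hA := isPGroup_zpowers_of_pow ha
  have hAK : zpowers a ≤ normalizer (K : Set G) := zpowers_le.mpr haK
  have hcop : p.Coprime (Nat.card K) := by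
    rw [hp.out.coprime_iff_not_dvd]
    intro hd
    obtain ⟨z, hz, hz1, hzc⟩ := exists_fixed_of_dvd_card hA hAK hd
    rw [centralizer_zpowers] at hzc
    exact hz1 (mem_bot.mp (hf ▸ mem_inf.mpr ⟨hz, hzc⟩))
  obtain ⟨m, hm⟩ := exists_inv (p := p) hcop
  refine lcs_eq_bot_of_le (lcs_le_of_kills (p := p) ?_)
  have h0 : (eig (TT p (H := K) ⟨a, haK⟩) (0 : ZMod p)).toAddSubgroup = ⊥ := by
    refine eq_bot_iff.mpr fun x hx => ?_
    have := mem_Λ_fixed hAK hAK (CF.Solv.coprime_card_of_isPGroup hA hcop.symm) (mem_Λ_top x)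
      (fun b hb => by
        obtain ⟨k, rfl⟩ := mem_powers_iff_mem_zpowers.mpr hb
        have e : (⟨a ^ k, hAK hb⟩ : normalizer (K : Set G)) = ⟨a, haK⟩ ^ k := rfl
        show TT p (⟨a ^ k, hAK hb⟩ : normalizer (K : Set G)) x = x
        rw [e, map_pow, pow_apply_of_eig hx, mul_zero, ε_zero, one_smul])
    rwa [centralizer_zpowers, hf, Λ_bot] at this
  have h1 := hc (closed_eig (p := p) (H := K) ⟨a, haK⟩) h0
  have h2 : ∀ x : Lx p K, x ∈ AddSubgroup.closure
      {x | ∃ t : ZMod p, x ∈ (eig (TT p (H := K) ⟨a, haK⟩) t).toAddSubgroup} := by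
    intro x
    rw [← hm x, ← sum_prj (TT p (H := K) ⟨a, haK⟩) x]
    refine AddSubgroup.nsmul_mem _ (AddSubgroup.sum_mem _ fun t _ =>
      AddSubgroup.subset_closure ?_) m
    exact ⟨t, prj_mem_eig (TT_pow_eq_one haK ha) t x⟩
  exact h1.mono (fun x _ => h2 x) (fun x _ => h2 x) le_rfl

theorem hkk_group [Finite G] {p : ℕ} [hp : Fact p.Prime] {K : Subgroup G} {a : G} (ha : a ^ p = 1)
    (haK : a ∈ normalizer (K : Set G)) (hf : K ⊓ centralizer {a} = ⊥) : γ K (hig p) = ⊥ :=
  lcs_eq_bot_of_graded ha haK hf hkk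

theorem hkk_group_three [Finite G] {K : Subgroup G} {a : G} (ha : a ^ 3 = 1)
    (haK : a ∈ normalizer (K : Set G)) (hf : K ⊓ centralizer {a} = ⊥) : γ K 2 = ⊥ :=
  haveI : Fact (Nat.Prime 3) := ⟨Nat.prime_three⟩
  lcs_eq_bot_of_graded ha haK hf hkk_three

/-! ### Derived series of subgroups -/

/-- The derived subgroup of a subgroup. -/
def der (H : Subgroup G) : Subgroup G := ⁅H, H⁆

theorem der_top (k : ℕ) : der^[k] (⊤ : Subgroup G) = derivedSeries G k := by
  induction k with
  | zero => rfl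
  | succ k ih => rw [Function.iterate_succ_apply', ih]; rfl

theorem map_der {G' : Type*} [Group G'] (f : G →* G') (k : ℕ) (H : Subgroup G) :
    (der^[k] H).map f = der^[k] (H.map f) := by
  induction k with
  | zero => rfl
  | succ k ih => rw [Function.iterate_succ_apply', Function.iterate_succ_apply', der, der,
      map_commutator, ih]

theorem der_mono (k : ℕ) {H K : Subgroup G} (h : H ≤ K) : der^[k] H ≤ der^[k] K := by
  induction k generalizing H K with
  | zero => exact h
  | succ k ih => exact ih (commutator_mono h h)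

theorem der_le_lcs (k : ℕ) (H : Subgroup G) : der^[k] H ≤ γ H k := by
  induction k with
  | zero => exact le_rfl
  | succ k ih =>
    rw [Function.iterate_succ_apply']
    exact commutator_mono ih (ih.trans (CF.Fgs2.lcs_le H k))

theorem der_le (k : ℕ) (H : Subgroup G) : der^[k] H ≤ H :=
  (der_le_lcs k H).trans (CF.Fgs2.lcs_le H k)

theorem der_add_le {k l : ℕ} {H K L : Subgroup G} (h1 : der^[l] H ≤ K) (h2 : der^[k] K ≤ L) :
    der^[k + l] H ≤ L := by
  rw [Function.iterate_add_apply]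
  exact (der_mono k h1).trans h2

theorem der_eq_bot_of_card [Finite G] (m : ℕ) :
    ∀ (H : Subgroup G) [Group.IsSolvable H], Nat.card H ≤ m → der^[m] H = ⊥ := by
  induction m with
  | zero => exact fun H _ h => absurd h (not_le.mpr Nat.card_pos)
  | succ m ih =>
    intro H _ h
    by_cases hH : H = ⊥
    · exact eq_bot_iff.mpr (hH ▸ der_le _ _)
    · have h1 := CF.Coprime.commutator_lt_of_isSolvable hH
      have := CF.Solv.isSolvable_of_le h1.le
      exact ih ⁅H, H⁆ (Nat.lt_succ_iff.mp ((CF.Solv.card_lt_of_lt h1).trans_le h))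

/-! ### A theorem of P. Hall -/

/-- The commutator with the whole group. -/
def it (U : Subgroup G) : Subgroup G := ⁅U, ⊤⁆

instance normal_it (k : ℕ) (U : Subgroup G) [U.Normal] : (it^[k] U).Normal := by
  induction k with
  | zero => assumption
  | succ k ih => rw [Function.iterate_succ_apply', it]; infer_instance

theorem it_mono (k : ℕ) {U V : Subgroup G} (h : U ≤ V) : it^[k] U ≤ it^[k] V := by
  induction k generalizing U V with
  | zero => exact h
  | succ k ih => exact ih (commutator_mono h le_rfl)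

theorem it_le (k : ℕ) (U : Subgroup G) [U.Normal] : it^[k] U ≤ U := by
  induction k with
  | zero => exact le_rfl
  | succ k ih =>
    rw [Function.iterate_succ_apply']
    exact (commutator_le_left _ _).trans ih

theorem it_eq_bot [Finite G] [Group.IsNilpotent G] (k : ℕ) :
    ∀ (U : Subgroup G) [U.Normal], Nat.card U ≤ k → it^[k] U = ⊥ := by
  induction k with
  | zero => exact fun H _ h => absurd h (not_le.mpr Nat.card_pos)
  | succ m ih =>
    intro H _ h
    by_cases hH : H = ⊥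
    · exact eq_bot_iff.mpr ((it_le _ H).trans hH.le)
    · have h1 := CF.Solv.commutator_lt_of_isNilpotent (K := ⊤) le_top
        (normalizer_eq_top H).ge hH
      exact ih ⁅H, ⊤⁆ (Nat.lt_succ_iff.mp ((CF.Solv.card_lt_of_lt h1).trans_le h))

theorem map_it {G' : Type*} [Group G'] {f : G →* G'} (hf : Function.Surjective f) (k : ℕ)
    (U : Subgroup G) : (it^[k] U).map f = it^[k] (U.map f) := by
  induction k with
  | zero => rfl
  | succ k ih => rw [Function.iterate_succ_apply', Function.iterate_succ_apply', it, it,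
      map_commutator, ih, map_top_of_surjective _ hf]

theorem commutator_lcs_le (j : ℕ) :
    ∀ (U : Subgroup G) [U.Normal], ⁅U, γ (⊤ : Subgroup G) j⁆ ≤ it^[j + 1] U := by
  induction j with
  | zero => exact fun U _ => le_rfl
  | succ j ih =>
    intro U _
    rw [commutator_comm, Subgroup.lowerCentralSeries_succ]
    refine CF.Loc.three_subgroups le_normalizer_of_normal le_normalizer_of_normal
      le_normalizer_of_normal ?_ ?_
    · rw [commutator_comm ⊤]
      exact ih ⁅U, ⊤⁆
    · rw [Function.iterate_succ_apply']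
      exact commutator_mono (ih U) le_rfl

theorem hall_bot [Finite G] [Group.IsNilpotent G] {f : ℕ} (U : Subgroup G) [U.Normal]
    (h : Nat.card U ≤ f * Nat.card (⁅U, γ (⊤ : Subgroup G) f⁆ : Subgroup G)) :
    ⁅U, γ (⊤ : Subgroup G) f⁆ = ⊥ := by
  set W := ⁅U, γ (⊤ : Subgroup G) f⁆ with hW
  have hWU : W ≤ U := commutator_le_left _ _
  have h1 : it^[f] U ≤ W := by
    have : (U.map (QuotientGroup.mk' W)).Normal :=
      Normal.map inferInstance _ (QuotientGroup.mk'_surjective W)
    rw [← CF.Solv.map_mk'_eq_bot_iff, map_it (QuotientGroup.mk'_surjective W)]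
    refine it_eq_bot f _ ?_
    have h2 := CF.Solv.card_map_mk'_mul W U
    rw [inf_eq_left.mpr hWU] at h2
    exact Nat.le_of_mul_le_mul_right (h2 ▸ h) Nat.card_pos
  by_contra hne
  have h2 := commutator_lcs_le f U
  rw [Function.iterate_succ_apply'] at h2
  exact absurd (h2.trans (commutator_mono h1 le_rfl))
    (CF.Solv.commutator_lt_of_isNilpotent (K := ⊤) le_top (normalizer_eq_top W).ge hne).not_ge

/-! ### Counting fixed points -/

theorem card_le_mul [Finite G] (a : G) {S W : Subgroup G} (h : ∀ x ∈ S, a * x * a⁻¹ * x⁻¹ ∈ W) :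
    Nat.card S ≤ Nat.card (centralizer {a}) * Nat.card W := by
  let φ : G → G := fun x => a * x * a⁻¹ * x⁻¹
  have key : ∀ x, (Function.invFun φ (φ x))⁻¹ * x ∈ centralizer {a} := by
    intro x
    have h1 : φ (Function.invFun φ (φ x)) = φ x := Function.invFun_eq ⟨x, rfl⟩
    set y := Function.invFun φ (φ x)
    rw [mem_centralizer_singleton_iff]
    have h2 : a * y * a⁻¹ * y⁻¹ = a * x * a⁻¹ * x⁻¹ := h1
    calc y⁻¹ * x * a = y⁻¹ * (a * x * a⁻¹ * x⁻¹)⁻¹ * a * x := by group
      _ = a * (y⁻¹ * x) := by rw [← h2]; group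
  rw [← Nat.card_prod]
  refine Nat.card_le_card_of_injective (fun x : S => ((⟨_, key x⟩ : centralizer {a}),
    (⟨φ x, h x x.2⟩ : W))) fun x y hxy => ?_
  have h1 : φ x = φ y := congrArg Subtype.val (congrArg Prod.snd hxy)
  have h2 : (Function.invFun φ (φ x))⁻¹ * x = (Function.invFun φ (φ y))⁻¹ * y :=
    congrArg Subtype.val (congrArg Prod.fst hxy)
  rw [h1] at h2
  exact Subtype.ext (mul_left_cancel h2)

theorem card_centralizer_quot [Finite G] (N : Subgroup G) [N.Normal] (a : G) :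
    Nat.card (centralizer {(a : G ⧸ N)}) ≤ Nat.card (centralizer {a}) := by
  have h := card_le_mul a (S := (centralizer {(a : G ⧸ N)}).comap (QuotientGroup.mk' N)) (W := N)
    fun x hx => by
      have h1 : (x : G ⧸ N) * a = a * x := mem_centralizer_singleton_iff.mp hx
      rw [← QuotientGroup.eq_one_iff, QuotientGroup.mk_mul, QuotientGroup.mk_mul,
        QuotientGroup.mk_mul, QuotientGroup.mk_inv, QuotientGroup.mk_inv, ← h1]
      group
  rw [CF.Solv.card_comap_mk'] at h
  exact Nat.le_of_mul_le_mul_right h Nat.card_pos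

theorem card_centralizer_sub [Finite G] (K : Subgroup G) (a : K) :
    Nat.card (centralizer {a}) ≤ Nat.card (centralizer {(a : G)}) := by
  rw [← card_map_of_injective K.subtype_injective]
  refine card_le_of_le ?_
  rintro _ ⟨x, hx, rfl⟩
  exact mem_centralizer_singleton_iff.mpr
    (congrArg Subtype.val (mem_centralizer_singleton_iff.mp hx))

variable {H : Subgroup G}

/-- The action on the Lie ring as a monoid homomorphism. -/
noncomputable def TZ : normalizer (H : Set G) →* Module.End ℤ (Lg H) where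
  toFun g := (T g).toIntLinearMap
  map_one' := LinearMap.ext T_one
  map_mul' g h := LinearMap.ext (T_mul g h)

theorem card_pre_le [Finite G] (a : normalizer (H : Set G)) (i k : ℕ) :
    Nat.card (pre i (LinearMap.ker ((TZ a - 1) ^ k)).toAddSubgroup) ≤
      Nat.card (centralizer {(a : G)}) ^ k * Nat.card (γ H (i + 1)) := by
  induction k with
  | zero =>
    rw [pow_zero, pow_zero, one_mul]
    exact card_le_of_le fun x hx => (ι_eq_zero_iff hx.1).mp hx.2
  | succ k ih =>
    rw [pow_succ' (Nat.card _), mul_assoc]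
    refine le_trans (card_le_mul (a : G) fun x hx => ?_) (Nat.mul_le_mul_left _ ih)
    refine ⟨mul_mem (norm_mem a.2 hx.1) (inv_mem hx.1), ?_⟩
    have h1 : ((TZ a - 1) ^ (k + 1)) (ι H i x) = 0 := hx.2
    show ((TZ a - 1) ^ k) _ = 0
    rw [ι_mul (norm_mem a.2 hx.1) (inv_mem hx.1), ι_inv hx.1, ← T_ι a hx.1, ← h1, pow_succ,
      ← sub_eq_add_neg]
    rfl

theorem card_lcs_le [Finite G] {p : ℕ} (hp : p.Prime) (a : normalizer (H : Set G))
    (ha : a ^ p = 1) {i e : ℕ} (h : ∀ x ∈ γ H i, x ^ p ^ e ∈ γ H (i + 1)) :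
    Nat.card (γ H i) ≤ Nat.card (centralizer {(a : G)}) ^ (p * e) * Nat.card (γ H (i + 1)) := by
  refine le_trans (card_le_of_le fun x hx => mem_pre.mpr ⟨hx, ?_⟩) (card_pre_le a i (p * e))
  obtain ⟨r, hr⟩ := (Commute.one_right (TZ a - 1)).exists_add_pow_prime_eq hp
  rw [sub_add_cancel, ← map_pow, ha, map_one, one_pow, mul_one] at hr
  have h1 : (TZ a - 1) ^ p = (-((TZ a - 1) * r)) * (p : Module.End ℤ (Lg H)) := by
    rw [← (Nat.cast_commute p _).eq, mul_neg, ← mul_assoc, eq_neg_iff_add_eq_zero]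
    linear_combination (norm := abel) -hr
  show ((TZ a - 1) ^ (p * e)) (ι H i x) = 0
  rw [pow_mul, h1, (Nat.cast_commute p _).symm.mul_pow, Module.End.mul_apply, ← Nat.cast_pow,
    Module.End.natCast_apply, ← ι_pow hx, ι_of_succ (h x hx), map_zero]

theorem nsmul_fixed [Finite G] {p c : ℕ} [hp : Fact p.Prime] (hG : IsPGroup p G) [H.Normal]
    (a : normalizer (H : Set G)) (hc : Nat.card (centralizer {(a : G)}) ≤ c) {i : ℕ} {x : G}
    (hx : x ∈ γ H i) (h : T a (ι H i x) = ι H i x) : p ^ c • ι H i x = 0 := by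
  set K := pre i (LinearMap.ker ((TZ a - 1) ^ 1)).toAddSubgroup with hK
  have hxK : x ∈ K := ⟨hx, by
    show ((TZ a - 1) ^ 1 : Module.End ℤ (Lg H)) (ι H i x) = 0
    rw [pow_one]
    exact sub_eq_zero.mpr h⟩
  have hle : γ H (i + 1) ≤ K := fun y hy => ⟨lcs_le_of_le H (Nat.le_succ i) hy, by
    rw [ι_of_succ hy]; exact zero_mem _⟩
  have hn : (γ H (i + 1)).Normal := ⟨fun y hy g => norm_mem (normalizer_eq_top H ▸ mem_top g) hy⟩
  have h1 := card_pre_le a i 1
  rw [← hK, ← CF.Solv.card_mul_relIndex hle, pow_one, mul_comm] at h1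
  have h2 := (Nat.le_of_mul_le_mul_right h1 Nat.card_pos).trans hc
  obtain ⟨j, hj⟩ := CF.Transfer.isPGroup_relIndex (hG.to_subgroup K) (γ H (i + 1))
  have h3 : j ≤ c := ((Nat.lt_pow_self hp.out.one_lt).le.trans (hj ▸ h2))
  have h4 := pow_relIndex_mem (γ H (i + 1)) hxK
  obtain ⟨d, rfl⟩ := Nat.exists_eq_add_of_le h3
  rw [← ι_pow hx, pow_add, pow_mul, ← hj]
  exact ι_of_succ (pow_mem h4 _)

theorem nsmul_eig_zero [Finite G] {p c : ℕ} [hp : Fact p.Prime] (hG : IsPGroup p G) [H.Normal]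
    (a : normalizer (H : Set G)) (ha : a ^ p = 1) (hc : Nat.card (centralizer {(a : G)}) ≤ c)
    {y : Lx p H} (hy : y ∈ eig (TT p a) (0 : ZMod p)) : p ^ (c + 1) • y = 0 := by
  have hS : TT p a ^ p = 1 := by rw [← map_pow, ha, map_one]
  have e : ∀ x : Lx p H, prj (TT p a) 0 x = ∑ s : ZMod p, TT p (a ^ s.val) x := fun x => by
    simp [prj, ε_zero]
  have key : ∀ x : Lx p H, p ^ c • prj (TT p a) 0 x = 0 := by
    intro x
    refine Λ_induction (mem_Λ_top x) (fun i u _ hu => ?_) (by simp [e]) (fun a b ha hb => ?_)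
      (fun r a ha => ?_)
    · have h1 : ∀ l : Finset (ZMod p), ∃ w ∈ γ H i,
          ∑ s ∈ l, TT p (a ^ s.val) (emb p H (ι H i u)) = emb p H (ι H i w) := by
        intro l
        induction l using Finset.induction_on with
        | empty => exact ⟨1, one_mem _, by rw [ι_one, map_zero, Finset.sum_empty]⟩
        | insert s l hs ih =>
          obtain ⟨w, hw, hw'⟩ := ih
          refine ⟨_, mul_mem (norm_mem (a ^ s.val).2 hu) hw, ?_⟩
          rw [Finset.sum_insert hs, hw', TT_emb, T_ι _ hu, ι_mul (norm_mem (a ^ s.val).2 hu) hw,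
            map_add]
      obtain ⟨w, hw, hw'⟩ := h1 Finset.univ
      have h2 := mem_eig_zero.mp (prj_mem_eig hS 0 (emb p H (ι H i u)))
      rw [e, hw'] at h2 ⊢
      rw [TT_emb, ← sub_eq_zero, ← map_sub] at h2
      rw [← map_nsmul, nsmul_fixed hG a hc hw (sub_eq_zero.mp (emb_eq_zero h2)), map_zero]
    · simp only [e, map_add, Finset.sum_add_distrib] at ha hb ⊢
      rw [nsmul_add, ha, hb, add_zero]
    · simp only [e, map_smul, ← Finset.smul_sum] at ha ⊢
      rw [smul_comm, ha, smul_zero]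
  have h1 : prj (TT p a) 0 y = p • y := by
    simp [prj, pow_apply_of_eig hy, ε_zero, ZMod.card]
  rw [pow_succ, mul_nsmul', ← h1, key]

theorem act_nsmul {L : Type*} [LieRing L] (n : ℕ) (ys : List L) (v : L) :
    act (ys.map (n • ·)) (n • v) = n ^ (ys.length + 1) • act ys v := by
  induction ys with
  | nil => simp
  | cons y ys ih =>
    rw [List.map_cons, act_cons, ih, nsmul_lie, lie_nsmul, smul_smul, List.length_cons,
      ← pow_succ', act_cons]

theorem pow_mem_lcs [Finite G] {p c : ℕ} [hp : Fact p.Prime] (hG : IsPGroup p G) [H.Normal]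
    (a : normalizer (H : Set G)) (ha : a ^ p = 1) (hc : Nat.card (centralizer {(a : G)}) ≤ c)
    {x : G} (hx : x ∈ γ H (hig p)) : x ^ p ^ (c + 1 + (hig p + 1)) ∈ γ H (hig p + 1) := by
  have hS : TT p a ^ p = 1 := by rw [← map_pow, ha, map_one]
  let I : LieIdeal (Rp p) (Lx p H) :=
    { carrier := {x | p ^ (c + 1) • x = 0}
      zero_mem' := smul_zero _
      add_mem' := fun {a b} (ha : _ • a = 0) (hb : _ • b = 0) => show _ • (a + b) = 0 by
        rw [nsmul_add, ha, hb, add_zero]
      smul_mem' := fun r a (ha : _ • a = 0) => show _ • (r • a) = 0 by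
        rw [smul_comm, ha, smul_zero]
      lie_mem := fun {a b} (hb : _ • b = 0) => show _ • ⁅a, b⁆ = 0 by
        rw [← lie_nsmul, hb, lie_zero] }
  let π : Lx p H →+ (Lx p H ⧸ I) := (LieSubmodule.Quotient.mk' I).toLinearMap.toAddMonoidHom
  have hπ : ∀ x y, π ⁅x, y⁆ = ⁅π x, π y⁆ := fun x y => LieSubmodule.Quotient.mk_bracket I x y
  have hπ0 : ∀ x, π x = 0 ↔ p ^ (c + 1) • x = 0 := fun x => LieSubmodule.Quotient.mk_eq_zero I
  have hact : ∀ ys v, π (act ys v) = act (ys.map π) (π v) := by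
    intro ys v
    induction ys with
    | nil => rfl
    | cons y ys ih => rw [act_cons, hπ, ih]; rfl
  have h1 := hkk (g := fun t : ZMod p => (eig (TT p a) t).toAddSubgroup.map π) (by
    rintro u v _ ⟨x, hx, rfl⟩ _ ⟨y, hy, rfl⟩
    exact ⟨_, closed_eig a u v x hx y hy, hπ x y⟩) (eq_bot_iff.mpr (by
    rintro _ ⟨x, hx, rfl⟩
    exact (hπ0 x).mpr (nsmul_eig_zero hG a ha hc hx)))
  have h2 : ∀ x : Lx p H, π (p • x) ∈ AddSubgroup.closure
      {x | ∃ t : ZMod p, x ∈ (eig (TT p a) t).toAddSubgroup.map π} := by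
    intro x
    rw [← sum_prj (TT p a) x, map_sum]
    refine AddSubgroup.sum_mem _ fun t _ => AddSubgroup.subset_closure ?_
    exact ⟨t, _, prj_mem_eig hS t x, rfl⟩
  refine pow_mem_of_act (p := p) (fun ys hl v => ?_) le_rfl hx
  have h3 := h1 ((ys.map (p • ·)).map π) (by
    intro y hy
    simp only [List.map_map, List.mem_map] at hy
    obtain ⟨z, -, rfl⟩ := hy
    exact h2 z) (by simpa [hig] using hl) _ (h2 v)
  rw [← hact, AddSubgroup.mem_bot, hπ0, act_nsmul, hl, smul_smul, ← pow_add] at h3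
  exact h3

/-- The bound for `p`-groups. -/
def alp (p c : ℕ) : ℕ := hig p + 1 + c ^ (p * (c + 1 + (hig p + 1)))

theorem alperin_pgroup [Finite G] {p c : ℕ} [hp : Fact p.Prime] (hG : IsPGroup p G) {a : G}
    (ha : a ^ p = 1) (hc : Nat.card (centralizer {a}) ≤ c) : der^[alp p c] (⊤ : Subgroup G) = ⊥ := by
  have := hG.isNilpotent
  set f := c ^ (p * (c + 1 + (hig p + 1))) with hf
  set H := γ (⊤ : Subgroup G) f with hH
  have haH : a ∈ normalizer (H : Set G) := normalizer_eq_top H ▸ mem_top a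
  have h1 := card_lcs_le hp.out (H := H) ⟨a, haH⟩ (Subtype.ext ha)
    (fun x hx => pow_mem_lcs hG ⟨a, haH⟩ (Subtype.ext ha) hc hx)
  have h2 := hall_bot (f := f) (γ H (hig p))
    (h1.trans (Nat.mul_le_mul_right _ (Nat.pow_le_pow_left hc _)))
  exact eq_bot_iff.mpr (der_add_le (der_le_lcs f ⊤) ((der_le_lcs _ H).trans h2.le))

theorem der_le_centralizer [Finite G] [Group.IsSolvable G] (V : Subgroup G) [V.Normal] {m : ℕ}
    (h : Nat.card V ≤ m) : der^[m.factorial] (⊤ : Subgroup G) ≤ centralizer (V : Set G) := by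
  let ρ : G →* Equiv.Perm V := (MulAut.toPerm V).comp MulAut.conjNormal
  have h1 : Nat.card ((⊤ : Subgroup G).map ρ) ≤ m.factorial := by
    refine (card_le_card_group _).trans ?_
    rw [Nat.card_perm]
    exact Nat.factorial_le h
  have := CF.Solv.isSolvable_map ρ ⊤
  have h2 := der_eq_bot_of_card _ _ h1
  rw [← map_der, Subgroup.map_eq_bot_iff] at h2
  intro g hg v hv
  have h3 := congrArg Subtype.val (DFunLike.congr_fun (MonoidHom.mem_ker.mp (h2 hg)) ⟨v, hv⟩)
  have h4 : g * v * g⁻¹ = v := h3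
  rw [mul_inv_eq_iff_eq_mul] at h4
  exact h4.symm

end CF.Fgs1.Lie
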