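import Mathlib
import Cfsg.Agent.Solv.Nilpotent
import Cfsg.Agent.Fgs2.Basic

/-! Minimal covers of a finite group by proper subgroups. -/

namespace CF.Fgs1

open Subgroup

variable {G : Type*} [Group G]

/-- `𝓐` is a cover of minimal size by proper subgroups, all of them nilpotent. -/
def IsNilMinCover (𝓐 : Finset (Subgroup G)) : Prop :=
  ((∀ A ∈ 𝓐, A ≠ ⊤) ∧ (∀ g : G, ∃ A ∈ 𝓐, g ∈ A)) ∧
    (∀ 𝓑 : Finset (Subgroup G), (∀ A ∈ 𝓑, A ≠ ⊤) ∧ (∀ g : G, ∃ A ∈ 𝓑, g ∈ A) → 𝓐.card ≤ 𝓑.card) ∧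
    (∀ A ∈ 𝓐, Group.IsNilpotent ↥A)

theorem IsNilMinCover.card_le {𝓐 : Finset (Subgroup G)} (h : IsNilMinCover 𝓐)
    {𝒮 𝒯 : Finset (Subgroup G)} (hS : 𝒮 ⊆ 𝓐) (hT : ∀ B ∈ 𝒯, B ≠ ⊤)
    (hcov : ∀ A ∈ 𝒮, ∀ g ∈ A, ∃ B ∈ 𝒯, g ∈ B) : 𝒮.card ≤ 𝒯.card := by
  classical
  have := h.2.1 ((𝓐 \ 𝒮) ∪ 𝒯) ⟨?_, ?_⟩
  · have h1 := Finset.card_union_le (𝓐 \ 𝒮) 𝒯
    have h2 := Finset.card_sdiff_add_card_eq_card hS
    omega
  · intro A hA
    rcases Finset.mem_union.1 hA with hA | hA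
    · exact h.1.1 A (Finset.mem_sdiff.1 hA).1
    · exact hT A hA
  · intro g
    obtain ⟨A, hA, hg⟩ := h.1.2 g
    by_cases hAS : A ∈ 𝒮
    · obtain ⟨B, hB, hgB⟩ := hcov A hAS g hg
      exact ⟨B, Finset.mem_union_right _ hB, hgB⟩
    · exact ⟨A, Finset.mem_union_left _ (Finset.mem_sdiff.2 ⟨hA, hAS⟩), hg⟩

theorem IsNilMinCover.eq_of_le {𝓐 : Finset (Subgroup G)} (h : IsNilMinCover 𝓐) {A B M : Subgroup G}
    (hA : A ∈ 𝓐) (hB : B ∈ 𝓐) (hM : M ≠ ⊤) (hAM : A ≤ M) (hBM : B ≤ M) : A = B := by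
  classical
  by_contra hne
  have := h.card_le (𝒮 := {A, B}) (𝒯 := {M}) (by
    intro x hx
    rcases Finset.mem_insert.1 hx with rfl | hx
    · exact hA
    · rw [Finset.mem_singleton.1 hx]; exact hB) (by simpa using hM) (by
    intro C hC g hg
    refine ⟨M, Finset.mem_singleton_self _, ?_⟩
    rcases Finset.mem_insert.1 hC with rfl | hC
    · exact hAM hg
    · rw [Finset.mem_singleton.1 hC] at hg; exact hBM hg)
  rw [Finset.card_pair hne, Finset.card_singleton] at this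
  omega

theorem IsNilMinCover.sup_eq_top {𝓐 : Finset (Subgroup G)} (h : IsNilMinCover 𝓐) {A B : Subgroup G}
    (hA : A ∈ 𝓐) (hB : B ∈ 𝓐) (hne : A ≠ B) : A ⊔ B = ⊤ := by
  by_contra hM
  exact hne (h.eq_of_le hA hB hM le_sup_left le_sup_right)

/-- A nilpotent subgroup containing a `p`-element with a unique fixed point fixes that point,
provided `p` does not divide the degree. -/
theorem smul_eq_of_nilpotent {X : Type*} [MulAction G X] [Finite X] {p k : ℕ} [Fact p.Prime]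
    (hX : ¬ p ∣ Nat.card X) {A : Subgroup G} [Finite A] [Group.IsNilpotent A] {x : G} (hxA : x ∈ A)
    (hx : x ^ p ^ k = 1) {pt : X} (hpt : ∀ y : X, x • y = y → y = pt) {a : G} (ha : a ∈ A) :
    a • pt = pt := by
  have hp : IsPGroup p (zpowers (⟨x, hxA⟩ : A)) := by
    obtain ⟨j, -, hj⟩ := (Nat.dvd_prime_pow (Fact.out : p.Prime)).1
      (orderOf_dvd_of_pow_eq_one (x := (⟨x, hxA⟩ : A)) (Subtype.ext hx))
    exact CF.Fgs2.isPGroup_zpowers_of_orderOf hj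
  have hxP : (⟨x, hxA⟩ : A) ∈ Cfsg.pCore p A :=
    CF.Solv.le_pCore_of_isNilpotent hp (mem_zpowers _)
  obtain ⟨y, hy⟩ := (CF.Solv.pCore_isPGroup (p := p) (G := A)).nonempty_fixed_point_of_prime_not_dvd_card
    X hX
  have hy' : y = pt := hpt y (hy ⟨_, hxP⟩)
  subst hy'
  apply hpt
  have hn : (Cfsg.pCore p A).Normal := inferInstance
  have h2 := hy ⟨_, hn.conj_mem' _ hxP ⟨a, ha⟩⟩
  change (a⁻¹ * x * a) • y = y at h2
  rw [mul_smul, mul_smul, inv_smul_eq_iff] at h2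
  exact h2

theorem exists_center_ne_one {A : Subgroup G} [Group.IsNilpotent A] (hA : A ≠ ⊥) :
    ∃ z ∈ A, z ≠ 1 ∧ ∀ a ∈ A, a * z = z * a := by
  have := CF.Solv.inf_centralizer_ne_bot_of_isNilpotent (H := A) (K := A) le_rfl le_normalizer hA
  obtain ⟨⟨z, hz⟩, hz1⟩ := ne_bot_iff_exists_ne_one.1 this
  exact ⟨z, hz.1, fun h => hz1 (Subtype.ext h), fun a ha => mem_centralizer_iff.1 hz.2 a ha⟩

end CF.Fgs1
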