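import Mathlib
import Cfsg.Agent.Fgs1.NilCover
import Cfsg.Agent.Classical.L2

/-! No group between `PSL₂(q)` and `PGL₂(q)`, `q ≥ 4`, has a minimal cover by nilpotent
subgroups. -/

namespace CF.Fgs1

open Subgroup CF.Classical OnePoint MulAction
open scoped MatrixGroups

theorem exists_pow_commute {G : Type*} [Group G] [Finite G] {A : Subgroup G} [Group.IsNilpotent A]
    {p k : ℕ} (hp : p.Prime) {a u : G} (ha : a ∈ A) (hu : u ∈ A) (hup : u ^ p ^ k = 1) :
    ∃ j, Commute (a ^ p ^ j) u := by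
  refine ⟨(orderOf a).factorization p,
    CF.Solv.commute_of_coprime_orderOf (A.pow_mem ha _) hu ?_⟩
  rw [orderOf_pow_of_dvd (pow_pos hp.pos _).ne' (Nat.ordProj_dvd _ _)]
  exact Nat.Coprime.coprime_dvd_right (orderOf_dvd_of_pow_eq_one hup)
    ((Nat.coprime_ordCompl hp (orderOf_pos a).ne').symm.pow_right k)

variable {F : Type*} [Field F]

theorem aff_one_fix {β : F} {y : OnePoint F} (h : aff 1 β one_ne_zero • y = y) (hy : y ≠ ∞) :
    β = 0 := by
  induction y using OnePoint.rec with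
  | infty => exact absurd rfl hy
  | coe z =>
    rw [aff_smul_coe] at h
    simpa using h

theorem aff_zero_fix {α : F} {h0 : α ≠ 0} (h1 : α ≠ 1) {y : OnePoint F} (h : aff α 0 h0 • y = y) :
    y = ∞ ∨ y = ((0 : F) : OnePoint F) := by
  induction y using OnePoint.rec with
  | infty => exact Or.inl rfl
  | coe z =>
    right
    rw [aff_smul_coe] at h
    have h2 : α * z = z := by simpa using h
    have : (α - 1) * z = 0 := by linear_combination h2
    rcases mul_eq_zero.1 this with h3 | h3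
    · exact absurd (sub_eq_zero.1 h3) h1
    · rw [h3]

theorem eq_aff_one_of_commute {p j : ℕ} [Fact p.Prime] [CharP F p] {a : PGL(2, F)}
    (ha : a • (∞ : OnePoint F) = ∞) (hc : Commute (a ^ p ^ j) (aff 1 1 one_ne_zero)) :
    ∃ β : F, a = aff 1 β one_ne_zero := by
  obtain ⟨α, β, h, rfl⟩ := smul_infty_eq_infty_iff.1 ha
  obtain ⟨β', hβ'⟩ := aff_pow α β h (p ^ j)
  rw [hβ'] at hc
  have := hc.eq
  rw [aff_mul, aff_mul, aff_eq_aff_iff] at this
  have h1 : α ^ p ^ j = 1 := by linear_combination this.2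
  have h2 : α = 1 := by
    have : (α - 1) ^ p ^ j = 0 := by rw [sub_pow_char_pow, h1, one_pow, sub_self]
    exact sub_eq_zero.1 (pow_eq_zero_iff (pow_pos (Fact.out : p.Prime).pos j).ne' |>.1 this)
  subst h2
  exact ⟨β, rfl⟩

theorem swap_eq {s : PGL(2, F)} (h1 : s • (∞ : OnePoint F) = ((0 : F) : OnePoint F))
    (h2 : s • ((0 : F) : OnePoint F) = ∞) :
    ∃ (b c : F) (h : 0 * 0 - b * c ≠ 0), s = pgl 0 b c 0 h := by
  obtain ⟨a, b, c, d, h, rfl⟩ := exists_pgl s
  rw [pgl_smul_infty_eq_coe] at h1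
  rw [pgl_smul_coe_eq_infty] at h2
  have ha : a = 0 := by simpa using h1.symm
  have hd : d = 0 := by simpa using h2
  subst ha hd
  exact ⟨b, c, h, rfl⟩

theorem exists_fixed_of_swap (hsq : IsSquare (-1 : F)) {s : PGL(2, F)} (hs : s ∈ psl F)
    {x y : OnePoint F} (hxy : x ≠ y) (h1 : s • x = y) (h2 : s • y = x) : ∃ w : OnePoint F, s • w = w := by
  obtain ⟨g, rfl, rfl⟩ := exists_smul_two x y hxy
  have hs' : g⁻¹ * s * g ∈ psl F := (instNormalPsl (F := F)).conj_mem' s hs g
  obtain ⟨b, c, h, hbc⟩ := swap_eq (s := g⁻¹ * s * g) (by rw [mul_smul, mul_smul, h1, inv_smul_smul])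
    (by rw [mul_smul, mul_smul, h2, inv_smul_smul])
  rw [hbc, pgl_mem_psl] at hs'
  obtain ⟨r, hr⟩ := hs'
  obtain ⟨i, hi⟩ := hsq
  have hc : c ≠ 0 := by rintro rfl; simp at h
  have : (g⁻¹ * s * g) • ((i * r / c : F) : OnePoint F) = ((i * r / c : F) : OnePoint F) := by
    rw [hbc, pgl_smul_coe_eq_coe]
    simp only [Algebra.algebraMap_self, RingHom.id_apply]
    field_simp
    linear_combination (-r ^ 2) * hi + hr
  refine ⟨g • ((i * r / c : F) : OnePoint F), ?_⟩
  rw [mul_smul, mul_smul, inv_smul_eq_iff] at this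
  exact this

theorem swap_mul_self {s : PGL(2, F)} (h1 : s • (∞ : OnePoint F) = ((0 : F) : OnePoint F))
    (h2 : s • ((0 : F) : OnePoint F) = ∞) : s * s = 1 := by
  obtain ⟨b, c, h, rfl⟩ := swap_eq h1 h2
  rw [pgl_mul, pgl_eq_one_iff]
  refine ⟨by ring, by ring, by ring⟩

theorem sq_eq_one_of_swap_commute {s : PGL(2, F)}
    (h1 : s • (∞ : OnePoint F) = ((0 : F) : OnePoint F))
    (h2 : s • ((0 : F) : OnePoint F) = ∞) {α : F} {h0 : α ≠ 0}
    (hc : s * aff α 0 h0 = aff α 0 h0 * s) : α * α = 1 := by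
  obtain ⟨b, c, h, rfl⟩ := swap_eq h1 h2
  unfold aff at hc
  rw [pgl_mul, pgl_mul, pgl_eq_pgl_iff] at hc
  obtain ⟨u, -, e1, e2, -⟩ := hc
  have hb : b ≠ 0 := by rintro rfl; simp at h
  have hc : c ≠ 0 := by rintro rfl; simp at h
  have e3 : α = u := mul_right_cancel₀ hb (by linear_combination e1)
  subst e3
  exact mul_right_cancel₀ hc (by linear_combination -e2)

theorem odd_orderOf_aff [Finite F] (hns : ¬ IsSquare (-1 : F)) {c : F} (h0 : c * c ≠ 0) :
    Odd (orderOf (aff (c * c) 0 h0)) := by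
  haveI : Finite PGL(2, F) := Finite.of_surjective _ Matrix.ProjGenLinGroup.mk_surjective
  rw [← Nat.not_even_iff_odd]
  rintro ⟨m, hm⟩
  have hpos := orderOf_pos (aff (c * c) 0 h0)
  have h1 := pow_orderOf_eq_one (aff (c * c) 0 h0)
  rw [aff_zero_pow, aff_eq_one_iff, hm] at h1
  have h2 : aff (c * c) 0 h0 ^ m ≠ 1 := pow_ne_one_of_lt_orderOf (by omega) (by omega)
  rw [aff_zero_pow, Ne, aff_eq_one_iff] at h2
  have h3 : ((c * c) ^ m - 1) * ((c * c) ^ m + 1) = 0 := by
    have := h1.1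
    rw [pow_add] at this
    linear_combination this
  rcases mul_eq_zero.1 h3 with h | h
  · exact h2 ⟨sub_eq_zero.1 h, rfl⟩
  · exact hns ⟨c ^ m, by rw [← mul_pow]; linear_combination -h⟩

theorem not_nilMinCover_L2 [Fintype F] (hq : 4 ≤ Fintype.card F) (G : Subgroup PGL(2, F))
    (hG : psl F ≤ G) (𝓐 : Finset (Subgroup G)) : ¬ IsNilMinCover 𝓐 := by
  classical
  intro h
  haveI : Finite PGL(2, F) := Finite.of_surjective _ Matrix.ProjGenLinGroup.mk_surjective
  obtain ⟨p, hchar, n, hp, hn⟩ := FiniteField.card' F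
  haveI := Fact.mk hp
  have hX : ¬ p ∣ Nat.card (OnePoint F) := by
    have : Nat.card (OnePoint F) = Fintype.card F + 1 := by
      change Nat.card (Option F) = _
      rw [Finite.card_option, Nat.card_eq_fintype_card]
    rw [this, hn]
    intro hd
    exact hp.one_lt.ne' (Nat.dvd_one.1 ((Nat.dvd_add_right (dvd_pow_self p n.ne_zero)).1 hd))
  choose g hg using exists_smul_infty_eq (F := F)
  let u : OnePoint F → G := fun x => ⟨g x * aff 1 1 one_ne_zero * (g x)⁻¹,
    hG ((instNormalPsl (F := F)).conj_mem _ (aff_one_mem_psl 1) _)⟩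
  have hup : ∀ x, u x ^ p ^ 1 = 1 := by
    intro x
    apply Subtype.ext
    simp only [u, pow_one, SubmonoidClass.coe_pow, conj_pow, aff_one_pow, CharP.cast_eq_zero,
      zero_mul, aff_one_zero, mul_one, mul_inv_cancel, OneMemClass.coe_one]
  have hufix : ∀ x y, u x • y = y → y = x := by
    intro x y hy
    change (g x * aff 1 1 one_ne_zero * (g x)⁻¹) • y = y at hy
    rw [mul_smul, mul_smul, ← eq_inv_smul_iff] at hy
    by_contra hne
    refine one_ne_zero (aff_one_fix hy fun h => hne ?_)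
    rw [inv_smul_eq_iff, hg] at h
    exact h
  choose A hA huA using fun x => h.1.2 (u x)
  have hAfix : ∀ B ∈ 𝓐, ∀ x, u x ∈ B → ∀ a ∈ B, a • x = x := by
    intro B hB x hx a ha
    haveI := h.2.2 B hB
    exact smul_eq_of_nilpotent hX hx (hup x) (hufix x) ha
  have hAaff : ∀ B ∈ 𝓐, ∀ x, u x ∈ B → ∀ a ∈ B,
      ∃ β : F, (g x)⁻¹ * (a : PGL(2, F)) * g x = aff 1 β one_ne_zero := by
    intro B hB x hx a ha
    haveI := h.2.2 B hB
    obtain ⟨j, hj⟩ := exists_pow_commute hp ha hx (hup x)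
    refine eq_aff_one_of_commute (p := p) (j := j) ?_ ?_
    · have := hAfix B hB x hx a ha
      rw [mul_smul, mul_smul, hg, inv_smul_eq_iff, hg]
      exact this
    · have h1 : (a : PGL(2, F)) ^ p ^ j * (g x * aff 1 1 one_ne_zero * (g x)⁻¹) =
          (g x * aff 1 1 one_ne_zero * (g x)⁻¹) * (a : PGL(2, F)) ^ p ^ j :=
        congrArg Subtype.val hj.eq
      have h2 : ((g x)⁻¹ * (a : PGL(2, F)) * g x) ^ p ^ j =
          (g x)⁻¹ * (a : PGL(2, F)) ^ p ^ j * g x := by
        have := conj_pow (a := (g x)⁻¹) (b := (a : PGL(2, F))) (i := p ^ j)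
        rwa [inv_inv] at this
      rw [h2]
      change _ * _ = _ * _
      calc (g x)⁻¹ * (a : PGL(2, F)) ^ p ^ j * g x * aff 1 1 one_ne_zero =
            (g x)⁻¹ * ((a : PGL(2, F)) ^ p ^ j * (g x * aff 1 1 one_ne_zero * (g x)⁻¹)) * g x := by
            group
        _ = _ := by rw [h1]; group
  have hAinj : Function.Injective A := by
    intro x y hxy
    exact hufix y x (hAfix _ (hA x) x (huA x) (u y) (hxy ▸ huA y))
  have h0inf : (∞ : OnePoint F) ≠ ((0 : F) : OnePoint F) := infty_ne_coe 0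
  by_cases hGS : G ≤ psl F
  swap
  · have hne : (psl F).subgroupOf G ≠ ⊤ := by rwa [Ne, subgroupOf_eq_top]
    have hle : ∀ x, A x ≤ (psl F).subgroupOf G := by
      intro x a ha
      obtain ⟨β, hβ⟩ := hAaff _ (hA x) x (huA x) a ha
      have := (instNormalPsl (F := F)).conj_mem _ (aff_one_mem_psl β) (g x)
      rw [← hβ] at this
      simpa [mul_assoc, mem_subgroupOf] using this
    exact h0inf (hAinj (h.eq_of_le (hA _) (hA _) hne (hle _) (hle _)))
  -- the element of the split torus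
  obtain ⟨c, hc0, hc1, hc2⟩ : ∃ c : F, c ≠ 0 ∧ c ≠ 1 ∧ c ≠ -1 := by
    by_contra hc
    push Not at hc
    have : (Finset.univ : Finset F) ⊆ {0, 1, -1} := by
      intro c _
      by_cases h0 : c = 0
      · simp [h0]
      by_cases h1 : c = 1
      · simp [h1]
      simp [hc c h0 h1]
    have h1 := Finset.card_le_card this
    have h2 : ({0, 1, -1} : Finset F).card ≤ 3 := Finset.card_le_three
    rw [Finset.card_univ] at h1
    omega
  have hα0 : c * c ≠ 0 := mul_ne_zero hc0 hc0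
  have hα1 : c * c ≠ 1 := fun h => by
    rcases mul_self_eq_one_iff.1 h with h | h
    exacts [hc1 h, hc2 h]
  let y : G := ⟨aff (c * c) 0 hα0, hG (aff_mem_psl.2 ⟨c, rfl⟩)⟩
  have hy1 : y ≠ 1 := fun h => hα1 ((aff_eq_one_iff (h := hα0)).1 (congrArg Subtype.val h)).1
  have hyinf : y • (∞ : OnePoint F) = ∞ := aff_smul_infty _ _ hα0
  have hy0 : y • ((0 : F) : OnePoint F) = ((0 : F) : OnePoint F) := by
    change aff (c * c) 0 hα0 • ((0 : F) : OnePoint F) = _
    rw [aff_smul_coe]; simp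
  have hyfix : ∀ w : OnePoint F, y • w = w → w = ∞ ∨ w = ((0 : F) : OnePoint F) := fun w hw =>
    aff_zero_fix (h0 := hα0) hα1 hw
  obtain ⟨B, hB, hyB⟩ := h.1.2 y
  haveI := h.2.2 B hB
  have hBA : ∀ x, B ≠ A x := by
    intro x hx
    obtain ⟨β, hβ⟩ := hAaff B hB x (hx ▸ huA x) y hyB
    have key : ∀ w : OnePoint F, y • w = w → w ≠ x → False := by
      intro w hw hwx
      have h1 : aff 1 β one_ne_zero • ((g x)⁻¹ • w) = (g x)⁻¹ • w := by
        rw [← hβ, mul_smul, mul_smul, smul_inv_smul]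
        exact congrArg _ hw
      have h2 := aff_one_fix h1 (fun h => hwx (by rw [inv_smul_eq_iff, hg] at h; exact h))
      rw [h2, aff_one_zero] at hβ
      apply hy1
      apply Subtype.ext
      calc (y : PGL(2, F)) = g x * ((g x)⁻¹ * y * g x) * (g x)⁻¹ := by group
        _ = 1 := by rw [hβ]; group
    by_cases hx' : x = ∞
    · exact key _ hy0 (hx' ▸ h0inf.symm)
    · exact key _ hyinf (Ne.symm hx')
  obtain ⟨z, hzB, hz1, hz⟩ := exists_center_ne_one (A := B) (by
    rintro rfl; exact hy1 (mem_bot.1 hyB))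
  have hcomm : ∀ a b : G, a * b = b * a → ∀ w : OnePoint F, b • w = w → b • a • w = a • w := by
    intro a b hab w hw
    rw [← mul_smul, ← hab, mul_smul, hw]
  have hthree : ∀ w₁ w₂ w₃ : OnePoint F, z • w₁ = w₁ → z • w₂ = w₂ → z • w₃ = w₃ → w₁ ≠ w₂ →
      w₃ = w₁ ∨ w₃ = w₂ := by
    intro w₁ w₂ w₃ h1 h2 h3 h12
    by_contra hc
    push Not at hc
    exact hz1 (Subtype.ext (pgl_eq_one_of_three (z : PGL(2, F)) w₁ w₂ w₃ h12 hc.1.symm hc.2.symm
      h1 h2 h3))
  have hzcases : (z • (∞ : OnePoint F) = ∞ ∧ z • ((0 : F) : OnePoint F) = ((0 : F) : OnePoint F)) ∨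
      (z • (∞ : OnePoint F) = ((0 : F) : OnePoint F) ∧ z • ((0 : F) : OnePoint F) = ∞) := by
    have e1 := hyfix _ (hcomm z y (hz y hyB).symm _ hyinf)
    have e2 := hyfix _ (hcomm z y (hz y hyB).symm _ hy0)
    have hne : z • (∞ : OnePoint F) ≠ z • ((0 : F) : OnePoint F) := fun h =>
      h0inf (smul_left_cancel z h)
    rcases e1 with e1 | e1 <;> rcases e2 with e2 | e2
    · exact absurd (e1.trans e2.symm) hne
    · exact Or.inl ⟨e1, e2⟩
    · exact Or.inr ⟨e1, e2⟩
    · exact absurd (e1.trans e2.symm) hne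
  have hBfix : ∀ a ∈ B, ∃ w : OnePoint F, a • w = w := by
    intro a ha
    by_cases hsq : IsSquare (-1 : F)
    · obtain ⟨w, hw⟩ : ∃ w : OnePoint F, z • w = w := by
        rcases hzcases with h1 | h1
        · exact ⟨_, h1.1⟩
        · exact exists_fixed_of_swap hsq (hGS z.2) h0inf h1.1 h1.2
      by_cases haw : a • w = w
      · exact ⟨w, haw⟩
      have h1 := hcomm a z (hz a ha) w hw
      have h2 := hcomm a z (hz a ha) _ h1
      rcases hthree _ _ _ hw h1 h2 (Ne.symm haw) with h3 | h3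
      · exact exists_fixed_of_swap hsq (hGS a.2) (Ne.symm haw) rfl h3
      · exact absurd (smul_left_cancel a h3) haw
    · have hsw : ∀ s : G, s • (∞ : OnePoint F) = ((0 : F) : OnePoint F) →
          s • ((0 : F) : OnePoint F) = ∞ → s * y = y * s → False := by
        intro s h1 h2 h3
        have := sq_eq_one_of_swap_commute h1 h2 (h0 := hα0) (congrArg Subtype.val h3)
        rcases mul_self_eq_one_iff.1 this with h4 | h4
        · exact hα1 h4
        · exact hsq ⟨c, h4.symm⟩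
      rcases hzcases with h1 | h1
      · by_cases hainf : a • (∞ : OnePoint F) = ∞
        · exact ⟨_, hainf⟩
        exfalso
        have e1 := (hthree _ _ _ h1.1 h1.2 (hcomm a z (hz a ha) _ h1.1) h0inf).resolve_left hainf
        have e2 := (hthree _ _ _ h1.1 h1.2 (hcomm a z (hz a ha) _ h1.2) h0inf).resolve_right
          (fun h => h0inf (smul_left_cancel a (e1.trans h.symm)))
        refine hsw a e1 e2 (CF.Solv.commute_of_coprime_orderOf ha hyB ?_).eq
        have ha2 : orderOf a ∣ 2 := orderOf_dvd_of_pow_eq_one (by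
          rw [pow_two]; exact Subtype.ext (swap_mul_self e1 e2))
        refine Nat.Coprime.coprime_dvd_left ha2 (Nat.coprime_two_left.2 ?_)
        rw [← Subgroup.orderOf_coe]
        exact odd_orderOf_aff hsq hα0
      · exact (hsw z h1.1 h1.2 (hz y hyB).symm).elim
  haveI : Fintype (OnePoint F) := Fintype.ofFinite _
  have := h.card_le (𝒮 := insert B (Finset.univ.image A))
    (𝒯 := Finset.univ.image fun x : OnePoint F => stabilizer G x) ?_ ?_ ?_
  · rw [Finset.card_insert_of_notMem (by simpa using fun x => (hBA x).symm),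
      Finset.card_image_of_injective _ hAinj] at this
    have h2 := Finset.card_image_le (s := Finset.univ) (f := fun x : OnePoint F => stabilizer G x)
    omega
  · intro C hC
    rcases Finset.mem_insert.1 hC with rfl | hC
    · exact hB
    · obtain ⟨x, -, rfl⟩ := Finset.mem_image.1 hC
      exact hA x
  · intro C hC
    obtain ⟨x, -, rfl⟩ := Finset.mem_image.1 hC
    intro htop
    have h1 : ∀ w, x = w := fun w => hufix w x (mem_stabilizer_iff.1 (htop ▸ mem_top (u w)))
    exact h0inf ((h1 _).symm.trans (h1 _))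
  · intro C hC a ha
    rcases Finset.mem_insert.1 hC with rfl | hC
    · obtain ⟨w, hw⟩ := hBfix a ha
      exact ⟨_, Finset.mem_image_of_mem _ (Finset.mem_univ w), hw⟩
    · obtain ⟨x, -, rfl⟩ := Finset.mem_image.1 hC
      exact ⟨_, Finset.mem_image_of_mem _ (Finset.mem_univ x), hAfix _ (hA x) x (huA x) a ha⟩

end CF.Fgs1
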