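import Cfsg.Agent.Transfer.Frobenius
import Cfsg.Agent.Fgs1.PCentral
import Cfsg.Agent.Fgs2.Count

/-!
# The number of classes of `p`-elements
-/

namespace CF.Fgs1
open Subgroup CF.Transfer Cfsg

variable {G : Type*} [Group G] [Finite G] {p : ℕ} [hp : Fact p.Prime]

/-- number of classes of `p`-elements -/
noncomputable def kp (p : ℕ) (G : Type*) [Group G] : ℕ :=
  Nat.card {c : ConjClasses G // ∀ x ∈ c.carrier, ∃ k : ℕ, orderOf x = p ^ k}

omit [Finite G] in
theorem orderOf_eq_of_isConj {x y : G} (h : IsConj x y) : orderOf x = orderOf y := by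
  obtain ⟨c, rfl⟩ := isConj_iff.1 h
  exact ((MulAut.conj c).orderOf_eq x).symm

theorem kp_eq_ncard (P : Sylow p G) :
    kp p G = (ConjClasses.mk '' ((P : Subgroup G) : Set G)).ncard := by
  rw [kp, ← Nat.card_coe_set_eq]
  refine Nat.card_congr (Equiv.subtypeEquivRight fun c => ?_)
  obtain ⟨x, rfl⟩ := ConjClasses.mk_surjective c
  constructor
  · intro h
    obtain ⟨k, hk⟩ := h x ConjClasses.mem_carrier_mk
    obtain ⟨g, -, hg⟩ := (isSylowIn_top P).exists_cj_le (isPGroup_zpowers hk) le_top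
    exact ⟨_, hg (conj_mem_cj (mem_zpowers x)),
      ConjClasses.mk_eq_mk_iff_isConj.2 (isConj_iff.2 ⟨g, rfl⟩).symm⟩
  · rintro ⟨y, hy, h⟩ z hz
    rw [ConjClasses.mem_carrier_iff_mk_eq, ← h, ConjClasses.mk_eq_mk_iff_isConj] at hz
    rw [orderOf_eq_of_isConj hz]
    exact orderOf_eq_pow_of_mem P.isPGroup' hy

theorem mul_ncard_image_le {α β : Type*} (f : α → β) {s : Set α} (hs : s.Finite) (n : ℕ)
    (h : ∀ a ∈ s, n ≤ {b | b ∈ s ∧ f b = f a}.ncard) : n * (f '' s).ncard ≤ s.ncard := by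
  classical
  lift s to Finset α using hs
  rw [← Finset.coe_image, Set.ncard_coe_finset, Set.ncard_coe_finset]
  refine Finset.mul_card_image_le_card s n fun b hb => ?_
  obtain ⟨a, ha, rfl⟩ := Finset.mem_image.1 hb
  refine (h a ha).trans_eq ?_
  rw [← Set.ncard_coe_finset]
  congr 1
  ext b; simp

omit hp in
theorem ncard_coe_subgroup (H : Subgroup G) : (H : Set G).ncard = Nat.card H :=
  (Nat.card_coe_set_eq _).symm

/-- If `Z ≤ P` and all the elements outside `Z` have `n` conjugates outside `Z`. -/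
theorem kp_le_of_fibers (P : Sylow p G) {Z : Subgroup G} (hZ : Z ≤ P) (n : ℕ)
    (h : ∀ a ∈ (P : Subgroup G), a ∉ Z →
      n ≤ {b | (b ∈ (P : Subgroup G) ∧ b ∉ Z) ∧ IsConj b a}.ncard) :
    n * kp p G + Nat.card Z ≤ n * Nat.card Z + Nat.card P := by
  rw [kp_eq_ncard P]
  have h1 : ((P : Subgroup G) : Set G) = (Z : Set G) ∪ ((P : Subgroup G) \ Z) :=
    (Set.union_diff_cancel hZ).symm
  have h2 := mul_ncard_image_le (ConjClasses.mk (α := G)) (s := ((P : Subgroup G) : Set G) \ Z)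
    (Set.toFinite _) n fun a ha => by
      simp only [ConjClasses.mk_eq_mk_iff_isConj]
      exact h a ha.1 ha.2
  have h3 : (ConjClasses.mk '' ((P : Subgroup G) : Set G)).ncard ≤
      Nat.card Z + (ConjClasses.mk '' (((P : Subgroup G) : Set G) \ Z)).ncard := by
    conv_lhs => rw [h1]
    rw [Set.image_union]
    refine (Set.ncard_union_le _ _).trans (Nat.add_le_add_right ?_ _)
    rw [← ncard_coe_subgroup]
    exact Set.ncard_image_le (Set.toFinite _)
  have h4 : (((P : Subgroup G) : Set G) \ Z).ncard + Nat.card Z = Nat.card P := by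
    rw [← ncard_coe_subgroup, Set.ncard_diff_add_ncard_of_subset hZ (Set.toFinite _),
      ncard_coe_subgroup]
  have := Nat.mul_le_mul_left n h3
  rw [mul_add] at this
  omega

theorem mul_card_le_of_lt {P Z : Subgroup G} (hP : IsPGroup p P) (h : Z < P) :
    p * Nat.card Z ≤ Nat.card P := by
  rw [← CF.Transfer.card_mul_relIndex h.le, mul_comm]
  refine Nat.mul_le_mul_left _ (Nat.le_of_dvd (Nat.pos_of_ne_zero (relIndex_ne_zero' _ _)) ?_)
  exact dvd_relIndex_of_not_le hP (not_le_of_gt h)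

theorem normalizer_le_centralizer_of_kp (P : Sylow p G)
    (h : (p + 1) * Nat.card P < 2 * p * kp p G) :
    normalizer ((P : Subgroup G) : Set G) ≤ centralizer ((P : Subgroup G) : Set G) := by
  intro g hg
  by_contra hc
  set Z := (P : Subgroup G) ⊓ centralizer ({g} : Set G)
  have hlt : Z < P := lt_of_le_of_ne inf_le_left fun he => hc (by
    rw [mem_centralizer_iff]
    intro y hy
    exact mem_centralizer_singleton_iff.1 (he.ge hy).2)
  have h1 := kp_le_of_fibers P hlt.le 2 fun a ha haZ => by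
    have hne : g * a * g⁻¹ ≠ a := fun he => haZ (mem_inf.mpr ⟨ha, by
      rw [mem_centralizer_singleton_iff]; exact (mul_inv_eq_iff_eq_mul.1 he).symm⟩)
    rw [← Set.ncard_pair hne]
    refine Set.ncard_le_ncard ?_ (Set.toFinite _)
    rintro b (rfl | rfl)
    · refine ⟨⟨CF.Transfer.conj_mem_of_mem_normalizer hg ha, fun hz => hne ?_⟩,
        (isConj_iff.2 ⟨g, rfl⟩).symm⟩
      have := mem_centralizer_singleton_iff.1 hz.2
      have h2 : g * (a * g) * g⁻¹ = g * (g * a) * g⁻¹ := by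
        rw [show g * (g * a) * g⁻¹ = g * (g * a * g⁻¹) by group, ← this]; group
      have h3 : a * g = g * a := by simpa using h2
      rw [← h3]; simp
    · exact ⟨⟨ha, haZ⟩, IsConj.refl _⟩
  have h2 := mul_card_le_of_lt P.isPGroup' hlt
  nlinarith

theorem kp_eq_card_of_npc (P : Sylow p G) (h : HasNormalPComplement p G) :
    kp p G = Nat.card (ConjClasses (P : Subgroup G)) := by
  rw [kp_eq_ncard P, ← Nat.card_coe_set_eq]
  symm
  refine Nat.card_congr (Equiv.ofBijective (fun c => ⟨ConjClasses.map (P : Subgroup G).subtype c, ?_⟩)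
    ⟨?_, ?_⟩)
  · obtain ⟨x, rfl⟩ := ConjClasses.mk_surjective c
    exact ⟨x, x.2, rfl⟩
  · intro c d hcd
    obtain ⟨x, rfl⟩ := ConjClasses.mk_surjective c
    obtain ⟨y, rfl⟩ := ConjClasses.mk_surjective d
    have h1 : IsConj (x : G) y := ConjClasses.mk_eq_mk_iff_isConj.1 (congrArg Subtype.val hcd)
    obtain ⟨g, hg⟩ := isConj_iff.1 h1
    obtain ⟨s, hs, hs'⟩ := (hasNPC_iff_controls_fusion P).1 h x x.2 g (hg ▸ y.2)
    exact ConjClasses.mk_eq_mk_iff_isConj.2 (isConj_iff.2 ⟨⟨s, hs⟩, Subtype.ext (hs'.trans hg)⟩)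
  · rintro ⟨_, x, hx, rfl⟩
    exact ⟨ConjClasses.mk ⟨x, hx⟩, rfl⟩

theorem kp_le_card (P : Sylow p G) : kp p G ≤ Nat.card (ConjClasses (P : Subgroup G)) := by
  rw [kp_eq_ncard P, ← Nat.card_coe_set_eq]
  refine Nat.card_le_card_of_surjective
    (fun c : ConjClasses (P : Subgroup G) => ⟨ConjClasses.map (P : Subgroup G).subtype c, ?_⟩) ?_
  · obtain ⟨x, rfl⟩ := ConjClasses.mk_surjective c
    exact ⟨x, x.2, rfl⟩
  · rintro ⟨_, x, hx, rfl⟩
    exact ⟨ConjClasses.mk ⟨x, hx⟩, rfl⟩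

theorem card_conjClasses_of_comm {H : Type*} [Group H] (h : IsMulCommutative H) :
    Nat.card (ConjClasses H) = Nat.card H := by
  symm
  refine Nat.card_congr (Equiv.ofBijective ConjClasses.mk ⟨fun a b hab => ?_, ConjClasses.mk_surjective⟩)
  obtain ⟨c, rfl⟩ := isConj_iff.1 (ConjClasses.mk_eq_mk_iff_isConj.1 hab)
  rw [h.1.1 c a]; simp

theorem npc_comm_of_kp (P : Sylow p G) (h : (p + 1) * Nat.card P < 2 * p * kp p G) :
    HasNormalPComplement p G ∧ IsMulCommutative (P : Subgroup G) := by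
  have h1 := normalizer_le_centralizer_of_kp P h
  refine ⟨burnside_hasNPC P h1, isMulCommutative_of_forall fun a ha b hb => ?_⟩
  exact (mem_centralizer_iff.1 (h1 (le_normalizer hb))) a ha

/-- the elements of `P` that are fused to no other element of `P` -/
theorem exists_fusion_center (P : Sylow p G) :
    ∃ W : Subgroup G, (∀ w, w ∈ W ↔ w ∈ (P : Subgroup G) ∧
        ∀ g : G, g * w * g⁻¹ ∈ (P : Subgroup G) → g * w * g⁻¹ = w) ∧
      ∀ x ∈ (P : Subgroup G), ∀ g : G, g * x * g⁻¹ ∈ (P : Subgroup G) →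
        ∀ w ∈ W, ∃ n : G, n * x * n⁻¹ = g * x * g⁻¹ ∧ n * w * n⁻¹ = w := by
  have key : ∀ x ∈ (P : Subgroup G), ∀ g : G, g * x * g⁻¹ ∈ (P : Subgroup G) →
      ∀ w ∈ (P : Subgroup G), (∀ g : G, g * w * g⁻¹ ∈ (P : Subgroup G) → g * w * g⁻¹ = w) →
        ∃ n : G, n * x * n⁻¹ = g * x * g⁻¹ ∧ n * w * n⁻¹ = w := by
    intro x hx g hg w hw hw'
    have hwc : ∀ y ∈ (P : Subgroup G), w * y = y * w := fun y hy =>
      (mul_inv_eq_iff_eq_mul.1 (hw' y (mul_mem (mul_mem hy hw) (inv_mem hy)))).symm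
    have hwp : IsPGroup p (zpowers w) := P.isPGroup'.to_le (by rwa [zpowers_le])
    have h1 : zpowers w ≤ centralizer ({g * x * g⁻¹} : Set G) := by
      rw [zpowers_le, mem_centralizer_singleton_iff]; exact hwc _ hg
    have h2 : cj g (zpowers w) ≤ centralizer ({g * x * g⁻¹} : Set G) := by
      rw [cj_zpowers, zpowers_le, mem_centralizer_singleton_iff]
      rw [show g * w * g⁻¹ * (g * x * g⁻¹) = g * (w * x) * g⁻¹ by group, hwc x hx]; group
    obtain ⟨U, hU1, hU⟩ := exists_isSylowIn_ge hwp h1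
    obtain ⟨c, hc, hcU⟩ := hU.exists_cj_le (isPGroup_cj hwp g) h2
    rw [cj_cj] at hcU
    obtain ⟨k, -, hk⟩ := (isSylowIn_top P).exists_cj_le (isSylowIn_iff.1 hU).2.1 le_top
    have e1 := hw' k (hk (conj_mem_cj (hU1 (mem_zpowers w))))
    have e2 := hw' (k * (c * g)) (by
      have := hk (conj_mem_cj (g := k) (hcU (conj_mem_cj (mem_zpowers w))))
      simpa [mul_assoc] using this)
    refine ⟨c * g, ?_, ?_⟩
    · have := mem_centralizer_singleton_iff.1 hc
      calc c * g * x * (c * g)⁻¹ = c * (g * x * g⁻¹) * c⁻¹ := by group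
        _ = g * x * g⁻¹ := by rw [this]; group
    · have : k * (c * g * w * (c * g)⁻¹) * k⁻¹ = k * w * k⁻¹ := by
        rw [e1]; conv_rhs => rw [← e2]
        group
      simpa using this
  refine ⟨{ carrier := {w | w ∈ (P : Subgroup G) ∧
              ∀ g : G, g * w * g⁻¹ ∈ (P : Subgroup G) → g * w * g⁻¹ = w}
            one_mem' := ⟨one_mem _, by simp⟩
            mul_mem' := ?_
            inv_mem' := ?_ }, fun w => Iff.rfl, fun x hx g hg w hw => key x hx g hg w hw.1 hw.2⟩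
  · rintro a b ⟨ha, ha'⟩ ⟨hb, hb'⟩
    refine ⟨mul_mem ha hb, fun g hg => ?_⟩
    obtain ⟨n, h1, h2⟩ := key _ (mul_mem ha hb) g hg b hb hb'
    have h3 : n * a * n⁻¹ = g * (a * b) * g⁻¹ * b⁻¹ := by
      calc n * a * n⁻¹ = n * (a * b) * n⁻¹ * (n * b * n⁻¹)⁻¹ := by group
        _ = _ := by rw [h1, h2]
    have h4 := ha' n (h3 ▸ mul_mem hg (inv_mem hb))
    rw [h3] at h4
    exact mul_inv_eq_iff_eq_mul.1 h4
  · rintro a ⟨ha, ha'⟩
    refine ⟨inv_mem ha, fun g hg => ?_⟩
    have e : g * a⁻¹ * g⁻¹ = (g * a * g⁻¹)⁻¹ := by group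
    rw [e] at hg ⊢
    rw [ha' g ((inv_mem_iff).1 hg)]

theorem npc_of_kp_two (P : Sylow 2 G) (h : Nat.card P < 2 * kp 2 G) :
    HasNormalPComplement 2 G := by
  by_contra hn
  obtain ⟨Q, hQP, q, g, hq, hq2, ⟨k, hk⟩, hgN, hgC⟩ := exists_qElt_not_centralize hn P
  obtain ⟨W, hW, hW'⟩ := exists_fusion_center P
  have hWP : W ≤ P := fun w hw => ((hW w).1 hw).1
  have hodd : Odd (orderOf g) := hk ▸ (hq.odd_of_ne_two hq2).pow
  -- moved elements are not moved inside their `W`-coset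
  have key : ∀ g' : G, g' ∈ normalizer (Q : Set G) → Odd (orderOf g') → ∀ x ∈ Q,
      x⁻¹ * (g' * x * g'⁻¹) ∈ W → g' * x * g'⁻¹ = x := by
    intro g' hg' ho x hx hw
    set w := x⁻¹ * (g' * x * g'⁻¹) with hwd
    have hwQ : w ∈ Q := mul_mem (inv_mem hx) (CF.Transfer.conj_mem_of_mem_normalizer hg' hx)
    have h1 : g' * w * g'⁻¹ = w :=
      ((hW w).1 hw).2 g' (hQP (CF.Transfer.conj_mem_of_mem_normalizer hg' hwQ))
    have h2 : ∀ i : ℕ, g' ^ i * x * (g' ^ i)⁻¹ = x * w ^ i := by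
      intro i
      induction i with
      | zero => simp
      | succ i ih =>
        have e : g' * w ^ i * g'⁻¹ = w ^ i := by rw [← conj_pow, h1]
        calc g' ^ (i + 1) * x * (g' ^ (i + 1))⁻¹ = g' * (g' ^ i * x * (g' ^ i)⁻¹) * g'⁻¹ := by group
          _ = (g' * x * g'⁻¹) * (g' * w ^ i * g'⁻¹) := by rw [ih]; group
          _ = x * w * w ^ i := by rw [e, hwd]; group
          _ = _ := by group
    have h3 := h2 (orderOf g')
    rw [pow_orderOf_eq_one] at h3
    have h4 : w ^ orderOf g' = 1 := by simpa using h3.symm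
    obtain ⟨j, hj⟩ := orderOf_eq_pow_of_mem P.isPGroup' (hQP hwQ)
    have h5 : orderOf w = 1 := by
      refine Nat.Coprime.eq_one_of_dvd ?_ (orderOf_dvd_of_pow_eq_one h4)
      rw [hj]
      exact Nat.Coprime.pow_left _ (Nat.coprime_two_left.2 ho)
    have h6 : w = 1 := orderOf_eq_one_iff.1 h5
    rw [hwd, inv_mul_eq_one] at h6
    exact h6.symm
  obtain ⟨x, hxQ, hx⟩ : ∃ x ∈ Q, g * x * g⁻¹ ≠ x := by
    by_contra hc
    push Not at hc
    exact hgC (mem_centralizer_iff.2 fun y hy => (mul_inv_eq_iff_eq_mul.1 (hc y hy)).symm)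
  have hx2 : g ^ 2 * x * (g ^ 2)⁻¹ ≠ x := fun he => hx (by
    have h1 : g ^ 2 ∈ centralizer ({x} : Set G) :=
      mem_centralizer_singleton_iff.2 (mul_inv_eq_iff_eq_mul.1 he)
    have h2 : g ∈ zpowers (g ^ 2) :=
      mem_zpowers_pow_iff.2 (Nat.coprime_two_left.2 hodd)
    have h3 := mem_centralizer_singleton_iff.1 ((zpowers_le.2 h1) h2)
    rw [h3]; simp)
  have hodd2 : Odd (orderOf (g ^ 2)) := hodd.of_dvd_nat (orderOf_pow_dvd 2)
  let X : Fin 3 → G := fun i => g ^ (i : ℕ) * x * (g ^ (i : ℕ))⁻¹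
  have hXQ : ∀ i, X i ∈ Q := fun i => CF.Transfer.conj_mem_of_mem_normalizer (pow_mem hgN _) hxQ
  have h01 : (X 0)⁻¹ * X 1 ∉ W := fun hw => hx (key g hgN hodd x hxQ (by simpa [X] using hw))
  have h02 : (X 0)⁻¹ * X 2 ∉ W := fun hw =>
    hx2 (key (g ^ 2) (pow_mem hgN _) hodd2 x hxQ (by simpa [X] using hw))
  have h12 : (X 1)⁻¹ * X 2 ∉ W := fun hw => hx (by
    have := key g hgN hodd (X 1) (hXQ 1) (by
      have e : g * X 1 * g⁻¹ = X 2 := by simp [X, pow_two, mul_assoc]
      rwa [e])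
    simpa [X] using this)
  have hXW : ∀ i j, (X i)⁻¹ * X j ∈ W → i = j := by
    have hs : ∀ i j, (X i)⁻¹ * X j ∈ W → (X j)⁻¹ * X i ∈ W := fun i j hw => by
      simpa using W.inv_mem hw
    intro i j hw
    fin_cases i <;> fin_cases j
    all_goals first
      | rfl
      | exact absurd hw h01
      | exact absurd hw h02
      | exact absurd hw h12
      | exact absurd (hs _ _ hw) h01
      | exact absurd (hs _ _ hw) h02
      | exact absurd (hs _ _ hw) h12
  have hXc : ∀ w ∈ W, ∀ i, IsConj (x * w) (X i * w) := fun w hw i => by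
    obtain ⟨n, h1, h2⟩ := hW' x (hQP hxQ) (g ^ (i : ℕ)) (hQP (hXQ i)) w hw
    refine isConj_iff.2 ⟨n, ?_⟩
    show _ = g ^ (i : ℕ) * x * (g ^ (i : ℕ))⁻¹ * w
    rw [← h1]; conv_rhs => rw [← h2]
    group
  set T : Set G := {y | y ∈ (P : Subgroup G) ∧ 3 ≤ {b | b ∈ (P : Subgroup G) ∧ IsConj b y}.ncard}
    with hT
  set R : Set G := ((P : Subgroup G) : Set G) \ (W ∪ T) with hR
  have hfib : ∀ {a b : G}, IsConj a b → {c | c ∈ (P : Subgroup G) ∧ IsConj c a} =
      {c | c ∈ (P : Subgroup G) ∧ IsConj c b} := fun hab => by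
    ext c
    exact ⟨fun hc => ⟨hc.1, hc.2.trans hab⟩, fun hc => ⟨hc.1, hc.2.trans hab.symm⟩⟩
  have hWT : Disjoint (W : Set G) T := by
    rw [Set.disjoint_left]
    rintro w hw ⟨-, h3⟩
    have : {b | b ∈ (P : Subgroup G) ∧ IsConj b w} ⊆ {w} := by
      rintro b ⟨hb, hbw⟩
      obtain ⟨c, rfl⟩ := isConj_iff.1 hbw.symm
      exact ((hW w).1 hw).2 c hb
    have := Set.ncard_le_ncard this (Set.toFinite _)
    rw [Set.ncard_singleton] at this
    omega
  have c1 : 3 * (ConjClasses.mk '' T).ncard ≤ T.ncard :=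
    mul_ncard_image_le _ (Set.toFinite _) 3 fun a ha => ha.2.trans (Set.ncard_le_ncard (by
      rintro b ⟨hb, hba⟩
      exact ⟨⟨hb, by rw [hfib hba]; exact ha.2⟩, ConjClasses.mk_eq_mk_iff_isConj.2 hba⟩)
      (Set.toFinite _))
  have c2 : 2 * (ConjClasses.mk '' R).ncard ≤ R.ncard :=
    mul_ncard_image_le _ (Set.toFinite _) 2 fun a ha => by
      have h1 : ¬ (∀ g : G, g * a * g⁻¹ ∈ (P : Subgroup G) → g * a * g⁻¹ = a) := fun hc =>
        ha.2 (Or.inl ((hW a).2 ⟨ha.1, hc⟩))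
      push Not at h1
      obtain ⟨c, hc, hne⟩ := h1
      have hcj : IsConj (c * a * c⁻¹) a := (isConj_iff.2 ⟨c, rfl⟩).symm
      rw [← Set.ncard_pair hne]
      refine Set.ncard_le_ncard ?_ (Set.toFinite _)
      rintro b (rfl | rfl)
      · refine ⟨⟨hc, ?_⟩, ConjClasses.mk_eq_mk_iff_isConj.2 hcj⟩
        rintro (hb | hb)
        · have := ((hW _).1 hb).2 c⁻¹ (by
            rw [show c⁻¹ * (c * a * c⁻¹) * c⁻¹⁻¹ = a by group]; exact ha.1)
          exact hne (by rw [← this]; group)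
        · exact ha.2 (Or.inr ⟨ha.1, by rw [← hfib hcj]; exact hb.2⟩)
      · exact ⟨ha, rfl⟩
  have c3 : 3 * Nat.card W ≤ T.ncard := by
    rw [← Nat.card_coe_set_eq, show 3 * Nat.card W = Nat.card (Fin 3 × W) by simp]
    refine Nat.card_le_card_of_injective (fun z => ⟨X z.1 * z.2,
      mul_mem (hQP (hXQ _)) (hWP z.2.2), ?_⟩) ?_
    · rw [← Nat.card_coe_set_eq]
      refine (show 3 = Nat.card (Fin 3) by simp).trans_le ?_
      refine Nat.card_le_card_of_injective (fun i => ⟨X i * z.2,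
        mul_mem (hQP (hXQ _)) (hWP z.2.2), (hXc _ z.2.2 i).symm.trans (hXc _ z.2.2 _)⟩) ?_
      intro i j hij
      have h1 : X i * z.2 = X j * z.2 := congrArg Subtype.val hij
      exact hXW i j (by rw [mul_right_cancel h1]; simp)
    · rintro ⟨i, w⟩ ⟨j, w'⟩ hij
      have h1 : X i * w = X j * w' := congrArg Subtype.val hij
      have h2 : i = j := hXW i j (by
        have : (X i)⁻¹ * X j = w * (w' : G)⁻¹ := by
          rw [eq_mul_inv_iff_mul_eq, mul_assoc, ← h1]; simp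
        rw [this]; exact mul_mem w.2 (inv_mem w'.2))
      subst h2
      exact Prod.ext rfl (Subtype.ext (mul_left_cancel h1))
  have hsub : (W : Set G) ∪ T ⊆ (P : Subgroup G) := Set.union_subset hWP fun y hy => hy.1
  have c4 : R.ncard + (Nat.card W + T.ncard) = Nat.card P := by
    rw [← ncard_coe_subgroup, ← Set.ncard_union_eq hWT (Set.toFinite _) (Set.toFinite _), hR,
      Set.ncard_diff_add_ncard_of_subset hsub (Set.toFinite _), ncard_coe_subgroup]
  have c5 : kp 2 G ≤ Nat.card W + (ConjClasses.mk '' T).ncard + (ConjClasses.mk '' R).ncard := by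
    rw [kp_eq_ncard P, ← Set.union_diff_cancel hsub, Set.image_union, Set.image_union]
    refine (Set.ncard_union_le _ _).trans (Nat.add_le_add_right ?_ _)
    refine (Set.ncard_union_le _ _).trans (Nat.add_le_add_right ?_ _)
    rw [← ncard_coe_subgroup]
    exact Set.ncard_image_le (Set.toFinite _)
  omega

open CF.Fgs2 CF.Solv in
theorem kp_mul_card : kp p G * Nat.card G = cp (piElts {p} G) Set.univ := by
  rw [← card_classes_mul]
  · congr 1
    refine Nat.card_congr (Equiv.subtypeEquivRight fun C => ?_)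
    obtain ⟨x, rfl⟩ := ConjClasses.mk_surjective C
    constructor
    · intro h
      exact ⟨x, (piNum_singleton_iff hp.out (orderOf_pos _).ne').2
        (h x ConjClasses.mem_carrier_mk), rfl⟩
    · rintro ⟨y, hy, h⟩ z hz
      rw [ConjClasses.mem_carrier_iff_mk_eq, ← h, ConjClasses.mk_eq_mk_iff_isConj] at hz
      rw [orderOf_eq_of_isConj hz]
      exact (piNum_singleton_iff hp.out (orderOf_pos _).ne').1 hy
  · intro x hx y h
    change PiNum _ (orderOf y)
    rwa [← orderOf_eq_of_isConj h]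

omit hp in
open CF.Fgs2 CF.Solv in
theorem cp_piElts_le_sum (σ τ : Set ℕ) [Fintype G] [DecidablePred (· ∈ piElts σ G)] :
    cp (piElts (σ ∪ τ) G) Set.univ ≤ ∑ u : (piElts σ G).toFinset,
      cp (piElts τ (centralizer ({(u : G)} : Set G))) Set.univ := by
  choose a ha b hb h1 h2 h3 h4 using exists_pi_decomp (G := G) σ
  unfold cp
  rw [← Nat.card_sigma]
  refine Nat.card_le_card_of_injective (fun z => ⟨⟨a z.1.1, Set.mem_toFinset.2 (h3 _)⟩,
    ⟨(⟨b z.1.1, ?_⟩, ⟨z.1.2, ?_⟩), ?_, trivial, ?_⟩⟩) ?_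
  · exact Subgroup.mem_centralizer_singleton_iff.2 (h2 _).symm
  · exact Subgroup.mem_centralizer_singleton_iff.2
      (commute_of_mem_zpowers z.2.2.2 (ha _)).symm
  · intro q hq hd
    rw [Subgroup.orderOf_mk] at hd
    have e1 := z.2.1 q hq (hd.trans (orderOf_dvd_of_mem_zpowers (hb _)))
    have e2 := h4 _ q hq hd
    exact e1.resolve_left e2
  · exact Subtype.ext (commute_of_mem_zpowers z.2.2.2 (hb _))
  · rintro ⟨⟨x, y⟩, hx⟩ ⟨⟨x', y'⟩, hx'⟩ h
    have e1 := congrArg (fun w => (w.1 : G)) h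
    have e2 := congrArg (fun w => (w.2.1.1 : G)) h
    have e3 := congrArg (fun w => (w.2.1.2 : G)) h
    simp only at e1 e2 e3
    simp only [Subtype.mk.injEq, Prod.mk.injEq]
    exact ⟨by rw [h1 x, h1 x', e1, e2], e3⟩

omit hp in
open CF.Fgs2 CF.Solv in
theorem cp_piElts_union_le (σ : Set ℕ) (s : Finset ℕ) (hs : ∀ q ∈ s, q.Prime) :
    cp (piElts (σ ∪ s) G) Set.univ ≤
      (∏ q ∈ s, q ^ (Nat.card G).factorization q) * cp (piElts σ G) Set.univ := by
  classical
  have := Fintype.ofFinite G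
  refine (cp_piElts_le_sum σ s).trans ?_
  have step2 : ∀ u : (piElts σ G).toFinset,
      cp (piElts (s : Set ℕ) (Subgroup.centralizer ({(u : G)} : Set G))) Set.univ ≤
        (∏ q ∈ s, q ^ (Nat.card G).factorization q) *
          Nat.card (Subgroup.centralizer ({(u : G)} : Set G)) := by
    intro u
    refine (cp_piElts_le_prod s hs _).trans
      (Nat.mul_le_mul_right _ (Finset.prod_le_prod' fun q hq => ?_))
    refine Nat.pow_le_pow_right (hs q hq).pos ?_
    exact (Nat.factorization_le_iff_dvd Nat.card_pos.ne' Nat.card_pos.ne').2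
      (Subgroup.card_subgroup_dvd_card _) q
  refine (Finset.sum_le_sum fun u _ => step2 u).trans ?_
  rw [← Finset.mul_sum, Finset.sum_coe_sort (piElts σ G).toFinset
    (fun u => Nat.card (Subgroup.centralizer ({u} : Set G))), ← cp_eq_sum_univ,
    Set.coe_toFinset]

/-- number of classes of `π`-elements -/
noncomputable def kpi (π : Finset ℕ) (G : Type*) [Group G] : ℕ :=
  Nat.card {c : ConjClasses G // ∀ x ∈ c.carrier, ∀ r : ℕ, r.Prime → r ∣ orderOf x → r ∈ π}

omit hp in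
open CF.Fgs2 CF.Solv in
theorem kpi_mul_card (π : Finset ℕ) : kpi π G * Nat.card G = cp (piElts π G) Set.univ := by
  rw [← card_piClasses_mul]
  congr 1
  refine Nat.card_congr (Equiv.subtypeEquivRight fun C => ?_)
  constructor
  · rintro h q hq ⟨g, rfl, hg⟩
    exact h g ConjClasses.mem_carrier_mk q hq hg
  · intro h x hx r hr hd
    exact h r hr ⟨x, ConjClasses.mem_carrier_iff_mk_eq.1 hx, hd⟩

theorem kpi_le (π : Finset ℕ) (hπ : ∀ r ∈ π, r.Prime) (hp' : p ∈ π) :
    kpi π G ≤ (∏ q ∈ π.erase p, q ^ (Nat.card G).factorization q) * kp p G := by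
  have h := cp_piElts_union_le (G := G) {p} (π.erase p) fun q hq => hπ q (Finset.mem_of_mem_erase hq)
  have e : ({p} ∪ (π.erase p : Finset ℕ) : Set ℕ) = π := by
    rw [Set.singleton_union, ← Finset.coe_insert, Finset.insert_erase hp']
  rw [e, ← kpi_mul_card, ← kp_mul_card, ← mul_assoc] at h
  exact Nat.le_of_mul_le_mul_right h Nat.card_pos

omit hp in
theorem exists_normal_compl_of_npc (σ : Finset ℕ) (hσ : ∀ q ∈ σ, q.Prime)
    (h : ∀ q ∈ σ, HasNormalPComplement q G) :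
    ∃ N : Subgroup G, N.Normal ∧ (∀ r : ℕ, r.Prime → r ∣ Nat.card N → r ∉ σ) ∧
      (∀ r : ℕ, r.Prime → r ∣ N.index → r ∈ σ) ∧ ∀ x, x ∈ N ↔ ∀ q ∈ σ, x ∈ pResidual q G := by
  classical
  induction σ using Finset.induction_on with
  | empty => exact ⟨⊤, inferInstance, by simp, fun r hr hd => by simp [hr.ne_one] at hd, by simp⟩
  | insert q σ hq ih =>
    obtain ⟨N, hN, h1, h2, h3⟩ := ih (fun r hr => hσ r (Finset.mem_insert_of_mem hr))
      fun r hr => h r (Finset.mem_insert_of_mem hr)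
    have : Fact q.Prime := ⟨hσ q (Finset.mem_insert_self _ _)⟩
    have hq' := h q (Finset.mem_insert_self _ _)
    refine ⟨pResidual q G ⊓ N, inferInstance, fun r hr hd hm => ?_, fun r hr hd => ?_, fun x => ?_⟩
    · rcases Finset.mem_insert.1 hm with rfl | hm
      · exact hasNPC_iff_not_dvd.1 hq' (hd.trans (card_dvd_of_le inf_le_left))
      · exact h1 r hr (hd.trans (card_dvd_of_le inf_le_right)) hm
    · rw [← relIndex_mul_index (inf_le_right : pResidual q G ⊓ N ≤ N), inf_relIndex_right] at hd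
      rcases (Nat.Prime.dvd_mul hr).1 hd with hd | hd
      · obtain ⟨P⟩ : Nonempty (Sylow q G) := inferInstance
        have h4 := hd.trans (relIndex_dvd_index_of_normal (pResidual q G) N)
        rw [(HasNPC.isComplement' hq' P).symm.index_eq_card] at h4
        obtain ⟨k, hk⟩ := P.isPGroup'.exists_card_eq
        rw [hk] at h4
        rw [(Nat.prime_dvd_prime_iff_eq hr this.out).1 (hr.dvd_of_dvd_pow h4)]
        exact Finset.mem_insert_self _ _
      · exact Finset.mem_insert_of_mem (h2 r hr hd)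
    · rw [mem_inf, h3]; simp

omit hp in
theorem exists_abelian_hall_of_npc (σ : Finset ℕ) (hσ : ∀ q ∈ σ, q.Prime)
    (h : ∀ q ∈ σ, HasNormalPComplement q G)
    (hc : ∀ q ∈ σ, ∀ P : Sylow q G, IsMulCommutative (P : Subgroup G)) :
    ∃ H : Subgroup G, IsPiHall (σ : Set ℕ) H ∧ IsMulCommutative H := by
  obtain ⟨N, hN, h1, h2, h3⟩ := exists_normal_compl_of_npc σ hσ h
  have hcop : (Nat.card N).Coprime N.index := Nat.coprime_of_dvd fun r hr hd hd' =>
    h1 r hr hd (h2 r hr hd')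
  obtain ⟨H, hH⟩ := exists_right_complement'_of_coprime hcop
  refine ⟨H, ⟨fun r hr hd => h2 r hr (by rwa [hH.symm.index_eq_card]),
    fun r hr hm hd => h1 r hr (by rwa [← hH.index_eq_card]) hm⟩,
    isMulCommutative_of_forall fun a ha b hb => ?_⟩
  have h4 : a * b * a⁻¹ * b⁻¹ ∈ N := (h3 _).2 fun q hq => by
    have : Fact q.Prime := ⟨hσ q hq⟩
    obtain ⟨P⟩ : Nonempty (Sylow q G) := inferInstance
    have hcomp := HasNPC.isComplement' (h q hq) P
    have hsurj : ∀ g : G, ∃ u ∈ (P : Subgroup G),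
        QuotientGroup.mk' (pResidual q G) g = QuotientGroup.mk' (pResidual q G) u := fun g => by
      obtain ⟨⟨n, u⟩, e, -⟩ := hcomp.existsUnique g
      refine ⟨u, u.2, ?_⟩
      rw [← e, map_mul, QuotientGroup.mk'_apply, (QuotientGroup.eq_one_iff _).2 n.2, one_mul]
    obtain ⟨u, hu, eu⟩ := hsurj a
    obtain ⟨v, hv, ev⟩ := hsurj b
    rw [← QuotientGroup.eq_one_iff, ← QuotientGroup.mk'_apply]
    simp only [map_mul, map_inv]
    rw [eu, ev, ← map_mul, comm_of_mem (hc q hq P) hu hv]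
    simp
  have h5 : a * b * a⁻¹ * b⁻¹ ∈ N ⊓ H :=
    mem_inf.mpr ⟨h4, mul_mem (mul_mem (mul_mem ha hb) (inv_mem ha)) (inv_mem hb)⟩
  rw [hH.disjoint.eq_bot, mem_bot, mul_inv_eq_one, mul_inv_eq_iff_eq_mul] at h5
  exact h5

end CF.Fgs1
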