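/-
Real elements of odd order whose centralizers are transitive on the Sylow 2-subgroups.
-/
import Cfsg.Agent.GW.Iv
import Cfsg.Agent.Sig.OutSol
import Cfsg.Agent.Sig.OffB
import Cfsg.Agent.Invol.Dihedral
import Cfsg.Agent.S3861
import Cfsg.Agent.S3863
set_option autoImplicit false
set_option linter.unusedSectionVars false

namespace CF.RC
open Subgroup Cfsg CF.BG CF.Sig CF.GW
open scoped commutatorElement

variable {G : Type*} [Group G] [Finite G] {P S T U V K M Q : Subgroup G} {a b g s t x y : G}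

theorem od_iff : PiElt {2}ᶜ x ↔ Odd (orderOf x) := by
  rw [PiElt, piNat_compl_single Nat.prime_two, ← even_iff_two_dvd, Nat.not_even_iff_odd]

theorem one_of_sq (o : Odd (orderOf x)) (k : PiElt {2} (x * x)) : x = 1 :=
  eq_one_of_sq_of_odd (k.eq_one (by rw [← pow_two]; exact (od_iff.2 o).pow 2)) o

theorem mem_of_sq (o : Odd (orderOf x)) (h : x * x ∈ K) : x ∈ K := zpowers_le.2 h (mem_zpowers_sq o)

theorem exists_two (hx : x ∈ P) (hg : g ∈ P) (e : g * x * g⁻¹ = x⁻¹) :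
    ∃ t ∈ P, PiElt {2} t ∧ t * x * t⁻¹ = x⁻¹ := by
  obtain ⟨t, ⟨j, o⟩, f⟩ := Cfsg.Agent.S3863.part1 (⟨x, hx⟩ : P) (isConj_iff.2 ⟨⟨g, hg⟩, Subtype.ext e⟩)
  exact ⟨t, t.2, by rw [PiElt, orderOf_coe, o]; exact piNat_pow_self Nat.prime_two j,
    congrArg Subtype.val f⟩

/-- index at most two -/
def I2 (U S : Subgroup G) : Prop := U ≤ S ∧ ∀ a ∈ S, a ∉ U → ∀ b ∈ S, b ∉ U → a * b ∈ U

theorem I2.sq (h : I2 U S) (ha : a ∈ S) : a * a ∈ U := by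
  by_cases m : a ∈ U
  exacts [mul_mem m m, h.2 a ha m a ha m]

theorem norm_of_sq (l : U ≤ S) (h : ∀ a ∈ S, a * a ∈ U) : S ≤ 𝐍 U := le_norm_iff.2 fun s hs u hu => by
  have := mul_mem (mul_mem (h _ (mul_mem hs (l hu))) (inv_mem hu)) (inv_mem (h s hs))
  convert this using 1; group

theorem comm_of_sq (h : ∀ a ∈ S, a * a ∈ U) (ha : a ∈ S) (hb : b ∈ S) : ⁅a, b⁆ ∈ U := by
  have := mul_mem (mul_mem (h a ha) (h _ (mul_mem (inv_mem ha) hb))) (inv_mem (h b hb))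
  convert this using 1; rw [commutatorElement_def]; group

theorem I2.norm (h : I2 U S) : S ≤ 𝐍 U := norm_of_sq h.1 fun _ => h.sq

theorem I2.cj (h : I2 U S) (g : G) : I2 (cj g U) (cj g S) :=
  ⟨cj_mono g h.1, fun a ha a1 b hb b1 => by
    rw [mem_cj] at *
    convert h.2 _ ha a1 _ hb b1 using 1; group⟩

theorem I2.sup (h : I2 U S) (l : M ≤ S) (n : ¬ M ≤ U) : U ⊔ M = S := by
  obtain ⟨m, hm, m1⟩ := SetLike.not_le_iff_exists.1 n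
  refine le_antisymm (sup_le h.1 l) fun s hs => ?_
  by_cases c : s ∈ U
  · exact mem_sup_left c
  · simpa using mul_mem (mem_sup_left (h.2 s hs c m (l hm) m1) : _ ∈ U ⊔ M) (mem_sup_right (inv_mem hm))

/-- `x` normalizes a subgroup of index two in `S` and is inverted by an element of `S` -/
structure Ln (S : Subgroup G) (x : G) : Prop where
  i2 : I2 (S ⊓ cj x S) S
  norm : x ∈ 𝐍 (S ⊓ cj x S)
  inv : ∃ t ∈ S, t * x * t⁻¹ = x⁻¹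

theorem Ln.cj (h : Ln S x) (g : G) : Ln (cj g S) (g * x * g⁻¹) := by
  have e : BG.cj g S ⊓ BG.cj (g * x * g⁻¹) (BG.cj g S) = BG.cj g (S ⊓ BG.cj x S) := by
    rw [cj_inf, cj_cj, cj_cj, inv_mul_cancel_right]
  obtain ⟨t, ht, f⟩ := h.inv
  refine ⟨e ▸ h.i2.cj g, ?_, g * t * g⁻¹, conj_mem_cj.2 ht, ?_⟩
  · rw [e, ← cj_norm]; exact conj_mem_cj.2 h.norm
  · rw [show g * t * g⁻¹ * (g * x * g⁻¹) * (g * t * g⁻¹)⁻¹ = g * (t * x * t⁻¹) * g⁻¹ by group, f]; group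

theorem four (hS : Syl 2 S P) (hx : x ∈ P) (hy : y ∈ P) (h1 : Ln S x) (h2 : Ln S y)
    (h3 : Ln (cj y S) x) : x ∈ 𝐍 ((S ⊓ cj x S) ⊓ (S ⊓ cj y S)) := by
  have hT := (hS.cj_of_mem hy).cj_of_mem hx
  have i : I2 (cj y S ⊓ cj x (cj y S)) (cj x (cj y S)) := by
    have := h3.i2.cj x
    rwa [cj_of_norm h3.norm] at this
  have l : (S ⊓ cj x S) ⊓ (S ⊓ cj y S) ≤ cj x (cj y S) := by
    by_cases c : cj x (S ⊓ cj y S) ≤ cj y S ⊓ cj x (cj y S)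
    · rw [cj_le_iff, cj_of_norm (inv_mem h3.norm)] at c
      exact inf_le_right.trans (c.trans inf_le_right)
    · refine hT.le_of_norm ((inf_le_left.trans inf_le_left).trans hS.le)
        (hS.pi.le (inf_le_left.trans inf_le_left)) (.inl ?_)
      rw [← i.sup (cj_mono x inf_le_right) c]
      exact norm_sup ((inf_le_right.trans inf_le_right).trans h3.i2.norm)
        ((inf_le_left.trans inf_le_right).trans (h2.i2.cj x).norm)
  refine inv_mem_iff.1 (mem_norm_of_cj_le (cj_le_iff.2 ?_))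
  rw [inv_inv, cj_inf, cj_of_norm h1.norm, cj_inf]
  exact le_inf inf_le_left (le_inf (inf_le_left.trans inf_le_right) l)

theorem comm_mem (hS : Syl 2 S P) (hx : x ∈ P) (o : Odd (orderOf x))
    (h : ∀ S, Syl 2 S P → ∀ g ∈ P, Ln S (g * x * g⁻¹)) (hs : s ∈ S ⊓ cj x S) : ⁅x, s⁆ ∈ 𝐎 {2} P := by
  have cx : ∀ g ∈ P, g * x * g⁻¹ ∈ P := fun g hg => mul_mem (mul_mem hg hx) (inv_mem hg)
  let Q : Subgroup G := ⨅ g : P, S ⊓ cj (g * x * g⁻¹) S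
  have mQ : ∀ {a}, a ∈ Q ↔ ∀ g ∈ P, a ∈ S ⊓ cj (g * x * g⁻¹) S := by
    intro a; rw [mem_iInf]; exact ⟨fun k g hg => k ⟨g, hg⟩, fun k g => k g g.2⟩
  have QS : Q ≤ S := fun a ha => (mQ.1 ha 1 (one_mem _)).1
  have nQ : ∀ g ∈ P, g * x * g⁻¹ ∈ 𝐍 Q := fun g hg => mem_norm_of_cj_le fun a ha => by
    obtain ⟨b, hb, rfl⟩ := mem_cj_iff.1 ha
    refine mQ.2 fun k hk => (conj_mem_of_norm (four hS (cx g hg) (cx k hk) (h S hS g hg) (h S hS k hk)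
      (h _ (hS.cj_of_mem (cx k hk)) g hg)) ⟨mQ.1 hb g hg, mQ.1 hb k hk⟩).2
  have sq : ∀ a ∈ S, a * a ∈ Q := fun a ha => mQ.2 fun g hg => (h S hS g hg).i2.sq ha
  have h1 : Ln S x := by simpa using h S hS 1 (one_mem _)
  have xQ : x ∈ 𝐍 Q := by simpa using nQ 1 (one_mem _)
  have l : S ≤ centMod (S ⊓ cj x S) Q := fun a ha =>
    mem_centMod.2 ⟨norm_of_sq QS sq ha, fun u hu => comm_of_sq sq ha hu.1⟩
  have l2 : cj x S ≤ centMod (S ⊓ cj x S) Q := by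
    have := cj_mono x l
    rwa [cj_centMod, cj_of_norm h1.norm, cj_of_norm xQ] at this
  obtain ⟨t, ht, e⟩ := h1.inv
  have xD : x ∈ centMod (S ⊓ cj x S) Q := mem_of_sq o (by
    have := mul_mem (l2 (conj_mem_cj.2 (inv_mem ht))) (l ht)
    rwa [show x * t⁻¹ * x⁻¹ * t = x * x by rw [← e]; group] at this)
  let N := closure {y | ∃ g ∈ P, g * x * g⁻¹ = y}
  have nN : N ⊴ P := ⟨(closure_le _).2 (by rintro _ ⟨g, hg, rfl⟩; exact cx g hg),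
    le_norm_of_cj_le fun a ha => by
      rw [cj_def, MonoidHom.map_closure, closure_le]
      rintro _ ⟨_, ⟨g, hg, rfl⟩, rfl⟩
      exact subset_closure ⟨a * g, mul_mem ha hg, by simp [mul_assoc]⟩⟩
  have xN : x ∈ N := subset_closure ⟨1, one_mem _, by simp⟩
  refine O_le_O_of_normal nN {2} (le_O (normalIn_inf_left ((closure_le _).2 ?_))
    (hS.pi.le (inf_le_right.trans QS)) ⟨?_, (mem_centMod.1 xD).2 s hs⟩)
  · rintro _ ⟨g, hg, rfl⟩; exact nQ g hg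
  · rw [commutatorElement_def, mul_assoc x, mul_assoc x]
    exact mul_mem xN (nN.conj_mem (hS.le hs.1) (inv_mem xN))

theorem perf_le (p : P ≤ ⁅P, P⁆) (n : K ⊴ P) (s : Sol (qt K P)) : P ≤ K :=
  (qt_eq_bot n.norm).1 (s.eq_bot_of_le_der (by rw [← qt_comm n.norm n.norm]; exact qt_mono _ p))

theorem perf_two (p : P ≤ ⁅P, P⁆) (h : ∀ t ∈ P, PiElt {2} t → t ∈ K) : P ≤ K := by
  let N := closure {y | y ∈ P ∧ PiElt {2} y}
  have nN : N ⊴ P := ⟨(closure_le _).2 fun _ k => k.1, le_norm_of_cj_le fun a ha => by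
    rw [cj_def, MonoidHom.map_closure, closure_le]
    rintro _ ⟨y, hy, rfl⟩
    exact subset_closure ⟨mul_mem (mul_mem ha hy.1) (inv_mem ha), hy.2.conj a⟩⟩
  obtain ⟨S, hS⟩ := exists_syl 2 P
  exact (perf_le p nN (sol_of_odd' ((piGrp_qt_iff nN.norm).2 (hS.idx_of_le fun y hy =>
    subset_closure ⟨hS.le hy, hS.pi.elt hy⟩)))).trans ((closure_le _).2 fun y hy => h y hy.1 hy.2)

theorem lines (p : P ≤ ⁅P, P⁆) (hx : x ∈ P) (o : Odd (orderOf x))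
    (h : ∀ S, Syl 2 S P → ∀ g ∈ P, Ln S (g * x * g⁻¹)) : x = 1 := by
  have n := (O_normal {2} P).norm
  have h1 : ∀ S, Syl 2 S P → Ln S x := fun S hS => by simpa using h S hS 1 (one_mem _)
  have l : P ≤ qp (𝐎 {2} P) (𝐍 (zpowers (qe (𝐎 {2} P) x))) := perf_two p fun s hs k => by
    obtain ⟨S, hS, l⟩ := exists_syl_le (zpowers_le.2 hs) k.zpowers
    have m := l (mem_zpowers s)
    have c : ∀ u ∈ S ⊓ cj x S, qe (𝐎 {2} P) u ∈ 𝐍 (zpowers (qe (𝐎 {2} P) x)) := fun u hu => by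
      have := qe_of_mem (comm_mem hS hx o h hu)
      rw [qe_comm (n hx) (n (hS.le hu.1)), commutatorElement_eq_one_iff_mul_comm] at this
      exact cent_le_norm _ (by rw [cent_zpowers]; exact mem_cent1.2 this.symm)
    obtain ⟨t, ht, e⟩ := (h1 S hS).inv
    have tn : qe (𝐎 {2} P) t ∈ 𝐍 (zpowers (qe (𝐎 {2} P) x)) := cj_eq_self.1 (by
      rw [cj_zpowers, ← qe_conj (n (hS.le ht)) (n hx), e, qe_inv (n hx), zpowers_inv])
    refine mem_qp.2 ⟨n hs, ?_⟩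
    by_cases c1 : s ∈ S ⊓ cj x S
    · exact c s c1
    by_cases c2 : t ∈ S ⊓ cj x S
    · have := qe_of_mem (comm_mem hS hx o h c2)
      rw [commutatorElement_def, show x * t * x⁻¹ * t⁻¹ = x * (t * x * t⁻¹)⁻¹ by group, e, inv_inv,
        qe_eq_one (n (mul_mem hx hx))] at this
      rw [one_of_sq o ((O_pi _ _).elt this), qe_of_mem (one_mem _), zpowers_one_eq_bot]
      exact (NormalIn.bot ⊤).norm trivial
    · have := c _ ((h1 S hS).i2.2 s m c1 t ht c2)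
      rw [qe_mul (n hs) (n (hS.le ht))] at this
      exact (mul_mem_cancel_right tn).1 this
  obtain ⟨S, hS⟩ := exists_syl 2 P
  obtain ⟨t, ht, e⟩ := (h1 S hS).inv
  have := (cyc_zpowers _).der_le_cent ((qt_le_iff n).2 l) (by
    rw [← qt_comm n n]; exact qe_mem_qt (p (hS.le ht)) (n (hS.le ht)))
  rw [cent_zpowers, mem_cent1, ← mul_inv_eq_iff_eq_mul, ← qe_conj (n (hS.le ht)) (n hx), e,
    qe_eq_iff (n (inv_mem hx)) (n hx), inv_inv] at this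
  exact one_of_sq o ((O_pi _ _).elt this)

theorem lift2 {y g : Quo K} (k : PiGrp {2} K) (n : K ⊴ M) (hy : y ∈ qt K M) (hg : g ∈ qt K M)
    (o : Odd (orderOf y)) (e : g * y * g⁻¹ = y⁻¹) :
    ∃ x ∈ M, Odd (orderOf x) ∧ qe K x = y ∧ ∃ t ∈ M, qe K t = g ∧ t * x * t⁻¹ = x⁻¹ := by
  obtain ⟨x0, hx0, -, rfl⟩ := mem_qt.1 hy
  obtain ⟨t, ht, tn, rfl⟩ := mem_qt.1 hg
  obtain ⟨u, x, hu, hx, ku, kx, f⟩ := exists_piPart {2} x0
  have xM := zpowers_le.2 hx0 hx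
  have un := n.norm (zpowers_le.2 hx0 hu)
  have xn := n.norm xM
  have e1 : qe K x = qe K x0 := by
    have : qe K u = 1 := (ku.qe un).eq_one ((od_iff.2 o).of_mem_zpowers (by
      rw [← qt_zpowers (n.norm hx0)]; exact qe_mem_qt hu un))
    rw [← f, qe_mul un xn, this, one_mul]
  rw [← e1, ← qe_conj tn xn, ← qe_inv xn] at e
  have cn : t * x * t⁻¹ ∈ 𝐍 K := mul_mem (mul_mem tn xn) (inv_mem tn)
  obtain ⟨c, hc, l⟩ := exists_cj_le_of_le_sup (A := zpowers x) (B := zpowers (t * x * t⁻¹)) (K := K)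
    (zpowers_le.2 xn) (zpowers_le.2 (by
      have := mul_mem (mem_sup_right (inv_mem (mem_zpowers x)) : _ ∈ K ⊔ zpowers x)
        (mem_sup_left ((qe_eq_iff (inv_mem xn) cn).1 e.symm))
      rwa [mul_inv_cancel_left] at this)) ((kx.conj t).zpowers.coprime' k) (.inr k.sol)
  have e2 : qe K (c * t) = qe K t := by rw [qe_mul (le_norm_self K hc) tn, qe_of_mem hc, one_mul]
  refine ⟨x, xM, od_iff.1 kx, e1, c * t, mul_mem (n.le hc) ht, e2, ?_⟩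
  have m : c * t * x * (c * t)⁻¹ ∈ zpowers x := by
    convert l (conj_mem_cj.2 (mem_zpowers _)) using 1; group
  have ctn := mul_mem (le_norm_self K hc) tn
  have : x * (c * t * x * (c * t)⁻¹) ∈ K := by
    rw [← qe_eq_one (mul_mem xn (zpowers_le.2 xn m)), qe_mul xn (zpowers_le.2 xn m), qe_conj ctn xn, e2,
      ← qe_conj tn xn, e, qe_inv xn, mul_inv_cancel]
  exact eq_inv_of_mul_eq_one_right ((k.elt this).eq_one
    (kx.of_mem_zpowers (mul_mem (mem_zpowers x) m)))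

theorem ti_odd (ti : ∀ R T, Syl 2 R M → Syl 2 T M → ∀ a ∈ R, a ∈ T → a ≠ 1 → R = T)
    (sq : ∀ a ∈ M, PiElt {2} a → a * a = 1) (hS : Syl 2 S M) (hT : Syl 2 T M) (ne : S ≠ T)
    (ha : a ∈ S) (ht : t ∈ T) (a1 : a ≠ 1) (t1 : t ≠ 1) : Odd (orderOf (a * t)) := by
  by_contra o
  obtain ⟨z, hz, i, c1, c2⟩ := Invol.exists_central_invol (sq a (hS.le ha) (hS.pi.elt ha))
    (sq t (hT.le ht) (hT.pi.elt ht)) (Nat.not_odd_iff_even.1 o)
  have zM := zpowers_le.2 (mul_mem (hS.le ha) (hT.le ht)) hz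
  have k : ∀ R, Syl 2 R M → ∀ b ∈ R, b ≠ 1 → Commute z b → z ∈ R := fun R hR b hb b1 c =>
    hR.mem_of_norm zM (cj_eq_self.1 (ti _ _ (hR.cj_of_mem zM) hR b (by
      rw [mem_cj, mul_assoc, ← c.eq, inv_mul_cancel_left]; exact hb) hb b1)) (Iv.piElt i)
  exact ne (ti S T hS hT z (k S hS a ha a1 c1) (k T hT t ht t1 c2) (Iv.ne_one i))

theorem ti_eq (ti : ∀ R T, Syl 2 R M → Syl 2 T M → ∀ a ∈ R, a ∈ T → a ≠ 1 → R = T)
    (sq : ∀ a ∈ M, PiElt {2} a → a * a = 1) (hS : Syl 2 S M) (hT : Syl 2 T M) (ne : S ≠ T)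
    (no : ∀ y ∈ M ⊓ 𝐍 S, Odd (orderOf y) → ∀ g ∈ M, g * y * g⁻¹ = y⁻¹ → y = 1)
    (ha : a ∈ S) (hb : b ∈ S) (ht : t ∈ T) (a1 : a ≠ 1) (b1 : b ≠ 1) (t1 : t ≠ 1) : a = b := by
  have t2 := sq t (hT.le ht) (hT.pi.elt ht)
  have k : ∀ a ∈ S, a ≠ 1 → ∃ τ ∈ M, τ * τ = 1 ∧ τ * a * τ⁻¹ = t ∧ cj τ S = T ∧ cj τ T = S := by
    intro a ha a1
    have a2 := sq a (hS.le ha) (hS.pi.elt ha)
    obtain ⟨k, e⟩ := Invol.exists_invol_conj_of_odd a2 t2 (ti_odd ti sq hS hT ne ha ht a1 t1)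
    have m : a * (a * t) ^ k ∈ M := mul_mem (hS.le ha) (zpow_mem (mul_mem (hS.le ha) (hT.le ht)) k)
    have s2 : a * (a * t) ^ k * (a * (a * t) ^ k) = 1 := by
      have : a * (a * t) * a⁻¹ = (a * t)⁻¹ := by
        rw [← mul_assoc, a2, one_mul, mul_inv_rev, inv_eq_of_mul_eq_one_right t2]
      calc _ = a * (a * t) ^ k * a⁻¹ * (a * a) * (a * t) ^ k := by group
        _ = 1 := by rw [← conj_zpow, this, a2, inv_zpow, mul_one, inv_mul_cancel]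
    have e1 := ti _ _ (hS.cj_of_mem m) hT t (by have := (conj_mem_cj (g := a * (a * t) ^ k)).2 ha; rwa [e] at this) ht t1
    exact ⟨_, m, s2, e, e1, by rw [← e1, cj_cj, s2, cj_of_mem (one_mem _)]⟩
  obtain ⟨τ, m, s2, e, e1, e2⟩ := k a ha a1
  obtain ⟨σ, m', s2', e', e1', e2'⟩ := k b hb b1
  have nS : τ * σ ∈ 𝐍 S := cj_eq_self.1 (by rw [← cj_cj, e1', e2])
  have nT : τ * σ ∈ 𝐍 T := cj_eq_self.1 (by rw [← cj_cj, e2', e1])
  have := no _ ⟨mul_mem m m', nS⟩ (od_iff.1 (constt_eq_one.1 (by_contra fun h => ne (ti S T hS hT _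
    (hS.mem_of_norm (constt_mem_of_mem _ (mul_mem m m')) (constt_mem_of_mem _ nS) (constt_pi _ _))
    (hT.mem_of_norm (constt_mem_of_mem _ (mul_mem m m')) (constt_mem_of_mem _ nT) (constt_pi _ _)) h))))
    τ m (by rw [← mul_assoc, s2, one_mul, mul_inv_rev, inv_eq_of_mul_eq_one_right s2'])
  obtain rfl : τ = σ := by rw [eq_inv_of_mul_eq_one_left this, inv_eq_of_mul_eq_one_right s2']
  simpa using e.trans e'.symm

/-- centralizers of real elements of odd order are transitive on the Sylow 2-subgroups -/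
def Tr (P : Subgroup G) : Prop := ∀ x ∈ P, Odd (orderOf x) → ∀ g ∈ P, g * x * g⁻¹ = x⁻¹ →
  ∀ S T, Syl 2 S P → Syl 2 T P → ∃ c ∈ P ⊓ 𝐂₁ x, T = cj c S

theorem Tr.one (h : Tr P) (hS : Syl 2 S P) (hx : x ∈ P) (n : x ∈ 𝐍 S) (o : Odd (orderOf x))
    (hg : g ∈ P) (e : g * x * g⁻¹ = x⁻¹) : x = 1 := by
  obtain ⟨t, ht, k, f⟩ := exists_two hx hg e
  obtain ⟨T, hT, l⟩ := exists_syl_le (zpowers_le.2 ht) k.zpowers
  obtain ⟨c, hc, rfl⟩ := h x hx o g hg e S T hS hT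
  have n2 : x ∈ 𝐍 (cj c S) := by
    rw [← cj_norm, mem_cj, mul_assoc, ← mem_cent1.1 hc.2, inv_mul_cancel_left]; exact n
  have := mul_mem (conj_mem_of_norm n2 (inv_mem (l (mem_zpowers t)))) (l (mem_zpowers t))
  rw [show x * t⁻¹ * x⁻¹ * t = x * x by rw [← f]; group] at this
  exact one_of_sq o (hT.pi.elt this)

theorem Tr.line (h : Tr P) (hS : Syl 2 S P) (hT : Syl 2 T P) (ne : T ≠ S) (sq : ∀ s ∈ S, s * s ∈ T) :
    ∃ x ∈ P, x ≠ 1 ∧ Odd (orderOf x) ∧ Ln S x := by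
  obtain ⟨U, l, ⟨T, hT, ne, eU⟩, mx⟩ := exists_maximal
    (P := fun X => ∃ T, Syl 2 T P ∧ T ≠ S ∧ X = S ⊓ T) ⟨T, hT, ne, rfl⟩
  replace sq : ∀ s ∈ S, s * s ∈ U := fun s hs => l ⟨mul_mem hs hs, sq s hs⟩
  have US : U ≤ S := eU ▸ inf_le_left
  have nU := norm_of_sq US sq
  replace mx : ∀ c ∈ P ⊓ 𝐍 U, c ∉ 𝐍 S → S ⊓ cj c S = U := fun c hc n =>
    mx _ ⟨_, hS.cj_of_mem hc.1, fun e => n (cj_eq_self.1 e), rfl⟩
      (le_inf US (cj_of_norm hc.2 ▸ cj_mono c US))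
  obtain ⟨t, ht, t1⟩ := SetLike.exists_of_lt (hT.pi.nil.lt_inf_norm (H := U) (lt_of_le_of_ne
    (eU ▸ inf_le_right) fun e => ne (hT.eq_of_le' hS (e ▸ US))))
  have nM : U ⊴ P ⊓ 𝐍 U := ⟨le_inf (US.trans hS.le) (le_norm_self U), inf_le_right⟩
  have s1 := (hS.of_le (le_inf hS.le nU) inf_le_left).qt nM.norm
  have tM : qe U t ∈ qt U (P ⊓ 𝐍 U) := qe_mem_qt ⟨hT.le ht.1, ht.2⟩ ht.2
  obtain ⟨R, hR, tR⟩ := exists_syl_le (zpowers_le.2 tM) ((hT.pi.elt ht.1).qe ht.2).zpowers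
  replace tR := tR (mem_zpowers _)
  have tq : qe U t ≠ 1 := fun e => t1 ((qe_eq_one ht.2).1 e)
  have ne2 : qt U S ≠ R := fun e =>
    t1 (eU ▸ ⟨(qe_mem_qt_iff ht.2 US).1 (e ▸ tR), ht.1⟩)
  have kU := hS.pi.le US
  have ti0 : ∀ T, Syl 2 T (qt U (P ⊓ 𝐍 U)) → ∀ a ∈ qt U S, a ∈ T → a ≠ 1 → qt U S = T := by
    intro T hT a ha hb a1
    obtain ⟨c, hc, rfl⟩ := s1.syl_conj hT
    obtain ⟨c, hc', cn, rfl⟩ := mem_qt.1 hc
    obtain ⟨a, ha', an, rfl⟩ := mem_qt.1 ha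
    rw [← qt_cj cn] at hb ⊢
    by_contra n
    refine a1 (qe_of_mem (mx c hc' (fun k => n (by rw [cj_of_norm k])) ▸ ⟨ha', ?_⟩))
    exact (qe_mem_qt_iff an (cj_of_norm cn ▸ cj_mono c US)).1 hb
  have ti : ∀ R T, Syl 2 R (qt U (P ⊓ 𝐍 U)) → Syl 2 T (qt U (P ⊓ 𝐍 U)) → ∀ a ∈ R, a ∈ T → a ≠ 1 →
      R = T := by
    intro R T hR hT a ha hb a1
    obtain ⟨c, hc, rfl⟩ := s1.syl_conj hR
    exact cj_eq_iff.2 (ti0 _ (hT.cj_of_mem (inv_mem hc)) _ (mem_cj.1 ha) (by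
      simpa using conj_mem_cj (g := c⁻¹).2 hb) fun e => a1 (by simpa [mul_assoc, inv_mul_eq_one] using e))
  have sq2 : ∀ a ∈ qt U (P ⊓ 𝐍 U), PiElt {2} a → a * a = 1 := fun a ha k => by
    obtain ⟨c, -, l⟩ := s1.syl_cj_le (zpowers_le.2 ha) k.zpowers
    obtain ⟨b, hb, bn, e⟩ := mem_qt.1 (l (conj_mem_cj.2 (mem_zpowers a)))
    have := qe_of_mem (sq b hb)
    rw [qe_mul bn bn, e, conj_mul] at this
    simpa using this
  have no : ∀ y ∈ qt U (P ⊓ 𝐍 U) ⊓ 𝐍 (qt U S), Odd (orderOf y) → ∀ g ∈ qt U (P ⊓ 𝐍 U),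
      g * y * g⁻¹ = y⁻¹ → y = 1 := fun y hy o g hg e => by
    obtain ⟨x, hx, ox, rfl, t, ht, -, f⟩ := lift2 kU nM hy.1 hg o e
    rw [h.one hS hx.1 ((qt_norm_iff ⟨US, nU⟩ (zpowers_le.2 hx.2)).1 (by
      rw [qt_zpowers hx.2]; exact zpowers_le.2 hy.2) (mem_zpowers x)) ox ht.1 f, qe_of_mem (one_mem _)]
  obtain ⟨a, ha, a1⟩ := SetLike.exists_of_lt (lt_of_le_of_ne US fun e =>
    ne (hS.eq_of_le' hT (by rw [← e, eU]; exact inf_le_right)).symm)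
  have q1 : ∀ a ∈ S, a ∉ U → qe U a ≠ 1 := fun a ha a1 e => a1 ((qe_eq_one (nU ha)).1 e)
  have aq := qe_mem_qt ha (nU ha)
  have a2 := sq2 _ (s1.le aq) (s1.pi.elt aq)
  have t2 := sq2 _ tM (hR.pi.elt tR)
  obtain ⟨x, hx, ox, e, g, hg, e2, f⟩ := lift2 kU nM (mul_mem (s1.le aq) tM) (s1.le aq)
    (ti_odd ti sq2 s1 hR ne2 aq tR (q1 a ha a1) tq) (by
      rw [← mul_assoc, a2, one_mul, mul_inv_rev, inv_eq_of_mul_eq_one_right t2])
  have x1 : x ≠ 1 := by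
    rintro rfl
    rw [qe_of_mem (one_mem _)] at e
    exact ne2 (ti0 R hR _ aq (by rw [eq_inv_of_mul_eq_one_left e.symm]; exact inv_mem tR) (q1 a ha a1))
  have e3 := mx x hx fun n => x1 (h.one hS hx.1 n ox hg.1 f)
  refine ⟨x, hx.1, x1, ox, ⟨e3 ▸ ⟨US, fun a ha a1 b hb b1 => ?_⟩, e3 ▸ hx.2, g,
    (qe_mem_qt_iff hg.2 US).1 (e2 ▸ aq), f⟩⟩
  rw [← qe_eq_one (nU (mul_mem ha hb)), qe_mul (nU ha) (nU hb), ti_eq ti sq2 s1 hR ne2 no
    (qe_mem_qt ha (nU ha)) (qe_mem_qt hb (nU hb)) tR (q1 a ha a1) (q1 b hb b1) tq,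
    ← qe_mul (nU hb) (nU hb), qe_of_mem (sq b hb)]

theorem Tr.elim (h : Tr P) (p : P ≤ ⁅P, P⁆) (hS : Syl 2 S P) (hT : Syl 2 T P) (ne : T ≠ S)
    (sq : ∀ s ∈ S, s * s ∈ T) : False := by
  obtain ⟨x, hx, x1, o, l⟩ := h.line hS hT ne sq
  obtain ⟨t, ht, e⟩ := l.inv
  refine x1 (lines p hx o fun R hR g hg => ?_)
  obtain ⟨c, hc, f⟩ := h x hx o t (hS.le ht) e S _ hS (hR.cj_of_mem (inv_mem hg))
  have := (l.cj c).cj g
  rwa [← f, cj_cj, mul_inv_cancel, cj_of_mem (one_mem _), mem_cent1.1 hc.2, mul_inv_cancel_right] at this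

theorem sol_of_norm (hS : Syl 2 S P) (n : P ≤ 𝐍 S) : Sol P :=
  hS.pi.sol.of_qt n (sol_of_odd' ((piGrp_qt_iff n).2 hS.idx))

theorem Tr.module (h : Tr P) (p : P ≤ ⁅P, P⁆) (v : Abelem 2 V) (n : P ≤ 𝐍 V)
    (u : ∀ a ∈ V, P ≤ 𝐂₁ a ∨ ∃ S, Syl 2 S P ∧ S ≤ 𝐂₁ a ∧ P ⊓ 𝐂₁ a ≤ 𝐍 S) : P ≤ 𝐂 V := by
  by_contra c
  obtain ⟨S, hS⟩ := exists_syl 2 P
  by_cases c2 : V ≤ 𝐂 S
  · obtain ⟨a, ha, a1⟩ := SetLike.not_le_iff_exists.1 fun k => c (cent_symm k)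
    obtain ⟨T, hT, l, m⟩ := (u a ha).resolve_left fun k => a1 (le_cent1_iff.1 k)
    have k : ∀ g ∈ P, cj g S = T := fun g hg => by
      have s2 := hS.cj_of_mem hg
      refine s2.eq_of_le' hT (hT.le_of_norm s2.le s2.pi (.inl (le_trans (le_inf s2.le ?_) m)))
      rw [le_cent1_iff, ← cj_cent, mem_cj]
      exact c2 (conj_mem_of_norm' (n hg) ha)
    refine c ((sol_of_norm hS (le_norm_of_cj fun g hg => ?_)).eq_bot_of_le_der p ▸ bot_le)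
    rw [k g hg, ← k 1 (one_mem _), cj_of_mem (one_mem _)]
  have nV : V ≤ 𝐍 (V ⊓ 𝐂 S) := v.abel.le_norm inf_le_left
  have nS : S ≤ 𝐍 (V ⊓ 𝐂 S) := norm_inf_cent (hS.le.trans n) (le_norm_self S)
  obtain ⟨_, ⟨hw, w2⟩, w1⟩ := exists_mem_ne_one ((hS.pi.qt (V ⊓ 𝐂 S)).inf_cent_ne_bot
    (v.pi.qt _) (qt_norm _ (hS.le.trans n)) fun e => c2 (((qt_eq_bot nV).1 e).trans inf_le_right))
  obtain ⟨a, ha, an, rfl⟩ := mem_qt.1 hw
  have a1 : ¬ S ≤ 𝐂₁ a := fun k => w1 (qe_of_mem ⟨ha, le_cent1_iff.1 k⟩)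
  obtain ⟨T, hT, l, m⟩ := (u a ha).resolve_left fun k => a1 (hS.le.trans k)
  refine h.elim p hS hT (fun e => a1 (e ▸ l)) fun s hs => hT.mem_of_norm (hS.le (mul_mem hs hs))
    (m ⟨hS.le (mul_mem hs hs), mem_cent1.2 ?_⟩) (hS.pi.elt (mul_mem hs hs))
  have w : ⁅s, a⁆ ∈ V ⊓ 𝐂 S := by
    refine (qe_eq_one (mul_mem (mul_mem (mul_mem (nS hs) an) (inv_mem (nS hs))) (inv_mem an))).1 ?_
    rw [← commutatorElement_def, qe_comm (nS hs) an, commutatorElement_eq_one_iff_mul_comm]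
    exact w2 _ (qe_mem_qt hs (nS hs))
  have w3 := v.pow _ w.1
  have e : s * a = ⁅s, a⁆ * a * s := by rw [commutatorElement_def]; group
  rw [mul_assoc, e, ← mul_assoc, ← mul_assoc, w.2 s hs, mul_assoc _ s a, e, ← mul_assoc,
    ← mul_assoc, ← pow_two, w3, one_mul, mul_assoc]

end CF.RC
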