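/-
Groups whose prime graph on real class sizes is disconnected are solvable.
-/
import Cfsg.Agent.Fgs1.RC1
import Cfsg.Agent.Invol.Count
set_option autoImplicit false
set_option linter.unusedSectionVars false

namespace CF.RC
open Subgroup Cfsg CF.BG CF.Sig CF.GW
open scoped commutatorElement

variable {G : Type*} [Group G] [Finite G] {P S A : Subgroup G} {a b g i u x y : G} {ρ : Set ℕ}

/-- class size -/
noncomputable abbrev cl (x : G) : ℕ := (𝐂₁ x).index

theorem cl_conj (g x : G) : cl (g * x * g⁻¹) = cl x := by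
  rw [cl, ← cj_cent1, cj_def, index_map_of_bijective (MulAut.conj g).bijective]

theorem fac (c : (cl x).Coprime (cl y)) (g : G) : ∃ a ∈ 𝐂₁ x, ∃ b ∈ 𝐂₁ y, g = a * b :=
  Solv.exists_mul_eq_of_coprime_index c g

theorem conj_of (ha : a ∈ 𝐂₁ x) : a * x * a⁻¹ = x := by rw [mem_cent1.1 ha, mul_inv_cancel_right]

theorem fac' (c : (cl x).Coprime (cl y)) (g : G) : ∃ a ∈ 𝐂₁ x, g * y * g⁻¹ = a * y * a⁻¹ := by
  obtain ⟨a, ha, b, hb, rfl⟩ := fac c g
  exact ⟨a, ha, by conv_rhs => rw [← conj_of hb]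
                   group⟩

theorem comm_all (c : (cl x).Coprime (cl y)) (h : x ∈ 𝐂₁ y) (g : G) : x ∈ 𝐂₁ (g * y * g⁻¹) := by
  obtain ⟨a, ha, e⟩ := fac' c g
  rw [e, ← cj_cent1, ← conj_of ha]
  exact conj_mem_cj.2 h

theorem sq_of_odd (e : g * x * g⁻¹ = x⁻¹) (o : Odd (cl x)) : x * x = 1 := by
  rw [← pow_two]; exact (Cfsg.Agent.S3863.result x (isConj_iff.2 ⟨g, e⟩)).2.1 o

theorem re_sq (h : x * x = 1) : (1 : G) * x * 1⁻¹ = x⁻¹ := by
  rw [one_mul, inv_one, mul_one, inv_eq_of_mul_eq_one_right h]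

theorem re_mul (ha : a * a = 1) (hb : b * b = 1) : a * (a * b) * a⁻¹ = (a * b)⁻¹ := by
  rw [← mul_assoc, ha, one_mul, mul_inv_rev, inv_eq_of_mul_eq_one_right hb]

theorem transl (h : u * u = 1) (c : ∀ g, u ∈ 𝐂₁ (g * u * g⁻¹)) (c1 : (cl u).Coprime (cl i))
    (c2 : (cl (u * i)).Coprime (cl u)) (o : Odd (cl i)) : cl u = 1 := by
  classical
  have k1 : ∀ g, IsConj i (g * u * g⁻¹ * u * i) := fun g => by
    obtain ⟨a, ha, e⟩ := fac' c2 g
    refine isConj_iff.2 ⟨a, ?_⟩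
    rw [e, mul_assoc _ u i, ← conj_of ha]
    calc _ = a * (u * u) * i * a⁻¹ := by rw [h, mul_one]
      _ = _ := by group
  have k2 : ∀ g j, IsConj i j → IsConj i (g * u * g⁻¹ * u * j) := fun g j hj => by
    obtain ⟨k, rfl⟩ := isConj_iff.1 hj
    obtain ⟨a, ha, e⟩ := fac' c1 k
    refine (k1 (a⁻¹ * g)).trans (isConj_iff.2 ⟨a, ?_⟩)
    rw [e]
    conv_rhs => enter [1, 2]; rw [← conj_of ha]
    group
  refine index_eq_one.2 (eq_top_iff.2 fun g _ => mem_cent1.2 ?_)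
  have w : (g * u * g⁻¹ * u) * (g * u * g⁻¹ * u) = 1 := by
    have := mem_cent1.1 (c g)
    rw [mul_assoc, ← mul_assoc u, this, mul_assoc _ u u, h, mul_one, conj_mul, h, mul_one, mul_inv_cancel]
  let f : {j // IsConj i j} → {j // IsConj i j} := fun j => ⟨_, k2 g j j.2⟩
  have inv : Function.Involutive f := fun j => Subtype.ext (by
    simp only [f]; rw [← mul_assoc, w, one_mul])
  have := Fintype.ofFinite {j // IsConj i j}
  obtain ⟨j, e⟩ := Equiv.Perm.exists_fixed_point_of_prime (p := 2) (n := 1) (σ := inv.toPerm) (by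
    rw [← Nat.card_eq_fintype_card, Invol.card_isConj_eq_index, ← even_iff_two_dvd,
      Nat.not_even_iff_odd]; exact o) (Equiv.ext inv)
  have := mul_eq_right.1 (congrArg Subtype.val e)
  rw [← mul_inv_eq_iff_eq_mul, eq_inv_of_mul_eq_one_left this, inv_eq_of_mul_eq_one_right h]

theorem lift_odd {G' : Type*} [Group G'] {f : G →* G'} (s : Function.Surjective f)
    (o : Odd (♯f.ker)) {y g : G'} (e : g * y * g⁻¹ = y⁻¹) : ∃ x t, f x = y ∧ t * x * t⁻¹ = x⁻¹ := by
  classical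
  have := Finite.of_surjective f s
  obtain ⟨g, -, k, e⟩ := exists_two (mem_top y) (mem_top g) e
  obtain ⟨t0, rfl⟩ := s g
  obtain ⟨t, z, ht, hz, kt, kz, rfl⟩ := exists_piPart {2} t0
  have : f z = 1 := (k.of_mem_zpowers (by rw [← f.map_zpowers]; exact mem_map_of_mem f hz)).eq_one
    (kz.map f)
  rw [map_mul, this, mul_one] at e
  let σ : Equiv.Perm G := (MulAut.conj t).toEquiv.trans (Equiv.inv G)
  have hσ : ∀ x, σ x = (t * x * t⁻¹)⁻¹ := fun _ => rfl
  have p : ∀ x, f (σ x) = y ↔ f x = y := fun x => by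
    rw [hσ, map_inv, map_mul, map_mul, map_inv, inv_eq_iff_eq_inv, ← e]; simp
  obtain ⟨j, hj⟩ := kt.exists_pow (orderOf_pos t).ne'
  have s2 : ∀ n x, (σ ^ (2 * n)) x = t ^ (2 * n) * x * (t ^ (2 * n))⁻¹ := fun n => by
    induction n with
    | zero => simp
    | succ n ih =>
      intro x
      rw [mul_add, mul_one, pow_add, Equiv.Perm.mul_apply, ih, pow_two, Equiv.Perm.mul_apply, hσ, hσ,
        pow_add, pow_two]
      group
  have := Fintype.ofFinite {x // f x = y}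
  obtain ⟨x0, rfl⟩ := s y
  obtain ⟨x, e⟩ := Equiv.Perm.exists_fixed_point_of_prime (p := 2) (n := j + 1)
    (σ := σ.subtypePerm (p := fun x => f x = f x0) p) (by
      rw [← Nat.card_eq_fintype_card, ← even_iff_two_dvd, Nat.not_even_iff_odd]
      rwa [← Nat.card_congr (f.fiberEquivKer x0)] at o) (by
      rw [Equiv.Perm.subtypePerm_pow]
      ext x
      show (σ ^ 2 ^ (j + 1)) x = x
      rw [pow_succ', s2, mul_comm 2, pow_mul, ← hj, pow_orderOf_eq_one]
      simp)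
  exact ⟨x, t, x.2, inv_eq_iff_eq_inv.1 (congrArg Subtype.val e)⟩

theorem cl_map {G' : Type*} [Group G'] {f : G →* G'} (s : Function.Surjective f) (x : G) :
    cl (f x) ∣ cl x := by
  refine (index_dvd_of_le ?_).trans (index_map_dvd _ s)
  rintro _ ⟨a, ha, rfl⟩
  rw [mem_cent1, ← map_mul, mem_cent1.1 ha, map_mul]

variable (G) in
/-- the real class sizes are `ρ`-numbers or `ρ'`-numbers -/
def Hy (ρ : Set ℕ) : Prop := 2 ∉ ρ ∧ ∀ x g : G, g * x * g⁻¹ = x⁻¹ → PiNat ρᶜ (cl x) ∨ PiNat ρ (cl x)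

/-- a non-central involution whose class size is a `ρ`-number -/
structure Ty (ρ : Set ℕ) (i : G) : Prop where
  sq : i * i = 1
  pi : PiNat ρ (cl i)
  ne : cl i ≠ 1

theorem Ty.conj (t : Ty ρ i) (g : G) : Ty ρ (g * i * g⁻¹) :=
  ⟨by rw [conj_mul, t.sq, mul_one, mul_inv_cancel], cl_conj g i ▸ t.pi, cl_conj g i ▸ t.ne⟩

namespace Hy
variable (h : Hy G ρ)
include h

theorem odd {n : ℕ} (k : PiNat ρ n) : Odd n := by
  rw [← Nat.not_even_iff_odd, even_iff_two_dvd]; exact k.not_dvd Nat.prime_two h.1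

theorem ty1 (e : g * x * g⁻¹ = x⁻¹) (n : x * x ≠ 1) : PiNat ρᶜ (cl x) :=
  (h.2 x g e).resolve_right fun k => n (sq_of_odd e (h.odd k))

theorem ty1' (e : g * x * g⁻¹ = x⁻¹) (o : Odd (orderOf x)) : PiNat ρᶜ (cl x) := by
  by_cases n : x * x = 1
  · rw [eq_one_of_sq_of_odd n o, cl, centralizer_eq_top_iff_subset.2 (by simp), index_top]
    exact piNat_one _
  · exact h.ty1 e n

theorem map {G' : Type*} [Group G'] {f : G →* G'} (s : Function.Surjective f) (o : Odd (♯f.ker)) :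
    Hy G' ρ := ⟨h.1, fun y g e => by
  obtain ⟨x, t, rfl, e'⟩ := lift_odd s o e
  exact (h.2 x t e').imp (·.dvd (cl_map s x)) (·.dvd (cl_map s x))⟩

theorem one (t : Ty ρ i) (e : g * x * g⁻¹ = x⁻¹) (o : Odd (orderOf x)) (c : x ∈ 𝐂₁ i) : x = 1 := by
  obtain ⟨a, ha, b, hb, rfl⟩ := fac ((h.ty1' e o).coprime' t.pi) g
  have e2 : b * x * b⁻¹ = x⁻¹ := by
    rw [← conj_of (x := x⁻¹) (a := a⁻¹) (inv_mem (by
      rw [mem_cent1] at ha ⊢; exact (Commute.inv_right ha).eq)), ← e]; group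
  have c' := mem_cent1.1 c
  by_contra n
  have k := h.ty1 (x := x * i) (g := b) (by
    rw [← conj_mul, e2, conj_of hb, c', mul_inv_rev, inv_eq_of_mul_eq_one_right t.sq]) (fun e => n
      (eq_one_of_sq_of_odd (by rwa [mul_assoc, ← mul_assoc i, ← c', mul_assoc x i, t.sq, mul_one] at e) o))
  refine t.ne (t.pi.eq_one (k.dvd (index_dvd_of_le ?_)))
  rw [cent1_mul c' ((od_iff.2 o).coprime' (piElt_of_pow_eq_one Nat.prime_two (by rw [pow_two, t.sq])))]
  exact inf_le_right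

theorem syl (t : Ty ρ i) : ∃ S, Syl 2 S ⊤ ∧ S ≤ 𝐂₁ i ∧ 𝐂₁ i ≤ 𝐍 S := by
  obtain ⟨P⟩ : Nonempty (Sylow 2 (𝐂₁ i)) := inferInstance
  have n := (Cfsg.Agent.S3861.result P).1 fun x x1 o c => by
    obtain ⟨g, e⟩ := isConj_iff.1 c
    exact x1 (Subtype.ext (h.one t (congrArg Subtype.val e) (by rwa [orderOf_coe]) x.2))
  exact ⟨_, (syl_sylow P).trans_idx le_top (by rw [relIndex_top_right]; exact t.pi.to_compl_single h.1),
    map_subtype_le _, (normal_iff_map_subtype.1 n).norm⟩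

theorem sol_cent (t : Ty ρ i) : Sol (𝐂₁ i) := by
  obtain ⟨S, s, l, n⟩ := h.syl t
  exact sol_of_norm (s.of_le l le_top) n

theorem two (t : Ty ρ i) (k : PiElt {2} x) (k1 : PiNat ρᶜ (cl x)) (g : G) : x ∈ 𝐂₁ (g * i * g⁻¹) := by
  obtain ⟨S, s, l, -⟩ := h.syl t
  obtain ⟨c, -, m⟩ := s.syl_le_cj le_top k.zpowers
  have := comm_all (k1.coprime' (t.conj c).pi) (cj_cent1 c i ▸ cj_mono c l (m (mem_zpowers x))) (g * c⁻¹)
  convert this using 3; group

theorem ty2 (t : Ty ρ i) (c : ∀ a b, IsConj i a → IsConj i b → a * b = b * a)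
    (hu : u ∈ closure {a | IsConj i a}) : Abelem 2 (closure {a | IsConj i a}) ∧ (cl u = 1 ∨ Ty ρ u) := by
  have ab : Abel (closure {a | IsConj i a}) := (closure_le _).2 fun a ha => by
    rw [SetLike.mem_coe, centralizer_closure]; exact fun b hb => c b a hb ha
  have s1 : ∀ a, IsConj i a → a * a = 1 := fun a ha => by
    obtain ⟨g, rfl⟩ := isConj_iff.1 ha; exact (t.conj g).sq
  have sq : ∀ a ∈ closure {a | IsConj i a}, a * a = 1 := fun a ha => by
    induction ha using closure_induction with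
    | mem a ha => exact s1 a ha
    | one => exact mul_one 1
    | mul a b ha hb k l => rw [mul_assoc, ← mul_assoc b, ab.mul_comm hb ha, mul_assoc, l, mul_one, k]
    | inv a _ k => rw [← mul_inv_rev, k, inv_one]
  have iV : i ∈ closure {a | IsConj i a} := subset_closure (IsConj.refl i)
  have nV : ∀ g, ∀ a ∈ closure {a | IsConj i a}, g * a * g⁻¹ ∈ closure {a | IsConj i a} :=
    fun g a ha => (le_norm_of_cj_le (A := ⊤) fun g _ => by
      rw [cj_def, MonoidHom.map_closure, closure_le]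
      rintro _ ⟨a, ha, rfl⟩
      exact subset_closure (ha.trans (isConj_iff.2 ⟨g, rfl⟩))) (mem_top g) |> fun k => conj_mem_of_norm k ha
  refine ⟨.mk' Nat.prime_two ab fun a ha => by rw [pow_two, sq a ha], or_iff_not_imp_left.2 fun n =>
    ⟨sq u hu, (h.2 u 1 (re_sq (sq u hu))).resolve_left fun k => n ?_, n⟩⟩
  rcases h.2 _ 1 (re_sq (sq _ (mul_mem hu iV))) with k2 | k2
  swap
  · exact transl (sq u hu) (fun g => mem_cent1.2 (ab.mul_comm hu (nV g u hu))) (k.coprime' t.pi)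
      (k2.coprime k) (h.odd t.pi)
  have k3 : ∀ a, IsConj i a → IsConj u (u * i * a) := fun a ha => by
    obtain ⟨g, rfl⟩ := isConj_iff.1 ha
    obtain ⟨e, he, f⟩ := fac' (k2.coprime' t.pi) g
    refine isConj_iff.2 ⟨e, ?_⟩
    rw [f, ← conj_of he, conj_mul, mul_assoc u, t.sq, mul_one]
  have k4 : ∀ j, IsConj u j → ∀ a b, IsConj i a → IsConj i b → IsConj u (j * a * b) := by
    intro j hj a b ha hb
    obtain ⟨g, rfl⟩ := isConj_iff.1 hj
    obtain ⟨g', rfl⟩ := isConj_iff.1 ha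
    obtain ⟨e, he, f⟩ := fac' (k.coprime' t.pi) (g⁻¹ * g')
    refine (k3 _ (hb.trans (isConj_iff.2 ⟨(g * e)⁻¹, rfl⟩))).trans (isConj_iff.2 ⟨g * e, ?_⟩)
    rw [show g' * i * g'⁻¹ = g * (g⁻¹ * g' * i * (g⁻¹ * g')⁻¹) * g⁻¹ by group, f]
    conv_rhs => rw [← conj_of he]
    group
  have k5 : ∀ v ∈ closure {a | IsConj i a}, (∀ j, IsConj u j → IsConj u (j * v)) ∨
      ∀ j, IsConj u j → IsConj u (j * v * i) := fun v hv => by
    induction hv using closure_induction with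
    | mem a ha => exact .inr fun j hj => k4 j hj a i ha (IsConj.refl i)
    | one => exact .inl fun j hj => by rwa [mul_one]
    | mul a b ha hb k l =>
      rcases k with k | k <;> rcases l with l | l
      · exact .inl fun j hj => by rw [← mul_assoc]; exact l _ (k j hj)
      · exact .inr fun j hj => by rw [← mul_assoc]; exact l _ (k j hj)
      · exact .inr fun j hj => by
          have := l _ (k j hj)
          rwa [mul_assoc _ i, ab.mul_comm iV hb, ← mul_assoc, mul_assoc j] at this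
      · exact .inl fun j hj => by
          have := l _ (k j hj)
          rwa [mul_assoc _ i, ab.mul_comm iV hb, mul_assoc _ (b * i), mul_assoc b, t.sq, mul_one,
            mul_assoc] at this
    | inv a ha k => rwa [inv_eq_of_mul_eq_one_right (sq a ha)]
  rcases k5 u hu with k6 | k6
  · have := k6 u (IsConj.refl u)
    rw [sq u hu, isConj_one_left] at this
    rw [this, cl, centralizer_eq_top_iff_subset.2 (by simp), index_top]
  · have := k6 u (IsConj.refl u)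
    rw [sq u hu, one_mul] at this
    obtain ⟨g, rfl⟩ := isConj_iff.1 this
    exact absurd (t.pi.eq_one (cl_conj g u ▸ k)) t.ne

theorem sol_comm (t : Ty ρ i) (c : ∀ a b, IsConj i a → IsConj i b → a * b = b * a) :
    Sol (⊤ : Subgroup G) := by
  by_contra ns
  obtain ⟨P, -, ⟨n, ns⟩, mn⟩ := exists_minimal (P := fun P : Subgroup G => P ⊴ ⊤ ∧ ¬ Sol P)
    ⟨.refl _, ns⟩
  have p : P ≤ ⁅P, P⁆ := (mn _ ⟨n.der, fun s => ns (s.of_qt (der_normal P).norm
    (abel_qt_der P).sol)⟩ (der_le P)).ge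
  have iV : i ∈ closure {a | IsConj i a} := subset_closure (IsConj.refl i)
  have sy : ∀ v, Ty ρ v → ∃ S, Syl 2 S P ∧ S ≤ 𝐂₁ v ∧ P ⊓ 𝐂₁ v ≤ 𝐍 S := fun v tv => by
    obtain ⟨S, s, l, m⟩ := h.syl tv
    exact ⟨_, s.inf_normal n, inf_le_left.trans l,
      norm_inf (inf_le_right.trans m) (norm_of_le inf_le_left)⟩
  have d : ∀ x : G, (P ⊓ 𝐂₁ x).relIndex P ∣ cl x := fun x => by
    rw [inf_relIndex_left, ← relIndex_sup_norm' (.inr (le_top.trans n.norm))]
    exact relIndex_dvd_index_of_le le_sup_left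
  have tr : Tr P := fun x hx o g _ e => by
    obtain ⟨R, s, -, m⟩ := sy i t
    have k : ∀ S, Syl 2 S P → ∃ c ∈ P ⊓ 𝐂₁ x, S = cj c R := fun S hS => by
      obtain ⟨g, hg, rfl⟩ := s.syl_conj hS
      obtain ⟨a, ha, b, hb, rfl⟩ := exists_mul_of_coprime inf_le_left inf_le_left
        (((h.ty1' e o).dvd (d x)).coprime' (t.pi.dvd (d i))) hg
      exact ⟨a, ha, by rw [← cj_cj, cj_of_norm (m hb)]⟩
    intro S T hS hT
    obtain ⟨a, ha, rfl⟩ := k S hS
    obtain ⟨b, hb, rfl⟩ := k T hT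
    exact ⟨b * a⁻¹, mul_mem hb (inv_mem ha), by rw [cj_cj, inv_mul_cancel_right]⟩
  refine ns ((h.sol_cent t).mono ((tr.module p (h.ty2 t c iV).1 (le_norm_of_cj_le fun g _ => ?_)
    fun a ha => (h.ty2 t c ha).2.imp (fun e => by rw [index_eq_one.1 e]; exact le_top) (sy a)).trans
    (cent_le_cent1 iV)))
  rw [cj_def, MonoidHom.map_closure, closure_le]
  rintro _ ⟨a, ha, rfl⟩
  exact subset_closure (ha.trans (isConj_iff.2 ⟨g, rfl⟩))

theorem inv_all (t : Ty ρ i) (o : Odd (orderOf x)) (e : i * x * i⁻¹ = x⁻¹) (g : G) :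
    g * i * g⁻¹ * x * (g * i * g⁻¹)⁻¹ = x⁻¹ := by
  obtain ⟨a, ha, f⟩ := fac' ((h.ty1' e o).coprime' t.pi) g
  have := conj_of (inv_mem ha)
  calc _ = a * (i * (a⁻¹ * x * a⁻¹⁻¹) * i⁻¹) * a⁻¹ := by rw [f]; group
    _ = (a * x * a⁻¹)⁻¹ := by rw [this, e]; group
    _ = _ := by rw [conj_of ha]

theorem comm (t : Ty ρ i) (o : Odd (orderOf x)) (e : i * x * i⁻¹ = x⁻¹) (o' : Odd (orderOf y))
    (e' : i * y * i⁻¹ = y⁻¹) : y ∈ 𝐂₁ x := by
  refine mem_of_sq o' (mem_cent1.2 (mul_inv_eq_iff_eq_mul.1 ?_))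
  have : y * y = y * i * y⁻¹ * i⁻¹ := by
    calc _ = y * (i * y * i⁻¹)⁻¹ := by rw [e', inv_inv]
      _ = _ := by group
  rw [this]
  calc _ = y * i * y⁻¹ * (i⁻¹ * x * i) * (y * i * y⁻¹)⁻¹ := by group
    _ = (y * i * y⁻¹ * x * (y * i * y⁻¹)⁻¹)⁻¹ := by
      rw [show i⁻¹ * x * i = x⁻¹ by rw [← e, inv_eq_of_mul_eq_one_right t.sq]]; group
    _ = x := by rw [h.inv_all t o e, inv_inv]

theorem sol (t : Ty ρ i) : Sol (⊤ : Subgroup G) := by
  let A : Subgroup G :=
    { carrier := {x | Odd (orderOf x) ∧ i * x * i⁻¹ = x⁻¹}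
      one_mem' := ⟨by simp, by simp⟩
      mul_mem' := fun {x y} hx hy => by
        have c := mem_cent1.1 (h.comm t hx.1 hx.2 hy.1 hy.2)
        exact ⟨od_iff.1 ((od_iff.2 hx.1).mul (od_iff.2 hy.1) c.symm), by
          rw [← conj_mul, hx.2, hy.2, ← mul_inv_rev, c]⟩
      inv_mem' := fun {x} hx => ⟨by rw [orderOf_inv]; exact hx.1, by rw [← conj_inv, hx.2]⟩ }
  have nA : A.Normal := ⟨fun x hx g => ⟨by rw [orderOf_conj']; exact hx.1, by
    have := h.inv_all t hx.1 hx.2 g⁻¹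
    calc _ = g * (g⁻¹ * i * g⁻¹⁻¹ * x * (g⁻¹ * i * g⁻¹⁻¹)⁻¹) * g⁻¹ := by group
      _ = _ := by rw [this]; group⟩⟩
  have ab : Abel A := abel_of_forall fun x hx y hy => (mem_cent1.1 (h.comm t hx.1 hx.2 hy.1 hy.2)).symm
  have oA : Odd (♯A) := by
    by_contra o
    obtain ⟨x, hx, e⟩ := exists_mem_orderOf_eq Nat.prime_two (even_iff_two_dvd.1 (Nat.not_odd_iff_even.1 o))
    exact absurd (e ▸ hx.1) (by decide)
  have s := QuotientGroup.mk'_surjective A
  have k := QuotientGroup.ker_mk' A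
  by_cases c : cl (QuotientGroup.mk' A i) = 1
  · refine (ab.sol.sup' (h.sol_cent t) (le_top.trans (normalIn_top.2 nA).norm)).mono fun g _ => ?_
    have : i⁻¹ * (g * i * g⁻¹) ∈ A := by
      rw [← k, MonoidHom.mem_ker, map_mul, map_mul, map_mul, map_inv, map_inv,
        conj_of (index_eq_one.1 c ▸ mem_top _), inv_mul_cancel]
    obtain ⟨n, e⟩ := mem_zpowers_iff.1 (mem_zpowers_sq this.1)
    have m := zpow_mem this n
    refine (mul_mem_cancel_left (mem_sup_left m)).1 (mem_sup_right (mem_cent1.2 ?_))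
    generalize hb : (i⁻¹ * (g * i * g⁻¹)) ^ n = b at m
    have e2 : b * b = i⁻¹ * (g * i * g⁻¹) := by rw [← hb, ← (Commute.refl _).mul_zpow, e]
    calc _ = b * i * (b * b) * g := by rw [e2]; group
      _ = b * (i * b * i⁻¹) * i * b * g := by group
      _ = _ := by rw [m.2]; group
  have h' := h.map s (by rw [k]; exact oA)
  have t' : Ty ρ (QuotientGroup.mk' A i) := ⟨by rw [← map_mul, t.sq, map_one], t.pi.dvd (cl_map s i), c⟩
  have := h'.sol_comm t' fun a b ha hb => by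
    obtain ⟨a, rfl⟩ := isConj_iff.1 ha
    obtain ⟨b, rfl⟩ := isConj_iff.1 hb
    obtain ⟨a, rfl⟩ := s a
    obtain ⟨b, rfl⟩ := s b
    have ta := (t.conj a).sq
    have tb := (t.conj b).sq
    simp only [← map_inv, ← map_mul]
    generalize ha : a * i * a⁻¹ = a' at ta
    generalize hb : b * i * b⁻¹ = b' at tb
    obtain ⟨y, z, hy, hz, ky, kz, e⟩ := exists_piPart {2} (a' * b')
    have r : ∀ w ∈ zpowers (a' * b'), a' * w * a'⁻¹ = w⁻¹ := by
      rintro _ ⟨n, rfl⟩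
      rw [← conj_zpow, re_mul ta tb, inv_zpow]
    have y2 : y * y = 1 := by
      by_contra n
      have := h.two t ky (h.ty1 (r y hy) n) a
      rw [ha, mem_cent1_comm] at this
      exact n (by nth_rw 1 [← conj_of this, r y hy]; exact inv_mul_cancel y)
    have zA : z ∈ A := by
      have := h.inv_all (t.conj a) (od_iff.1 kz) (ha ▸ r z hz) a⁻¹
      exact ⟨od_iff.1 kz, by rw [← this]; group⟩
    have q : QuotientGroup.mk' A (a' * b') = QuotientGroup.mk' A y := by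
      rw [← k, MonoidHom.mem_ker] at zA
      rw [← e, map_mul, zA, mul_one]
    have : b' * a' = (a' * b')⁻¹ := by
      rw [mul_inv_rev, inv_eq_of_mul_eq_one_right ta, inv_eq_of_mul_eq_one_right tb]
    rw [this, map_inv, q, ← map_inv, inv_eq_of_mul_eq_one_right y2]
  have i1 : Group.IsSolvable A := ab.sol
  have i2 : Group.IsSolvable (G ⧸ A) := @solvable_of_surjective _ _ _ _ (⊤ : Subgroup (G ⧸ A)).subtype
    (fun x => ⟨⟨x, mem_top x⟩, rfl⟩) this
  have := solvable_of_ker_le_range A.subtype (QuotientGroup.mk' A) (by rw [k, range_subtype])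
  infer_instance

end Hy
end CF.RC
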