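/-
Groups whose prime graph on real class sizes is disconnected: the subgroup generated by the 2-elements.
-/
import Cfsg.Agent.Fgs1.RC2
import Cfsg.Agent.Sig.SftB
set_option autoImplicit false
set_option linter.unusedSectionVars false

namespace CF.RC
open Subgroup Cfsg CF.BG CF.Sig CF.GW

variable {G : Type*} [Group G] [Finite G] {T L : Subgroup G} {a b g i t x : G} {π ρ : Set ℕ}

theorem setup (n : ρ.Nonempty) (h2 : 2 ∉ ρ)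
    (s : ∀ q ∈ ρ, q.Prime ∧ ∃ n ∈ {n : ℕ | ∃ x : G, IsConj x x⁻¹ ∧ (𝐂₁ x).index = n}, q ∣ n)
    (c : ∀ q : ℕ, q.Prime → (∃ n ∈ {n : ℕ | ∃ x : G, IsConj x x⁻¹ ∧ (𝐂₁ x).index = n}, q ∣ n) →
      q ∈ π ∨ q ∈ ρ)
    (e : ∀ a ∈ π, ∀ b ∈ ρ, ∀ n ∈ {n : ℕ | ∃ x : G, IsConj x x⁻¹ ∧ (𝐂₁ x).index = n}, ¬ (a ∣ n ∧ b ∣ n)) :
    Hy G ρ ∧ ∃ i : G, Ty ρ i := by
  have k : ∀ x : G, IsConj x x⁻¹ → ∀ b ∈ ρ, b ∣ cl x → PiNat ρ (cl x) := fun x hx b hb d q hq dv =>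
    (c q hq ⟨_, ⟨x, hx, rfl⟩, dv⟩).resolve_left fun a => e q a b hb _ ⟨x, hx, rfl⟩ ⟨dv, d⟩
  have h : Hy G ρ := ⟨h2, fun x g f => or_iff_not_imp_right.2 fun m q _ dv hb =>
    m (k x (isConj_iff.2 ⟨g, f⟩) q hb dv)⟩
  obtain ⟨q, hq⟩ := n
  obtain ⟨p, _, ⟨x, hx, rfl⟩, d⟩ := s q hq
  obtain ⟨g, f⟩ := isConj_iff.1 hx
  exact ⟨h, x, sq_of_odd f (h.odd (k x hx q hq d)), k x hx q hq d,
    fun e => p.ne_one (Nat.dvd_one.1 (e ▸ d))⟩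

theorem cent_of_two (h : ∀ x ∈ T, ∀ g : G, g * x * g⁻¹ = x⁻¹ → x = 1) (n : b ∈ 𝐍 T) (k : PiElt {2} b) :
    b ∈ 𝐂 T := by
  obtain ⟨j, e⟩ := k.exists_pow (orderOf_pos b).ne'
  have : b ^ 2 ^ j ∈ 𝐂 T := by rw [← e, pow_orderOf_eq_one]; exact one_mem _
  clear e k
  induction j generalizing b with
  | zero => simpa using this
  | succ j ih =>
    rw [pow_succ', pow_mul] at this
    have c := ih (pow_mem n 2) this
    intro r hr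
    have := h _ (mul_mem (inv_mem hr) (conj_mem_of_norm n hr)) b (by
      calc _ = b * r⁻¹ * b⁻¹ * (b ^ 2 * r) * (b ^ 2)⁻¹ := by group
        _ = _ := by rw [← c r hr]; group)
    exact (mul_inv_eq_iff_eq_mul.1 (inv_mul_eq_one.1 this).symm).symm

theorem two_mem_O (s : Sol (⊤ : Subgroup G)) (h2 : 2 ∉ π)
    (h : ∀ x g : G, PiElt π x → g * x * g⁻¹ = x⁻¹ → x = 1) (k : PiElt {2} t) : t ∈ 𝐎 πᶜ ⊤ := by
  obtain ⟨T, hT⟩ := (s.mono (O2_le πᶜ π ⊤)).exists_hall π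
  obtain ⟨S, hS⟩ := exists_syl 2 (⊤ ⊓ 𝐍 T)
  have l : S ≤ O2 πᶜ π ⊤ := (le_O_of_norm_O2 s hT le_top (hS.pi.of_single' h2) ((cent_symm fun b hb =>
    cent_of_two (fun x hx g => h x g (hT.pi.elt hx)) (hS.le hb).2 (hS.pi.elt hb)).trans
      (cent_le_norm _))).trans (O_le_O2 _ _ _)
  have n := (O2_normal πᶜ π (⊤ : Subgroup G)).norm
  refine (hall_O_O2 π ⊤).mem_normal (le_top.trans (O_normal _ _).norm) (k.mem_of_relIndex (mem_top t) n ?_)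
    (k.of_single' h2)
  have e := hT.frattini_sup (s.mono le_top) (O2_normal _ _ _)
  generalize O2 πᶜ π (⊤ : Subgroup G) = N at *
  rw [← e, relIndex_sup_norm' (.inl (le_top.trans n))]
  exact hS.idx.dvd (relIndex_dvd_of_le_left _ l)

theorem idx_dvd [L.Normal] (x : L) : cl x ∣ cl (x : G) := by
  have : 𝐂₁ x = (𝐂₁ (x : G)).subgroupOf L := by
    ext y; rw [mem_subgroupOf, mem_cent1, mem_cent1, Subtype.ext_iff]; rfl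
  rw [cl, this]
  change (𝐂₁ (x : G)).relIndex L ∣ _
  rw [← relIndex_sup_norm' (.inr (le_top.trans (normalIn_top.2 ‹_›).norm))]
  exact relIndex_dvd_index_of_le le_sup_left

theorem Hy.size (h : Hy G ρ) (t : Ty ρ i) [L.Normal] (l : L ≤ closure {g : G | ∃ k : ℕ, orderOf g = 2 ^ k})
    (x : L) (r : IsConj x x⁻¹) : Odd (cl x) ∨ ∃ j, cl x = 2 ^ j := by
  obtain ⟨g, e⟩ := isConj_iff.1 r
  refine (h.2 x g (congrArg Subtype.val e)).symm.imp (fun k => h.odd (k.dvd (idx_dvd x)))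
    fun k => PiNat.exists_pow (fun q hq d => ?_) index_ne_zero_of_finite
  have s := h.sol t
  have : L ≤ 𝐎 (insert 2 ρ)ᶜᶜ ⊤ := l.trans ((closure_le _).2 fun a ⟨j, ha⟩ => two_mem_O s (by simp)
    (fun y g k e => ?_) (by rw [PiElt, ha]; exact piNat_pow_self Nat.prime_two j))
  · have p : PiGrp (insert 2 ρ) L := ((O_pi _ _).le this).of_compl_compl
    exact (p q hq (d.trans (index_dvd_card _))).resolve_right (k q hq (d.trans (idx_dvd x)))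
  obtain ⟨H, hH⟩ := (s.mono (le_top : 𝐂₁ i ≤ ⊤)).exists_hall ρᶜ
  obtain ⟨c, -, m⟩ := (hH.trans_idx le_top (by rw [relIndex_top_right]; exact t.pi.compl_compl)).conj_mem s
    (mem_top y) (k.mono (Set.compl_subset_compl.2 (Set.subset_insert _ _)))
  have := h.one t (x := c * y * c⁻¹) (g := c * g * c⁻¹) (by rw [conj_inv (a := y), ← e]; group)
    (od_iff.1 ((k.to_compl_single' (Set.mem_insert _ _)).conj c)) (hH.le m)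
  simpa using this

theorem Hy.second (h : Hy G ρ) (t : Ty ρ i) (e : L = closure {g : G | ∃ k : ℕ, orderOf g = 2 ^ k}) :
    (∀ P : Sylow 2 G, (P : Subgroup G).Normal) ∨ ((∃ π₁ π₂ : Set ℕ, π₁.Nonempty ∧ π₂.Nonempty ∧
      Disjoint π₁ π₂ ∧ (∀ q ∈ π₁ ∪ π₂, q.Prime ∧
        ∃ n ∈ {n : ℕ | ∃ x : L, IsConj x x⁻¹ ∧ (𝐂₁ x).index = n}, q ∣ n) ∧
      (∀ q : ℕ, q.Prime → (∃ n ∈ {n : ℕ | ∃ x : L, IsConj x x⁻¹ ∧ (𝐂₁ x).index = n}, q ∣ n) →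
        q ∈ π₁ ∨ q ∈ π₂) ∧
      ∀ a ∈ π₁, ∀ b ∈ π₂, ∀ n ∈ {n : ℕ | ∃ x : L, IsConj x x⁻¹ ∧ (𝐂₁ x).index = n}, ¬ (a ∣ n ∧ b ∣ n)) ∧
      ∀ n ∈ {n : ℕ | ∃ x : L, IsConj x x⁻¹ ∧ (𝐂₁ x).index = n}, Odd n ∨ ∃ j : ℕ, n = 2 ^ j) := by
  have m : ∀ a : G, PiElt {2} a → a ∈ L := fun a k =>
    e ▸ subset_closure (k.exists_pow (orderOf_pos a).ne')
  have : L.Normal := normalIn_top.1 ⟨le_top, le_norm_of_cj_le fun g _ => by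
    rw [e, cj_def, MonoidHom.map_closure, closure_le]
    rintro _ ⟨a, ⟨k, ha⟩, rfl⟩
    exact subset_closure ⟨k, (orderOf_conj' _ _).trans ha⟩⟩
  have z : ∀ n ∈ {n : ℕ | ∃ x : L, IsConj x x⁻¹ ∧ (𝐂₁ x).index = n}, Odd n ∨ ∃ j : ℕ, n = 2 ^ j := by
    rintro _ ⟨x, r, rfl⟩; exact h.size t e.le x r
  refine or_iff_not_imp_left.2 fun n => ⟨?_, z⟩
  obtain ⟨P, n⟩ := not_forall.1 n
  rw [← Cfsg.Agent.S3861.result P] at n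
  push Not at n
  obtain ⟨x, x1, o, r⟩ := n
  obtain ⟨hx, r'⟩ := (Cfsg.Agent.S3863.result x r).2.2 L (Odd.of_dvd_nat (by
    rw [← Nat.not_even_iff_odd, even_iff_two_dvd]; exact P.not_dvd_index)
    (index_dvd_of_le fun a ha => m a ((piGrp_of_isPGroup Nat.prime_two P.isPGroup').elt ha)))
  have iL := m i (piElt_of_pow_eq_one Nat.prime_two (by rw [pow_two, t.sq]))
  have i1 : cl (⟨i, iL⟩ : L) ≠ 1 := fun k => by
    obtain ⟨g, f⟩ := isConj_iff.1 r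
    have : (⟨x, hx⟩ : L) ∈ 𝐂₁ (⟨i, iL⟩ : L) := index_eq_one.1 k ▸ mem_top _
    exact x1 (h.one t f o (mem_cent1.2 (congrArg Subtype.val (mem_cent1.1 this))))
  refine ⟨{2}, {q | q ≠ 2 ∧ q.Prime ∧ ∃ n ∈ {n : ℕ | ∃ x : L, IsConj x x⁻¹ ∧ (𝐂₁ x).index = n}, q ∣ n},
    ⟨2, rfl⟩, ⟨_, fun k => ?_, Nat.minFac_prime i1, _, ⟨_, isConj_iff.2 ⟨1, re_sq (Subtype.ext t.sq)⟩, rfl⟩,
      Nat.minFac_dvd _⟩, Set.disjoint_left.2 fun q a b => b.1 a, ?_,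
    fun q hq d => or_iff_not_imp_left.2 fun k => ⟨k, hq, d⟩, ?_⟩
  · exact (h.odd (t.pi.dvd (idx_dvd ⟨i, iL⟩))).not_two_dvd_nat (k ▸ Nat.minFac_dvd _)
  · rintro q (rfl | k)
    · refine ⟨Nat.prime_two, _, ⟨_, r', rfl⟩, by_contra fun k => x1 (eq_one_of_sq_of_odd ?_ o)⟩
      obtain ⟨g, f⟩ := isConj_iff.1 r'
      exact congrArg Subtype.val (sq_of_odd f (Nat.not_even_iff_odd.1 fun a => k a.two_dvd))
    · exact k.2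
  · rintro _ rfl b hb n hn ⟨d, d'⟩
    rcases z n hn with k | ⟨j, rfl⟩
    · exact k.not_two_dvd_nat d
    · exact hb.1 ((Nat.prime_dvd_prime_iff_eq hb.2.1 Nat.prime_two).1 (hb.2.1.dvd_of_dvd_pow d'))

theorem exists_even (h : Hy G π) (ta : Ty π a) (tb : Ty ρ b) (d : Disjoint π ρ) :
    ∃ n ∈ {n : ℕ | ∃ x : G, IsConj x x⁻¹ ∧ (𝐂₁ x).index = n}, 2 ∣ n := by
  by_contra n
  have o : ∀ x g : G, g * x * g⁻¹ = x⁻¹ → Odd (cl x) := fun x g e =>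
    Nat.not_even_iff_odd.1 fun k => n ⟨_, ⟨x, isConj_iff.2 ⟨g, e⟩, rfl⟩, k.two_dvd⟩
  have c : ∀ x y : G, x * x = 1 → y * y = 1 → y * x = x * y := fun x y hx hy => by
    have := sq_of_odd (re_mul hx hy) (o _ _ (re_mul hx hy))
    rw [← inv_eq_of_mul_eq_one_right this, mul_inv_rev, inv_eq_of_mul_eq_one_right hx,
      inv_eq_of_mul_eq_one_right hy]
  have c' : ∀ x : G, x * x = 1 → ∀ g, x ∈ 𝐂₁ (g * x * g⁻¹) := fun x hx g =>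
    mem_cent1.2 (c _ _ (by rw [conj_mul, hx, mul_one, mul_inv_cancel]) hx)
  have kb : PiNat πᶜ (cl b) := tb.pi.mono d.subset_compl_left
  rcases h.2 _ _ (re_mul ta.sq tb.sq) with k | k
  · exact ta.ne (transl ta.sq (c' a ta.sq) (ta.pi.coprime kb) (k.coprime' ta.pi) (o _ _ (re_sq tb.sq)))
  · exact tb.ne (transl tb.sq (c' b tb.sq) (kb.coprime' ta.pi) (c a b ta.sq tb.sq ▸ k.coprime kb)
      (o _ _ (re_sq ta.sq)))

theorem setup' (h₁ : π.Nonempty) (h₂ : ρ.Nonempty) (d : Disjoint π ρ)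
    (s : ∀ q ∈ π ∪ ρ, q.Prime ∧ ∃ n ∈ {n : ℕ | ∃ x : G, IsConj x x⁻¹ ∧ (𝐂₁ x).index = n}, q ∣ n)
    (c : ∀ q : ℕ, q.Prime → (∃ n ∈ {n : ℕ | ∃ x : G, IsConj x x⁻¹ ∧ (𝐂₁ x).index = n}, q ∣ n) →
      q ∈ π ∨ q ∈ ρ)
    (e : ∀ a ∈ π, ∀ b ∈ ρ, ∀ n ∈ {n : ℕ | ∃ x : G, IsConj x x⁻¹ ∧ (𝐂₁ x).index = n}, ¬ (a ∣ n ∧ b ∣ n)) :
    (∃ n ∈ {n : ℕ | ∃ x : G, IsConj x x⁻¹ ∧ (𝐂₁ x).index = n}, 2 ∣ n) ∧
      ∃ σ, Hy G σ ∧ ∃ i : G, Ty σ i := by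
  have k1 := fun h => setup h₂ h (fun q a => s q (.inr a)) c e
  have k2 := fun h => setup h₁ h (fun q a => s q (.inl a)) (fun q a b => (c q a b).symm)
    fun a ha b hb n hn k => e b hb a ha n hn k.symm
  by_cases h : 2 ∈ ρ
  · exact ⟨(s 2 (.inr h)).2, _, k2 (Set.disjoint_right.1 d h)⟩
  refine ⟨?_, _, k1 h⟩
  by_cases h' : 2 ∈ π
  · exact (s 2 (.inl h')).2
  obtain ⟨ha, a, ta⟩ := k2 h'
  obtain ⟨-, b, tb⟩ := k1 h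
  exact exists_even ha ta tb d

end CF.RC
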