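import Cfsg.Agent.Fgs1.K3
import Cfsg.Agent.BN.SzSub
import Cfsg.Agent.BN.SzAut
import Cfsg.Agent.BN.SzSol
import Cfsg.Agent.BN.SzSchur
import Cfsg.Agent.CIT.Spec

/-! Consequences of the classification of the simple groups of order prime to three. -/

set_option autoImplicit false
set_option linter.unusedSectionVars false

namespace CF.Fgs1
open Subgroup Cfsg CF.BG CF.BN.Suz
open CF.Ab2 (NS ns_top p2)

section
variable {F : Type*} [Field F] [Finite F] {T : Tits F} {G : Type*} [Group G] (D : SzData T G)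
  {m : ℕ} {M : Subgroup G} {x : G}

include D in
theorem sz_ord_le (x : G) : orderOf x ≤ Nat.card F ^ 2 + 1 := by
  have := D.finite
  have : 1 < Nat.card F := Finite.one_lt_card
  rcases D.trichotomy x with ⟨g, h⟩ | ⟨g, h⟩ | h
  · exact (orderOf_le_of_pow_eq_one (by decide) ((D.conj g).pow_four_of_mem_U h)).trans (by nlinarith)
  · have := Nat.le_of_dvd Nat.card_pos (orderOf_dvd_natCard _ h)
    rw [(D.conj g).card_H] at this
    nlinarith [Nat.sub_le (Nat.card F) 1]
  · exact Nat.le_of_dvd (Nat.succ_pos _) h.orderOf_dvd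

include D in
theorem sz_sol (hF : Nat.card F = 2 ^ (2 * m + 1)) (h : M ≠ ⊤) (hx : x ∈ M)
    (o : Nat.card F - 1 ≤ orderOf x) : Group.IsSolvable M := by
  refine (D.isSolvable_or_eq_sub M).resolve_right ?_
  rintro ⟨g, K, k, rfl⟩
  obtain ⟨E⟩ := (D.conj g).nonempty_subData K
  have h1 := sz_ord_le E ⟨x, hx⟩
  have h2 := card_subfield_cube_le hF (K := K) fun e => h (e ▸ (D.conj g).sub_top)
  rw [orderOf_mk] at h1
  have : Nat.card F ≤ Nat.card K ^ 2 + 2 := by omega
  nlinarith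

include D in
theorem sz_coatom1 (hm : 1 ≤ m) (hF : Nat.card F = 2 ^ (2 * m + 1)) :
    ∃ M : Subgroup G, IsCoatom M ∧ ♯M = 2 * (Nat.card F - 1) := by
  have := D.finite
  have h8 := eight_le_natCard hm hF
  have u := exists_unit_ne_one (F := F) (by omega)
  have c := D.card_normalizer_H u
  obtain ⟨M, hM, l⟩ := (eq_top_or_exists_le_coatom (𝐍 D.H)).resolve_left fun e => by
    have := D.index_normalizer_H (by omega)
    rw [e, index_top] at this
    nlinarith
  obtain ⟨x, hx⟩ := D.isCyclic_H.exists_ofOrder_eq_natCard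
  have lH := (le_norm_self _).trans l
  refine ⟨M, hM, le_antisymm ?_ (c ▸ card_le_of_le l)⟩
  rcases D.solvable_cases (sz_sol D hF hM.1 (lH x.2) (by rw [orderOf_coe, hx, D.card_H])) with
    ⟨g, h⟩ | ⟨g, h⟩ | ⟨y, hy, h⟩
  · obtain ⟨t, ht⟩ := u
    have h1 := D.mem_conj_B_iff_smul.1 (h (l D.w_mem_normalizer_H))
    rcases (D.h_smul_eq_iff ht).1 (D.mem_conj_B_iff_smul.1 (h (lH (D.h_mem_H t)))) with e | e
    · rw [e, D.w_smul_inf] at h1; exact (D.pt_ne_inf _ _ h1).elim
    · rw [e, D.w_smul_zero] at h1; exact (D.pt_ne_inf _ _ h1.symm).elim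
  · exact (D.conj g).card_normalizer_H u ▸ card_le_of_le h
  · have d := card_dvd_of_le (lH.trans h)
    rw [hy.card_normalizer (sq_two_pow hF) h8, D.card_H] at d
    have := (((Nat.coprime_two_right.2 T.odd_card_sub_one).pow_right 2).mul_right
      ((coprime_sq_add_one T.even_card hy.card_centralizer_dvd).coprime_mul_left_right.symm)
        ).eq_one_of_dvd d
    omega

include D in
theorem sz_coatom2 (hm : 1 ≤ m) (hF : Nat.card F = 2 ^ (2 * m + 1)) :
    ∃ M : Subgroup G, IsCoatom M ∧ ♯M = 4 * (Nat.card F + 2 ^ (m + 1) + 1) := by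
  have := D.finite
  have h8 := eight_le_natCard hm hF
  have hr := sq_two_pow hF
  generalize 2 ^ (m + 1) = r at hr ⊢
  obtain ⟨x, -, hx, -, c1, -, c, -⟩ := D.exists_tori hr h8
  obtain ⟨M, hM, l⟩ := (eq_top_or_exists_le_coatom (𝐍 (𝐂₁ x))).resolve_left fun e => by
    have := D.isSolvable_normalizer hr h8 hx.ne_one hx.odd
    rw [e] at this
    exact D.not_isSolvable (by omega) (Group.isSolvable_of_surjective (f := (⊤ : Subgroup G).subtype)
      fun g => ⟨⟨g, trivial⟩, rfl⟩)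
  obtain ⟨z, hz⟩ := hx.isCyclic_centralizer.exists_ofOrder_eq_natCard
  have lH := (le_norm_self _).trans l
  refine ⟨M, hM, le_antisymm ?_ (c ▸ card_le_of_le l)⟩
  rcases D.solvable_cases (sz_sol D hF hM.1 (lH z.2) (by rw [orderOf_coe, hz, c1]; omega)) with
    ⟨g, h⟩ | ⟨g, h⟩ | ⟨y, hy, h⟩
  · exact (hx.not_mem_conj_B g (h (lH (mem_cent1.2 rfl)))).elim
  · have d := card_dvd_of_le (lH.trans h)
    rw [(D.conj g).card_normalizer_H (exists_unit_ne_one (by omega))] at d
    have := (coprime_sq_add_one T.even_card hx.card_centralizer_dvd).eq_one_of_dvd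
      (d.trans (mul_dvd_mul_right (dvd_mul_right _ _) _))
    omega
  · have := card_le_of_le h
    rw [hy.card_normalizer hr h8] at this
    rcases hy.card_centralizer hr h8 with e | e <;> omega

end

variable {G : Type*} [Group G] [Finite G] {K L M N : Subgroup G}

theorem suz_card (n : NS K) (h : ¬ 3 ∣ ♯K) :
    ∃ k, 1 ≤ k ∧ ♯K = (2 ^ (2 * k + 1)) ^ 2 * ((2 ^ (2 * k + 1)) ^ 2 + 1) * (2 ^ (2 * k + 1) - 1) :=
  haveI := n.simple
  (Bender.isSuzuki_of_iso (suz_of_three n.top h)).2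

theorem logn_sz (k : ℕ) : ((2 ^ (2 * k + 1)) ^ 2 * ((2 ^ (2 * k + 1)) ^ 2 + 1) *
    (2 ^ (2 * k + 1) - 1)).factorization 2 = 4 * k + 2 := by
  have e : Even (2 ^ (2 * k + 1)) := (Nat.even_pow' (by omega)).2 even_two
  have o1 : Odd ((2 ^ (2 * k + 1)) ^ 2 + 1) := (e.pow_of_ne_zero two_ne_zero).add_one
  have o2 : Odd (2 ^ (2 * k + 1) - 1) := Nat.Even.sub_odd Nat.one_le_two_pow e odd_one
  rw [mul_assoc, Nat.factorization_mul (by positivity) (o1.mul o2).pos.ne', Finsupp.add_apply,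
    Nat.factorization_eq_zero_of_not_dvd (o1.mul o2).not_two_dvd_nat, ← pow_mul,
    p2.factorization_pow, Finsupp.single_eq_same]
  ring

theorem normal_coatom (h : IsCoatom M) (n : N ⊴ ⊤) : ♯N ∣ ♯M ∨ N.index ∣ ♯M := by
  by_cases l : N ≤ M
  · exact .inl (card_dvd_of_le l)
  have := normalIn_top.1 n
  rw [← relIndex_top_right, ← h.2 (N ⊔ M) (right_lt_sup.2 l), relIndex_sup_left]
  exact .inr (relIndex_dvd_card _ _)

theorem ns_of_simple (s : ∀ N, N ⊴ K → N = ⊥ ∨ N = K) (e : 2 ∣ ♯K) (c : ♯K ≠ 2) : NS K := by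
  have k1 : K ≠ ⊥ := by rintro rfl; simp at e
  refine ⟨k1, (s _ (der_normal K)).resolve_left fun a => ?_, s⟩
  obtain ⟨x, hx, i⟩ := Bender.exists_iv (X := K) fun o => o.not_two_dvd_nat e
  have l := zpowers_le.2 hx
  rcases s _ ⟨l, norm_of_cent (cent_mono (der_eq_bot.1 a) le_rfl l)⟩ with k | k
  exacts [i.ne (zpowers_eq_bot.1 k), c (k ▸ i.card)]

theorem sz_recog {m : ℕ} (hm : 1 ≤ m) {q : ℕ} (hq : q = 2 ^ (2 * m + 1))
    (c : Nat.card G = q ^ 2 * (q ^ 2 + 1) * (q - 1)) (h3 : ¬ 3 ∣ Nat.card G) {M₁ M₂ : Subgroup G}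
    (h1 : IsCoatom M₁) (h2 : IsCoatom M₂) (c1 : ♯M₁ = 2 * (q - 1))
    (c2 : ♯M₂ = 4 * (q + 2 ^ (m + 1) + 1)) : NS (⊤ : Subgroup G) := by
  have h8 : 8 ≤ q := hq ▸ Nat.pow_le_pow_right (n := 2) two_pos (by omega : 3 ≤ _)
  have ev : Even q := hq ▸ (Nat.even_pow' (by omega)).2 even_two
  obtain ⟨a1, -, a3⟩ := tori_arith ev (sq_two_pow hq) h8
  have f : (Nat.card G).factorization 2 = 4 * m + 2 := by rw [c, hq, logn_sz]
  clear hq
  generalize 2 ^ (m + 1) = r at *
  have od : Odd (q - 1) := Nat.Even.sub_odd (by omega) ev odd_one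
  have g : ∀ d, d ∣ ♯M₁ → d ∣ ♯M₂ → d ∣ 2 := fun d a b => by
    have := Nat.dvd_gcd a b
    rwa [c1, c2, show 4 = 2 * 2 from rfl, mul_assoc, Nat.gcd_mul_left, ((Nat.coprime_two_right.2 od).mul_right
      (coprime_sq_add_one ev (a1 ▸ dvd_mul_right _ _)).coprime_mul_left_right.symm).gcd_eq_one] at this
  have big : ♯M₁ * ♯M₂ < Nat.card G := by
    rw [c1, c2, c, ← a1]
    have : 0 < (q - 1) * (q + r + 1) := Nat.mul_pos (by omega) (by omega)
    have : 8 < q ^ 2 * (q - r + 1) := by nlinarith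
    nlinarith
  have p := Nat.mul_pos (card_pos' M₁) (card_pos' M₂)
  have D : ∀ N, N ⊴ (⊤ : Subgroup G) → ♯N ∣ 2 ∨ N.index ∣ 2 := fun N n => by
    have e := N.card_mul_index
    rcases normal_coatom h1 n with a | a <;> rcases normal_coatom h2 n with b | b
    · exact .inl (g _ a b)
    · exact absurd (Nat.le_of_dvd p (e ▸ mul_dvd_mul a b)) big.not_ge
    · exact absurd (Nat.le_of_dvd p (e ▸ mul_comm (♯N) _ ▸ mul_dvd_mul a b)) big.not_ge
    · exact .inr (g _ a b)
  have big2 : 4 * ♯M₁ < Nat.card G := by nlinarith [card_pos' M₁]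
  have two : ∀ {n : ℕ}, 2 * n = Nat.card G → n.factorization 2 = 4 * m + 1 := fun {n} e => by
    rw [← e, Nat.factorization_mul two_ne_zero (by rintro rfl; omega), Finsupp.add_apply,
      p2.factorization_self] at f
    omega
  have ns : ∀ {n : ℕ}, 2 * n = Nat.card G → 2 ∣ n ∧ n ≠ 2 ∧ ¬ 3 ∣ n ∧
      ∀ k, n ≠ (2 ^ (2 * k + 1)) ^ 2 * ((2 ^ (2 * k + 1)) ^ 2 + 1) * (2 ^ (2 * k + 1) - 1) :=
    fun {n} e => ⟨Nat.dvd_of_factorization_pos (by rw [two e]; omega), by omega,
      fun d => h3 (e ▸ d.mul_left _), fun k a => by have := two e; rw [a, logn_sz] at this; omega⟩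
  have i2 : ∀ N, N ⊴ (⊤ : Subgroup G) → N.index = 2 → ♯(M₁ ⊓ N : Subgroup G) = q - 1 := fun N n i => by
    have := card_inf_mul_relIndex N M₁
    have a := normalIn_top.1 n
    have b : N.relIndex M₁ = 2 :=
      ((Nat.dvd_prime p2).1 (i ▸ relIndex_dvd_index_of_normal N M₁)).resolve_left fun e => by
        have := N.card_mul_index
        rw [i, (h1.le_iff.1 (relIndex_eq_one.1 e)).resolve_left (by rintro rfl; simp at i)] at this
        omega
    rw [b, inf_comm] at this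
    omega
  have c2 : ∀ N, N ⊴ (⊤ : Subgroup G) → ♯N ≠ 2 := fun N n e => by
    have e1 : 2 * ♯(qt N ⊤) = Nat.card G := by
      rw [card_qt n.norm, relIndex_top_right, ← e, N.card_mul_index]
    obtain ⟨b1, b2, b3, b4⟩ := ns e1
    refine (suz_card (ns_of_simple (fun X x => ?_) b1 b2) b3).elim fun k a => b4 k a.2
    have y := x.qp_of_qt n
    rcases D _ y with d | d
    · rw [card_qp, e] at d
      exact .inl (card_eq_one'.1 (by have := Nat.le_of_dvd two_pos d; have := card_pos' X; omega))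
    rcases (Nat.dvd_prime p2).1 d with d | d
    · exact .inr (by rw [← qt_qp X, index_eq_one.1 d])
    have l : N ≤ M₁ := by
      by_contra l
      have a := normalIn_top.1 n
      have := relIndex_dvd_card N M₁
      rw [← relIndex_sup_left, h1.2 (N ⊔ M₁) (right_lt_sup.2 l), relIndex_top_right] at this
      have := Nat.le_of_dvd (card_pos' _) this
      have := N.card_mul_index
      rw [e] at this; omega
    exact (od.not_two_dvd_nat (e ▸ i2 _ y d ▸ card_dvd_of_le (le_inf l (le_qp X)))).elim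
  refine ns_of_simple (fun N n => ?_) (by rw [card_top]; exact Nat.dvd_of_factorization_pos (by omega))
    (by rw [card_top]; omega)
  by_contra! k
  have i : N.index = 2 := by
    rcases D N n with d | d <;> rcases (Nat.dvd_prime p2).1 d with d | d
    exacts [(k.1 (card_eq_one'.1 d)).elim, (c2 N n d).elim, (k.2 (index_eq_one.1 d)).elim, d]
  have e1 : 2 * ♯N = Nat.card G := by rw [← N.card_mul_index, i, mul_comm]
  obtain ⟨b1, b2, b3, b4⟩ := ns e1
  refine (suz_card (ns_of_simple (fun L l => ?_) b1 b2) b3).elim fun k a => b4 k a.2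
  have E : ∀ X, X ≤ N → X ⊴ ⊤ → X = ⊥ ∨ X = N := fun X x y => by
    rcases D X y with d | d <;> rcases (Nat.dvd_prime p2).1 d with d | d
    exacts [.inl (card_eq_one'.1 d), (c2 X y d).elim, (k.2 (eq_top_iff.2 (index_eq_one.1 d ▸ x))).elim,
      .inr (eq_of_le_of_card_ge x (by have := X.card_mul_index; rw [d] at this; omega))]
  obtain ⟨t, ht⟩ := index_eq_two_iff'.1 i
  have l' : cj t L ⊴ N := cj_of_norm (n.norm (mem_top t)) ▸ l.cj t
  have tt : cj t (cj t L) = L := by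
    rw [cj_cj]; exact cj_of_norm (l.norm ((mul_mem_iff_of_index_two i).2 Iff.rfl))
  have nm : ∀ X, X ⊴ N → cj t X = X → X ⊴ ⊤ := fun X x e => ⟨le_top, fun g _ => by
    rcases (ht g).or with a | a
    · simpa using mul_mem (inv_mem (cj_eq_self.1 e)) (x.norm a)
    · exact x.norm a⟩
  by_contra! j
  have e2 := (E _ (inf_le_left.trans l.le) (nm _ (l.inf l') (by rw [cj_inf, tt, inf_comm]))).resolve_right
    fun e => j.2 (le_antisymm l.le (e.ge.trans inf_le_left))
  have e3 := (E _ (sup_le l.le l'.le) (nm _ (l.sup l') (by rw [cj_sup, tt, sup_comm]))).resolve_left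
    fun e => j.1 (BG.eq_bot_mono e le_sup_left)
  have e4 := (SDProd.of_normal l e3 e2).card
  have := two e1
  rw [← e4, card_cj, Nat.factorization_mul (card_pos' L).ne' (card_pos' L).ne', Finsupp.add_apply] at this
  omega

theorem sz_equiv {F : Type*} [Field F] [Fintype F] {m : ℕ} (hF : Fintype.card F = 2 ^ (2 * m + 1))
    (h : Lie.IsoSuzuki G) (c : Nat.card G = Nat.card (Lie.Sz F (2 ^ (m + 1)))) :
    Nonempty (G ≃* Lie.Sz F (2 ^ (m + 1))) := by
  obtain ⟨K, _, _, k, -, hK, ⟨e⟩⟩ := h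
  rw [Nat.card_congr e.toEquiv, CIT.card_sz hK, CIT.card_sz hF] at c
  have := order_injective Nat.one_le_two_pow Nat.one_le_two_pow c
  obtain rfl : k = m := by have := Nat.pow_right_injective le_rfl this; omega
  exact (CIT.sz_congr (hK.trans hF.symm) _).map e.trans

theorem card_dvd_of_coatoms {H : Type*} [Group H] [Finite H] (n : ∀ p, ¬ PiGrp {p} (⊤ : Subgroup H))
    (h : ∀ M : Subgroup H, IsCoatom M → ♯M ∣ Nat.card G) : Nat.card H ∣ Nat.card G := by
  refine (Nat.dvd_iff_prime_pow_dvd_dvd _ _).2 fun p k hp d => ?_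
  obtain ⟨P, s⟩ := exists_syl p (⊤ : Subgroup H)
  obtain ⟨M, hM, l⟩ := (eq_top_or_exists_le_coatom P).resolve_left fun e => n p (e ▸ s.pi)
  exact ((s.dvd_card (card_top (G := H) ▸ d) (piNat_pow_self hp k)).trans (card_dvd_of_le l)).trans (h M hM)

theorem sz_of_coatoms {F : Type*} [Field F] [Fintype F] {m : ℕ} (hm : 1 ≤ m)
    (hF : Fintype.card F = 2 ^ (2 * m + 1)) (h : ∀ k, (∃ M : Subgroup G, IsCoatom M ∧ k = ♯M) ↔
      ∃ M : Subgroup (Lie.Sz F (2 ^ (m + 1))), IsCoatom M ∧ k = ♯M) :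
    Nonempty (G ≃* Lie.Sz F (2 ^ (m + 1))) := by
  have D := lieD F m hF
  have c := Nat.card_eq_fintype_card.trans hF
  have n : ∀ p, ¬ PiGrp {p} (⊤ : Subgroup (Lie.Sz F (2 ^ (m + 1)))) := fun p k =>
    D.not_isSolvable (two_lt_card hm hF) (Ab2.sol_top.1 k.sol)
  have d1 := card_dvd_of_coatoms (G := G) n fun M hM => by
    obtain ⟨N, -, e⟩ := (h _).2 ⟨M, hM, rfl⟩
    exact e ▸ card_subgroup_dvd_card N
  have e := Nat.dvd_antisymm (card_dvd_of_coatoms (H := G) (fun p k => n p (PiNat.dvd k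
    (by rwa [card_top, card_top]))) fun M hM => by
      obtain ⟨N, -, e⟩ := (h _).1 ⟨M, hM, rfl⟩
      exact e ▸ card_subgroup_dvd_card N) d1
  obtain ⟨M₁, h1, c1⟩ := (sz_coatom1 D hm c).elim fun M k => (h _).2 ⟨M, k.1, k.2.symm⟩
  obtain ⟨M₂, h2, c2⟩ := (sz_coatom2 D hm c).elim fun M k => (h _).2 ⟨M, k.1, k.2.symm⟩
  have h3 := e ▸ D.not_three_dvd_card
  exact sz_equiv hF (suz_of_three (sz_recog hm c (by rw [e, D.card_G, mul_right_comm]) h3 h1 h2
    c1.symm c2.symm) h3) e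

end CF.Fgs1
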